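import Groth.Agent.EllLift.K820.ModelHom

/-!
# Base change of the Weierstrass model
-/

set_option autoImplicit false
universe u

open CategoryTheory CategoryTheory.Limits AlgebraicGeometry

namespace K820.EW

open Groth.Agent.VarietyA.Ell (WEq WEqInf sc)

section Alg

variable {A B : Type u} [CommRing A] [CommRing B] {W : WeierstrassCurve A} (φ : A →+* B)
  {D : Type u} [CommRing D]

theorem wEq_map_iff (s : B →+* D) (x y : D) : WEq (W.map φ) s x y ↔ WEq W (s.comp φ) x y := Iff.rfl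

theorem wEqInf_map_iff (s : B →+* D) (x y : D) : WEqInf (W.map φ) s x y ↔ WEqInf W (s.comp φ) x y := Iff.rfl

variable (W)

noncomputable def bU : RU W →+* RU (W.map φ) :=
  liftU ((iU (W.map φ)).comp φ) (xU (W.map φ)) (yU (W.map φ)) ((wEq_map_iff φ _ _ _).mp (wEq_U (W.map φ)))

noncomputable def bC : RC W →+* RC (W.map φ) :=
  liftC ((iC (W.map φ)).comp φ) (zC (W.map φ)) (wC (W.map φ)) ((wEqInf_map_iff φ _ _ _).mp (wEqInf_C (W.map φ)))

noncomputable def bL : RL W →+* RL (W.map φ) :=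
  liftL W ((iL (W.map φ)).comp φ) (xL (W.map φ)) (yL (W.map φ)) (wL (W.map φ))
    ((wEq_map_iff φ _ _ _).mp (wEq_L (W.map φ))) (wL_mul (W.map φ))

theorem bU_i (a : A) : bU W φ (iU W a) = iU (W.map φ) (φ a) := liftU_iU _ _ _ _ a
theorem bU_x : bU W φ (xU W) = xU (W.map φ) := liftU_x _ _ _ _
theorem bU_y : bU W φ (yU W) = yU (W.map φ) := liftU_y _ _ _ _
theorem bC_i (a : A) : bC W φ (iC W a) = iC (W.map φ) (φ a) := liftC_iC _ _ _ _ a
theorem bC_z : bC W φ (zC W) = zC (W.map φ) := liftC_z _ _ _ _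
theorem bC_w : bC W φ (wC W) = wC (W.map φ) := liftC_w _ _ _ _
theorem bL_i (a : A) : bL W φ (iL W a) = iL (W.map φ) (φ a) := liftL_i _ _ _ _ _ _ a
theorem bL_x : bL W φ (xL W) = xL (W.map φ) := liftL_x _ _ _ _ _ _
theorem bL_y : bL W φ (yL W) = yL (W.map φ) := liftL_y _ _ _ _ _ _
theorem bL_w : bL W φ (wL W) = wL (W.map φ) := liftL_w _ _ _ _ _ _
theorem bL_z : bL W φ (zL W) = zL (W.map φ) := liftL_z _ _ _ _ _ _ (zL_mul _)
theorem resC_i (a : A) : resC W (iC W a) = iL W a := liftC_iC _ _ _ _ a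
theorem resC_z : resC W (zC W) = zL W := liftC_z _ _ _ _
theorem resC_w : resC W (wC W) = wL W := liftC_w _ _ _ _

theorem bL_comp_alg : (bL W φ).comp (algebraMap (RU W) (RL W)) =
    (algebraMap (RU (W.map φ)) (RL (W.map φ))).comp (bU W φ) := by
  apply hom_ext_U
  · ext a
    change bL W φ (iL W a) = algebraMap _ _ (bU W φ (iU W a))
    rw [bL_i, bU_i]
    rfl
  · change bL W φ (xL W) = algebraMap _ _ (bU W φ (xU W))
    rw [bL_x, bU_x]
    rfl
  · change bL W φ (yL W) = algebraMap _ _ (bU W φ (yU W))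
    rw [bL_y, bU_y]
    rfl

theorem bL_comp_resC : (bL W φ).comp (resC W) = (resC (W.map φ)).comp (bC W φ) := by
  apply hom_ext_C
  · ext a
    change bL W φ (resC W (iC W a)) = resC (W.map φ) (bC W φ (iC W a))
    rw [resC_i, bL_i, bC_i, resC_i]
  · change bL W φ (resC W (zC W)) = resC (W.map φ) (bC W φ (zC W))
    rw [resC_z, bL_z, bC_z, resC_z]
  · change bL W φ (resC W (wC W)) = resC (W.map φ) (bC W φ (wC W))
    rw [resC_w, bL_w, bC_w, resC_w]

theorem isPushout_U : IsPushout (CommRingCat.ofHom φ) (CommRingCat.ofHom (iU W))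
    (CommRingCat.ofHom (iU (W.map φ))) (CommRingCat.ofHom (bU W φ)) := by
  have hw : CommRingCat.ofHom φ ≫ CommRingCat.ofHom (iU (W.map φ)) =
      CommRingCat.ofHom (iU W) ≫ CommRingCat.ofHom (bU W φ) := by
    ext a
    change iU (W.map φ) (φ a) = bU W φ (iU W a)
    rw [bU_i]
  have hE : ∀ s : PushoutCocone (CommRingCat.ofHom φ) (CommRingCat.ofHom (iU W)),
      WEq (W.map φ) s.inl.hom (s.inr (xU W)) (s.inr (yU W)) := by
    intro s
    rw [wEq_map_iff]
    have h1 : s.inl.hom.comp φ = s.inr.hom.comp (iU W) := congrArg CommRingCat.Hom.hom s.condition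
    rw [h1]
    exact wEq_map (wEq_U W) s.inr.hom
  refine IsPushout.of_isColimit' ⟨hw⟩ (PushoutCocone.IsColimit.mk _
    (fun s => CommRingCat.ofHom (liftU (W := W.map φ) s.inl.hom (s.inr (xU W)) (s.inr (yU W)) (hE s))) ?_ ?_ ?_)
  · intro s
    ext a
    exact liftU_iU (W := W.map φ) _ _ _ (hE s) a
  · intro s
    ext1
    apply hom_ext_U
    · ext a
      change liftU (W := W.map φ) s.inl.hom _ _ (hE s) (bU W φ (iU W a)) = s.inr.hom (iU W a)
      have h1 : s.inl.hom.comp φ = s.inr.hom.comp (iU W) := congrArg CommRingCat.Hom.hom s.condition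
      rw [bU_i]
      exact (liftU_iU (W := W.map φ) _ _ _ (hE s) (φ a)).trans (congrArg (fun t : A →+* _ => t a) h1)
    · change liftU (W := W.map φ) s.inl.hom _ _ (hE s) (bU W φ (xU W)) = s.inr.hom (xU W)
      rw [bU_x, liftU_x]
    · change liftU (W := W.map φ) s.inl.hom _ _ (hE s) (bU W φ (yU W)) = s.inr.hom (yU W)
      rw [bU_y, liftU_y]
  · intro s m h1 h2
    ext1
    apply hom_ext_U
    · ext a
      refine (congrArg (fun t : CommRingCat.of B ⟶ s.pt => t a) h1).trans ?_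
      exact (liftU_iU (W := W.map φ) _ _ _ (hE s) a).symm
    · change m (xU (W.map φ)) = liftU (W := W.map φ) s.inl.hom _ _ (hE s) (xU (W.map φ))
      rw [liftU_x]
      refine Eq.trans ?_ (congrArg (fun t : CommRingCat.of (RU W) ⟶ s.pt => t (xU W)) h2)
      change m (xU (W.map φ)) = m (bU W φ (xU W))
      rw [bU_x]
    · change m (yU (W.map φ)) = liftU (W := W.map φ) s.inl.hom _ _ (hE s) (yU (W.map φ))
      rw [liftU_y]
      refine Eq.trans ?_ (congrArg (fun t : CommRingCat.of (RU W) ⟶ s.pt => t (yU W)) h2)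
      change m (yU (W.map φ)) = m (bU W φ (yU W))
      rw [bU_y]

theorem isPushout_C : IsPushout (CommRingCat.ofHom φ) (CommRingCat.ofHom (iC W))
    (CommRingCat.ofHom (iC (W.map φ))) (CommRingCat.ofHom (bC W φ)) := by
  have hw : CommRingCat.ofHom φ ≫ CommRingCat.ofHom (iC (W.map φ)) =
      CommRingCat.ofHom (iC W) ≫ CommRingCat.ofHom (bC W φ) := by
    ext a
    change iC (W.map φ) (φ a) = bC W φ (iC W a)
    rw [bC_i]
  have hE : ∀ s : PushoutCocone (CommRingCat.ofHom φ) (CommRingCat.ofHom (iC W)),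
      WEqInf (W.map φ) s.inl.hom (s.inr (zC W)) (s.inr (wC W)) := by
    intro s
    rw [wEqInf_map_iff]
    have h1 : s.inl.hom.comp φ = s.inr.hom.comp (iC W) := congrArg CommRingCat.Hom.hom s.condition
    rw [h1]
    exact wEqInf_map (wEqInf_C W) s.inr.hom
  refine IsPushout.of_isColimit' ⟨hw⟩ (PushoutCocone.IsColimit.mk _
    (fun s => CommRingCat.ofHom (liftC (W := W.map φ) s.inl.hom (s.inr (zC W)) (s.inr (wC W)) (hE s))) ?_ ?_ ?_)
  · intro s
    ext a
    exact liftC_iC (W := W.map φ) _ _ _ (hE s) a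
  · intro s
    ext1
    apply hom_ext_C
    · ext a
      change liftC (W := W.map φ) s.inl.hom _ _ (hE s) (bC W φ (iC W a)) = s.inr.hom (iC W a)
      have h1 : s.inl.hom.comp φ = s.inr.hom.comp (iC W) := congrArg CommRingCat.Hom.hom s.condition
      rw [bC_i]
      exact (liftC_iC (W := W.map φ) _ _ _ (hE s) (φ a)).trans (congrArg (fun t : A →+* _ => t a) h1)
    · change liftC (W := W.map φ) s.inl.hom _ _ (hE s) (bC W φ (zC W)) = s.inr.hom (zC W)
      rw [bC_z, liftC_z]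
    · change liftC (W := W.map φ) s.inl.hom _ _ (hE s) (bC W φ (wC W)) = s.inr.hom (wC W)
      rw [bC_w, liftC_w]
  · intro s m h1 h2
    ext1
    apply hom_ext_C
    · ext a
      refine (congrArg (fun t : CommRingCat.of B ⟶ s.pt => t a) h1).trans ?_
      exact (liftC_iC (W := W.map φ) _ _ _ (hE s) a).symm
    · change m (zC (W.map φ)) = liftC (W := W.map φ) s.inl.hom _ _ (hE s) (zC (W.map φ))
      rw [liftC_z]
      refine Eq.trans ?_ (congrArg (fun t : CommRingCat.of (RC W) ⟶ s.pt => t (zC W)) h2)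
      change m (zC (W.map φ)) = m (bC W φ (zC W))
      rw [bC_z]
    · change m (wC (W.map φ)) = liftC (W := W.map φ) s.inl.hom _ _ (hE s) (wC (W.map φ))
      rw [liftC_w]
      refine Eq.trans ?_ (congrArg (fun t : CommRingCat.of (RC W) ⟶ s.pt => t (wC W)) h2)
      change m (wC (W.map φ)) = m (bC W φ (wC W))
      rw [bC_w]

end Alg

section Range

variable {A : Type u} [CommRing A] (W : WeierstrassCurve A)

theorem range_jU (a : Spec (CommRingCat.of (RU W))) : (∃ t, jU W t = a) ↔ yU W ∉ a.asIdeal := by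
  have h := PrimeSpectrum.localization_away_comap_range (RL W) (yU W)
  have h2 := Set.ext_iff.mp h a
  exact h2

theorem range_jC (a : Spec (CommRingCat.of (RC W))) : (∃ t, jC W t = a) ↔ wC W ∉ a.asIdeal := by
  let _ : Algebra (RC W) (RL W) := (resC W).toAlgebra
  have := isLocalization_resC W
  have h := PrimeSpectrum.localization_away_comap_range (RL W) (wC W)
  have h2 := Set.ext_iff.mp h a
  exact h2

/-- A point of the affine chart lies in the chart at infinity iff `y` is invertible there. -/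
theorem ιU_mem_range_ιC (a : Spec (CommRingCat.of (RU W))) :
    ιU W a ∈ (ιC W).opensRange ↔ yU W ∉ a.asIdeal := by
  rw [← range_jU]
  constructor
  · rintro ⟨b, hb⟩
    obtain ⟨t, h1, -⟩ := (eq_iff W).mp hb.symm
    exact ⟨t, h1⟩
  · rintro ⟨t, rfl⟩
    exact ⟨jC W t, ((eq_iff W).mpr ⟨t, rfl, rfl⟩).symm⟩

theorem ιC_mem_range_ιU (a : Spec (CommRingCat.of (RC W))) :
    ιC W a ∈ (ιU W).opensRange ↔ wC W ∉ a.asIdeal := by
  rw [← range_jC]
  constructor
  · rintro ⟨b, hb⟩
    obtain ⟨t, -, h1⟩ := (eq_iff W).mp hb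
    exact ⟨t, h1⟩
  · rintro ⟨t, rfl⟩
    exact ⟨jU W t, ((eq_iff W).mpr ⟨t, rfl, rfl⟩)⟩

end Range

section BC

variable {A B : Type u} [CommRing A] [CommRing B] (W : WeierstrassCurve A) (φ : A →+* B)

/-- The base change morphism. -/
noncomputable def bc : E (W.map φ) ⟶ E W :=
  GlueTwo.desc (Spec.map (CommRingCat.ofHom (bU W φ)) ≫ ιU W) (Spec.map (CommRingCat.ofHom (bC W φ)) ≫ ιC W) (by
    have h1 : jU (W.map φ) ≫ Spec.map (CommRingCat.ofHom (bU W φ)) =
        Spec.map (CommRingCat.ofHom (bL W φ)) ≫ jU W := by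
      rw [jU, jU, ← Spec.map_comp, ← Spec.map_comp, ← CommRingCat.ofHom_comp, ← CommRingCat.ofHom_comp,
        bL_comp_alg]
    have h2 : jC (W.map φ) ≫ Spec.map (CommRingCat.ofHom (bC W φ)) =
        Spec.map (CommRingCat.ofHom (bL W φ)) ≫ jC W := by
      rw [jC, jC, ← Spec.map_comp, ← Spec.map_comp, ← CommRingCat.ofHom_comp, ← CommRingCat.ofHom_comp,
        bL_comp_resC]
    rw [reassoc_of% h1, reassoc_of% h2, jU_ιU])

@[reassoc]
theorem ιU_bc : ιU (W.map φ) ≫ bc W φ = Spec.map (CommRingCat.ofHom (bU W φ)) ≫ ιU W := GlueTwo.i₁_desc _ _ _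

@[reassoc]
theorem ιC_bc : ιC (W.map φ) ≫ bc W φ = Spec.map (CommRingCat.ofHom (bC W φ)) ≫ ιC W := GlueTwo.i₂_desc _ _ _

theorem bc_ιU (a : Spec (CommRingCat.of (RU (W.map φ)))) :
    bc W φ (ιU (W.map φ) a) = ιU W (Spec.map (CommRingCat.ofHom (bU W φ)) a) := by
  rw [← Scheme.Hom.comp_apply, ← Scheme.Hom.comp_apply, ιU_bc]

theorem bc_ιC (a : Spec (CommRingCat.of (RC (W.map φ)))) :
    bc W φ (ιC (W.map φ) a) = ιC W (Spec.map (CommRingCat.ofHom (bC W φ)) a) := by
  rw [← Scheme.Hom.comp_apply, ← Scheme.Hom.comp_apply, ιC_bc]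

theorem isPullback_bc_U : IsPullback (Spec.map (CommRingCat.ofHom (bU W φ))) (ιU (W.map φ)) (ιU W) (bc W φ) := by
  refine IsOpenImmersion.isPullback _ _ _ _ (ιU_bc W φ) ?_
  ext e
  constructor
  · intro he
    rcases exists_preimage (W.map φ) e with ⟨a, rfl⟩ | ⟨a, rfl⟩
    · exact ⟨a, rfl⟩
    · have h1 : ιC W (Spec.map (CommRingCat.ofHom (bC W φ)) a) ∈ (ιU W).opensRange := by
        rw [← bc_ιC]; exact he
      rw [ιC_mem_range_ιU] at h1
      change ιC (W.map φ) a ∈ (ιU (W.map φ)).opensRange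
      rw [ιC_mem_range_ιU]
      intro h2
      apply h1
      exact (congrArg (fun r => r ∈ a.asIdeal) (bC_w W φ)).mpr h2
  · rintro ⟨a, rfl⟩
    change bc W φ (ιU (W.map φ) a) ∈ (ιU W).opensRange
    rw [bc_ιU]
    exact ⟨_, rfl⟩

theorem isPullback_bc_C : IsPullback (Spec.map (CommRingCat.ofHom (bC W φ))) (ιC (W.map φ)) (ιC W) (bc W φ) := by
  refine IsOpenImmersion.isPullback _ _ _ _ (ιC_bc W φ) ?_
  ext e
  constructor
  · intro he
    rcases exists_preimage (W.map φ) e with ⟨a, rfl⟩ | ⟨a, rfl⟩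
    · have h1 : ιU W (Spec.map (CommRingCat.ofHom (bU W φ)) a) ∈ (ιC W).opensRange := by
        rw [← bc_ιU]; exact he
      rw [ιU_mem_range_ιC] at h1
      change ιU (W.map φ) a ∈ (ιC (W.map φ)).opensRange
      rw [ιU_mem_range_ιC]
      intro h2
      apply h1
      exact (congrArg (fun r => r ∈ a.asIdeal) (bU_y W φ)).mpr h2
    · exact ⟨a, rfl⟩
  · rintro ⟨a, rfl⟩
    change bc W φ (ιC (W.map φ) a) ∈ (ιC W).opensRange
    rw [bc_ιC]
    exact ⟨_, rfl⟩

theorem isPullback_spec_U : IsPullback (Spec.map (CommRingCat.ofHom (bU W φ)))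
    (Spec.map (CommRingCat.ofHom (iU (W.map φ)))) (Spec.map (CommRingCat.ofHom (iU W)))
    (Spec.map (CommRingCat.ofHom φ)) :=
  isPullback_SpecMap_of_isPushout _ _ _ _ (isPushout_U W φ).flip

theorem isPullback_spec_C : IsPullback (Spec.map (CommRingCat.ofHom (bC W φ)))
    (Spec.map (CommRingCat.ofHom (iC (W.map φ)))) (Spec.map (CommRingCat.ofHom (iC W)))
    (Spec.map (CommRingCat.ofHom φ)) :=
  isPullback_SpecMap_of_isPushout _ _ _ _ (isPushout_C W φ).flip

theorem isPullback_bc : IsPullback (bc W φ) (str (W.map φ)) (str W) (Spec.map (CommRingCat.ofHom φ)) := by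
  have aux : ∀ {V V' : Scheme.{u}} (j : V ⟶ E W) (j' : V' ⟶ E (W.map φ)) (g : V' ⟶ V)
      (_ : IsPullback g j' j (bc W φ)) (_ : IsPullback g (j' ≫ str (W.map φ)) (j ≫ str W)
        (Spec.map (CommRingCat.ofHom φ))), IsPullback (pullback.snd (bc W φ) j)
          (pullback.fst (bc W φ) j ≫ str (W.map φ)) (j ≫ str W) (Spec.map (CommRingCat.ofHom φ)) := by
    intro V V' j j' g h1 h2
    refine IsPullback.of_iso h2 (h1.flip.isoPullback) (Iso.refl _) (Iso.refl _) (Iso.refl _) ?_ ?_ ?_ ?_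
    · simp
    · simp
    · simp
    · simp
  refine Scheme.isPullback_of_openCover _ _ _ _ (cover W) ?_
  rintro (_ | _)
  · refine aux (ιU W) _ _ (isPullback_bc_U W φ) ?_
    rw [ιU_str, ιU_str]
    exact isPullback_spec_U W φ
  · refine aux (ιC W) _ _ (isPullback_bc_C W φ) ?_
    rw [ιC_str, ιC_str]
    exact isPullback_spec_C W φ

end BC

end K820.EW
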