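import Groth.Agent.EllLift.K820.ModelHom
import Mathlib.AlgebraicGeometry.Morphisms.FinitePresentation
import Mathlib.RingTheory.FinitePresentation

/-!
# The Weierstrass model is locally of finite presentation
-/

set_option autoImplicit false
universe u

open CategoryTheory CategoryTheory.Limits AlgebraicGeometry Polynomial

namespace K820.EW

variable {A : Type u} [CommRing A] (W : WeierstrassCurve A)

theorem iU_fp : (iU W).FinitePresentation := by
  refine RingHom.FinitePresentation.comp (g := AdjoinRoot.of (polU W)) (f := (C : A →+* A[X])) ?_ ?_
  · have : Algebra.FinitePresentation A[X] (AdjoinRoot (polU W)) := inferInstance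
    have h : algebraMap A[X] (AdjoinRoot (polU W)) = AdjoinRoot.of (polU W) := rfl
    rw [← h, RingHom.finitePresentation_algebraMap]
    exact this
  · have : Algebra.FinitePresentation A A[X] := inferInstance
    have h : algebraMap A A[X] = C := rfl
    rw [← h, RingHom.finitePresentation_algebraMap]
    exact this

theorem iC_fp : (iC W).FinitePresentation := by
  refine RingHom.FinitePresentation.comp (g := AdjoinRoot.of (polC W)) (f := (C : A →+* A[X])) ?_ ?_
  · have : Algebra.FinitePresentation A[X] (AdjoinRoot (polC W)) := inferInstance
    have h : algebraMap A[X] (AdjoinRoot (polC W)) = AdjoinRoot.of (polC W) := rfl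
    rw [← h, RingHom.finitePresentation_algebraMap]
    exact this
  · have : Algebra.FinitePresentation A A[X] := inferInstance
    have h : algebraMap A A[X] = C := rfl
    rw [← h, RingHom.finitePresentation_algebraMap]
    exact this

instance : LocallyOfFinitePresentation (str W) := by
  have : IsZariskiLocalAtSource @LocallyOfFinitePresentation :=
    HasRingHomProperty.instIsZariskiLocalAtSource (P := @LocallyOfFinitePresentation)
      (Q := RingHom.FinitePresentation)
  rw [IsZariskiLocalAtSource.iff_of_openCover (P := @LocallyOfFinitePresentation) (cover W)]
  rintro (_ | _)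
  · change LocallyOfFinitePresentation (ιU W ≫ str W)
    rw [ιU_str, LocallyOfFinitePresentation.SpecMap_iff]
    exact iU_fp W
  · change LocallyOfFinitePresentation (ιC W ≫ str W)
    rw [ιC_str, LocallyOfFinitePresentation.SpecMap_iff]
    exact iC_fp W

end K820.EW
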