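import Groth.Agent.EllLift.K820.ModelPull
import Mathlib.AlgebraicGeometry.Morphisms.Affine
import Mathlib.AlgebraicGeometry.PullbackCarrier

/-!
# Sections and base change of affine opens
-/

set_option autoImplicit false
universe u

open CategoryTheory CategoryTheory.Limits AlgebraicGeometry

namespace K820.EW

open Groth.Agent.VarietyA.Ell (WEq WEqInf sc)

theorem fromSpec_comp {A : Type u} [CommRing A] {X : Scheme.{u}} (q : X ⟶ Spec (CommRingCat.of A))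
    {V : X.Opens} (hV : IsAffineOpen V) : hV.fromSpec ≫ q = Spec.map (CommRingCat.ofHom (sc q V)) := by
  have h1 := toSpecΓ_sc q V
  have h2 : hV.fromSpec = hV.isoSpec.inv ≫ V.ι := rfl
  rw [h2, Category.assoc, ← h1, ← Category.assoc, hV.isoSpec_inv_toSpecΓ, Category.id_comp]

section PB

variable {A B : Type u} [CommRing A] [CommRing B] {φ : A →+* B} {X X' : Scheme.{u}} {g : X' ⟶ X}
  {q' : X' ⟶ Spec (CommRingCat.of B)} {q : X ⟶ Spec (CommRingCat.of A)}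
  (hP : IsPullback g q' q (Spec.map (CommRingCat.ofHom φ)))

include hP in
theorem isAffineOpen_preimage {V : X.Opens} (hV : IsAffineOpen V) : IsAffineOpen (g ⁻¹ᵁ V) := by
  have : IsAffineHom g := MorphismProperty.of_isPullback (P := @IsAffineHom) hP.flip inferInstance
  exact hV.preimage g

include hP in
/-- Sections of the base change over an affine open are determined by pulled back sections and scalars. -/
theorem hom_ext_preimage {V : X.Opens} (hV : IsAffineOpen V) {R : Type u} [CommRing R]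
    {α β : Γ(X', g ⁻¹ᵁ V) →+* R} (h1 : α.comp (g.app V).hom = β.comp (g.app V).hom)
    (h2 : α.comp (sc q' (g ⁻¹ᵁ V)) = β.comp (sc q' (g ⁻¹ᵁ V))) : α = β := by
  have hV' := isAffineOpen_preimage hP hV
  have key : ∀ γ : Γ(X', g ⁻¹ᵁ V) →+* R, (Spec.map (CommRingCat.ofHom γ) ≫ hV'.fromSpec) ≫ g =
      Spec.map (CommRingCat.ofHom (γ.comp (g.app V).hom)) ≫ hV.fromSpec := by
    intro γ
    rw [Category.assoc, ← hV.SpecMap_appLE_fromSpec g hV' le_rfl, ← Category.assoc, ← Spec.map_comp,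
      Scheme.Hom.app_eq_appLE]
    rfl
  have key2 : ∀ γ : Γ(X', g ⁻¹ᵁ V) →+* R, (Spec.map (CommRingCat.ofHom γ) ≫ hV'.fromSpec) ≫ q' =
      Spec.map (CommRingCat.ofHom (γ.comp (sc q' (g ⁻¹ᵁ V)))) := by
    intro γ
    rw [Category.assoc, fromSpec_comp, ← Spec.map_comp]
    rfl
  have h3 : Spec.map (CommRingCat.ofHom α) ≫ hV'.fromSpec = Spec.map (CommRingCat.ofHom β) ≫ hV'.fromSpec := by
    apply hP.hom_ext
    · rw [key, key, h1]
    · rw [key2, key2, h2]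
  rw [cancel_mono] at h3
  exact congrArg CommRingCat.Hom.hom (Spec.map_injective h3)

end PB

section Ev

variable {A : Type u} [CommRing A] {X : Scheme.{u}} (e : Spec (CommRingCat.of A) ⟶ X)

/-- Evaluation of sections along a section of the structure morphism. -/
noncomputable def ev (V : X.Opens) (h : ⊤ ≤ e ⁻¹ᵁ V) : Γ(X, V) →+* A :=
  (e.appLE V ⊤ h ≫ (Scheme.ΓSpecIso (CommRingCat.of A)).hom).hom

theorem ev_res {V V' : X.Opens} (i : V' ≤ V) (h : ⊤ ≤ e ⁻¹ᵁ V') (h' : ⊤ ≤ e ⁻¹ᵁ V) (a : Γ(X, V)) :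
    ev e V' h (X.presheaf.map (homOfLE i).op a) = ev e V h' a := by
  have h1 := Scheme.Hom.map_appLE e h (homOfLE i).op
  have h2 := h1 =≫ (Scheme.ΓSpecIso (CommRingCat.of A)).hom
  rw [Category.assoc] at h2
  exact congrArg (fun t : Γ(X, V) ⟶ CommRingCat.of A => t a) h2

theorem ev_sc (q : X ⟶ Spec (CommRingCat.of A)) (he : e ≫ q = 𝟙 _) (V : X.Opens) (h : ⊤ ≤ e ⁻¹ᵁ V) (a : A) :
    ev e V h (sc q V a) = a := by
  have h1 : q.appLE ⊤ V (le_pre V q) ≫ e.appLE V ⊤ h = (e ≫ q).appLE ⊤ ⊤ (le_pre _ _) :=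
    Scheme.Hom.appLE_comp_appLE _ _ _ _ _ _ _
  have h2 : (e ≫ q).appLE ⊤ ⊤ (le_pre _ _) = 𝟙 _ := by
    have : ∀ (f : Spec (CommRingCat.of A) ⟶ Spec (CommRingCat.of A)) (_ : f = 𝟙 _)
        (h : ⊤ ≤ f ⁻¹ᵁ ⊤), f.appLE ⊤ ⊤ h = 𝟙 _ := by
      rintro f rfl h
      exact (Scheme.Hom.app_eq_appLE (𝟙 (Spec (CommRingCat.of A))) (U := ⊤)).symm.trans (Scheme.Hom.id_app _)
    exact this _ he _
  have h3 : (Scheme.ΓSpecIso (CommRingCat.of A)).inv ≫ q.appLE ⊤ V (le_pre V q) ≫ e.appLE V ⊤ h ≫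
      (Scheme.ΓSpecIso (CommRingCat.of A)).hom = 𝟙 _ := by
    rw [reassoc_of% h1, h2, Category.id_comp, Iso.inv_hom_id]
  exact congrArg (fun t : CommRingCat.of A ⟶ CommRingCat.of A => t a) h3

theorem ev_app {B : Type u} [CommRing B] {φ : A →+* B} {X' : Scheme.{u}} {g : X' ⟶ X}
    {e' : Spec (CommRingCat.of B) ⟶ X'} (hc : e' ≫ g = Spec.map (CommRingCat.ofHom φ) ≫ e)
    (V : X.Opens) (h : ⊤ ≤ e ⁻¹ᵁ V) (h' : ⊤ ≤ e' ⁻¹ᵁ (g ⁻¹ᵁ V)) (a : Γ(X, V)) :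
    ev e' (g ⁻¹ᵁ V) h' (g.app V a) = φ (ev e V h a) := by
  have h1 : g.app V ≫ e'.appLE (g ⁻¹ᵁ V) ⊤ h' = (e' ≫ g).appLE V ⊤ h' := by
    rw [Scheme.Hom.app_eq_appLE]
    exact Scheme.Hom.appLE_comp_appLE _ _ _ _ _ _ _
  have h2 : e.appLE V ⊤ h ≫ (Spec.map (CommRingCat.ofHom φ)).appLE ⊤ ⊤ (le_pre _ _) =
      (Spec.map (CommRingCat.ofHom φ) ≫ e).appLE V ⊤ (by rw [← hc]; exact h') :=
    Scheme.Hom.appLE_comp_appLE _ _ _ _ _ _ _
  have h3 : (e' ≫ g).appLE V ⊤ h' = (Spec.map (CommRingCat.ofHom φ) ≫ e).appLE V ⊤ (by rw [← hc]; exact h') := by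
    have : ∀ (f f' : Spec (CommRingCat.of B) ⟶ X) (_ : f = f') (h : ⊤ ≤ f ⁻¹ᵁ V) (h' : ⊤ ≤ f' ⁻¹ᵁ V),
        f.appLE V ⊤ h = f'.appLE V ⊤ h' := by
      rintro f _ rfl h h'; rfl
    exact this _ _ hc _ _
  have h4 : (Spec.map (CommRingCat.ofHom φ)).appLE ⊤ ⊤ (le_pre _ _) ≫ (Scheme.ΓSpecIso (CommRingCat.of B)).hom =
      (Scheme.ΓSpecIso (CommRingCat.of A)).hom ≫ CommRingCat.ofHom φ := by
    rw [← Scheme.ΓSpecIso_naturality, Scheme.Hom.appTop, Scheme.Hom.app_eq_appLE]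
    rfl
  have h5 : g.app V ≫ e'.appLE (g ⁻¹ᵁ V) ⊤ h' ≫ (Scheme.ΓSpecIso (CommRingCat.of B)).hom =
      e.appLE V ⊤ h ≫ (Scheme.ΓSpecIso (CommRingCat.of A)).hom ≫ CommRingCat.ofHom φ := by
    rw [reassoc_of% h1, h3, ← h2, Category.assoc, h4]
  exact congrArg (fun t : Γ(X, V) ⟶ CommRingCat.of B => t a) h5

end Ev

section Ker

variable {A B : Type u} [CommRing A] [CommRing B] {φ : A →+* B} {X X' : Scheme.{u}} {g : X' ⟶ X}
  {q' : X' ⟶ Spec (CommRingCat.of B)} {q : X ⟶ Spec (CommRingCat.of A)}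
  (hP : IsPullback g q' q (Spec.map (CommRingCat.ofHom φ)))
  (e : Spec (CommRingCat.of A) ⟶ X) (he : e ≫ q = 𝟙 _)
  (e' : Spec (CommRingCat.of B) ⟶ X') (he' : e' ≫ q' = 𝟙 _)
  (hc : e' ≫ g = Spec.map (CommRingCat.ofHom φ) ≫ e)

include hP he he' hc in
theorem dvd_of_ev_eq_zero {V : X.Opens} (hV : IsAffineOpen V) (h : ⊤ ≤ e ⁻¹ᵁ V)
    (h' : ⊤ ≤ e' ⁻¹ᵁ (g ⁻¹ᵁ V)) (z : Γ(X, V)) (hz : ∀ b, ev e V h b = 0 → z ∣ b)
    (b : Γ(X', g ⁻¹ᵁ V)) (hb : ev e' (g ⁻¹ᵁ V) h' b = 0) : g.app V z ∣ b := by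
  let I : Ideal Γ(X', g ⁻¹ᵁ V) := Ideal.span {g.app V z}
  have h1 : Ideal.Quotient.mk I = ((Ideal.Quotient.mk I).comp (sc q' (g ⁻¹ᵁ V))).comp (ev e' (g ⁻¹ᵁ V) h') := by
    apply hom_ext_preimage hP hV
    · ext v
      change Ideal.Quotient.mk I (g.app V v) = Ideal.Quotient.mk I (sc q' _ (ev e' _ h' (g.app V v)))
      rw [ev_app e hc V h h', Ideal.Quotient.eq]
      have h2 : sc q' (g ⁻¹ᵁ V) (φ (ev e V h v)) = g.app V (sc q V (ev e V h v)) :=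
        (congrArg (fun t : A →+* _ => t (ev e V h v)) (app_sc φ hP.w V)).symm
      rw [h2, ← map_sub, Ideal.mem_span_singleton]
      apply map_dvd (g.app V).hom
      apply hz
      rw [map_sub, ev_sc e q he, sub_self]
    · ext k
      change _ = Ideal.Quotient.mk I (sc q' _ (ev e' _ h' (sc q' _ k)))
      rw [ev_sc e' q' he']
      rfl
  have h2 := congrArg (fun t : Γ(X', g ⁻¹ᵁ V) →+* _ => t b) h1
  change Ideal.Quotient.mk I b = Ideal.Quotient.mk I (sc q' _ (ev e' _ h' b)) at h2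
  rw [hb, map_zero, map_zero, Ideal.Quotient.eq_zero_iff_mem, Ideal.mem_span_singleton] at h2
  exact h2

end Ker

end K820.EW
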