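import Mathlib.AlgebraicGeometry.Morphisms.FlatMono
import Mathlib.AlgebraicGeometry.Morphisms.IsIso

/-!
# Stalk maps of morphisms to a spectrum given by ring homomorphisms on an open
-/

set_option autoImplicit false
universe u

open CategoryTheory CategoryTheory.Limits AlgebraicGeometry

namespace K820.StalkSpec

variable {X : Scheme.{u}} {R : Type u} [CommRing R]

/-- the map `R → O_{Spec R, p}` -/
noncomputable def toSt (p : Spec (CommRingCat.of R)) : R →+* (Spec (CommRingCat.of R)).presheaf.stalk p :=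
  ((Scheme.ΓSpecIso (CommRingCat.of R)).inv ≫ (Spec (CommRingCat.of R)).presheaf.germ ⊤ p trivial).hom

theorem topIso_inv_germ (V : X.Opens) (y : V.toScheme) :
    V.topIso.inv ≫ V.toScheme.presheaf.germ ⊤ y trivial =
      X.presheaf.germ V (V.ι y) y.2 ≫ V.ι.stalkMap y := by
  rw [Scheme.Hom.germ_stalkMap V.ι V y y.2]
  have h1 : V.topIso.inv = V.ι.app V ≫ V.toScheme.presheaf.map
      (homOfLE (le_of_eq V.ι_preimage_self.symm)).op := by
    rw [Scheme.Opens.topIso_inv, Scheme.Opens.ι_app, Scheme.Opens.toScheme_presheaf_map]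
    exact Eq.trans rfl (X.presheaf.map_comp _ _)
  rw [h1, Category.assoc]
  congr 1
  exact V.toScheme.presheaf.germ_res (homOfLE _) _ _

theorem stalkMap_toSt (V : X.Opens) (y : V.toScheme) (ℓ : R →+* Γ(X, V)) (r : R) :
    (V.toSpecΓ ≫ Spec.map (CommRingCat.ofHom ℓ)).stalkMap y (toSt _ r) =
      V.ι.stalkMap y (X.presheaf.germ V (V.ι y) y.2 (ℓ r)) := by
  let f : V.toScheme ⟶ Spec (CommRingCat.of R) := V.toSpecΓ ≫ Spec.map (CommRingCat.ofHom ℓ)
  have h1 : (Scheme.ΓSpecIso (CommRingCat.of R)).inv ≫ f.appTop = CommRingCat.ofHom ℓ ≫ V.topIso.inv := by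
    rw [Scheme.Hom.comp_appTop, ← Category.assoc, ← Scheme.ΓSpecIso_inv_naturality, Category.assoc,
      Scheme.Opens.toSpecΓ_appTop, Iso.inv_hom_id_assoc]
  have h2 : (Scheme.ΓSpecIso (CommRingCat.of R)).inv ≫
      (Spec (CommRingCat.of R)).presheaf.germ ⊤ (f y) trivial ≫ f.stalkMap y =
      CommRingCat.ofHom ℓ ≫ X.presheaf.germ V (V.ι y) y.2 ≫ V.ι.stalkMap y := by
    rw [← topIso_inv_germ, ← Category.assoc (CommRingCat.ofHom ℓ), ← h1, Category.assoc]
    congr 1
    exact Scheme.Hom.germ_stalkMap f ⊤ y trivial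
  exact congrArg (fun t : CommRingCat.of R ⟶ _ => t r) h2

theorem isLocalization_toSt (p : PrimeSpectrum R) :
    @IsLocalization R _ p.asIdeal.primeCompl ((Spec (CommRingCat.of R)).presheaf.stalk p) _
      (toSt p).toAlgebra :=
  StructureSheaf.IsLocalization.to_stalk R p

theorem hom_ext_toSt {p : PrimeSpectrum R} {B : Type u} [CommRing B]
    {f g : (Spec (CommRingCat.of R)).presheaf.stalk p →+* B} (h : f.comp (toSt p) = g.comp (toSt p)) : f = g := by
  let _ := (toSt p).toAlgebra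
  have := isLocalization_toSt p
  exact IsLocalization.ringHom_ext p.asIdeal.primeCompl h

theorem toSt_mem_iff (p : Spec (CommRingCat.of R)) (r : R) :
    toSt p r ∈ IsLocalRing.maximalIdeal ((Spec (CommRingCat.of R)).presheaf.stalk p) ↔
      r ∈ PrimeSpectrum.asIdeal p := by
  let _ := (toSt p).toAlgebra
  have := isLocalization_toSt p
  have : (PrimeSpectrum.asIdeal p).IsPrime := PrimeSpectrum.isPrime p
  exact IsLocalization.AtPrime.to_map_mem_maximal_iff ((Spec (CommRingCat.of R)).presheaf.stalk p)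
    (PrimeSpectrum.asIdeal p) r

theorem mem_asIdeal_iff (V : X.Opens) (y : V.toScheme) (ℓ : R →+* Γ(X, V)) (r : R) :
    r ∈ PrimeSpectrum.asIdeal ((V.toSpecΓ ≫ Spec.map (CommRingCat.ofHom ℓ)) y) ↔
      X.presheaf.germ V (V.ι y) y.2 (ℓ r) ∈ IsLocalRing.maximalIdeal (X.presheaf.stalk (V.ι y)) := by
  have key : ∀ {A B : Type u} [CommRing A] [CommRing B] [IsLocalRing A] [IsLocalRing B] (g : A →+* B)
      [IsLocalHom g] (a : A), g a ∈ IsLocalRing.maximalIdeal B ↔ a ∈ IsLocalRing.maximalIdeal A := by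
    intro A B _ _ _ _ g _ a
    rw [← IsLocalRing.maximalIdeal_comap g, Ideal.mem_comap]
  have h1 := key ((V.toSpecΓ ≫ Spec.map (CommRingCat.ofHom ℓ)).stalkMap y).hom (toSt _ r)
  have h2 := key (V.ι.stalkMap y).hom (X.presheaf.germ V (V.ι y) y.2 (ℓ r))
  have h3 := stalkMap_toSt V y ℓ r
  refine (toSt_mem_iff (R := R) ((V.toSpecΓ ≫ Spec.map (CommRingCat.ofHom ℓ)) y) r).symm.trans (h1.symm.trans ?_)
  rw [← h2]
  exact Eq.to_iff (congrArg (fun t => t ∈ IsLocalRing.maximalIdeal _) h3)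

theorem bijective_stalkMap (V : X.Opens) (y : V.toScheme) (ℓ : R →+* Γ(X, V))
    (φ : X.presheaf.stalk (V.ι y) →+*
      (Spec (CommRingCat.of R)).presheaf.stalk ((V.toSpecΓ ≫ Spec.map (CommRingCat.ofHom ℓ)) y))
    (h1 : ∀ r, φ (X.presheaf.germ V (V.ι y) y.2 (ℓ r)) = toSt _ r)
    (h2 : ∀ τ : X.presheaf.stalk (V.ι y) →+* X.presheaf.stalk (V.ι y),
      (∀ r, τ (X.presheaf.germ V (V.ι y) y.2 (ℓ r)) = X.presheaf.germ V (V.ι y) y.2 (ℓ r)) →
        τ = RingHom.id _) :
    Function.Bijective ((V.toSpecΓ ≫ Spec.map (CommRingCat.ofHom ℓ)).stalkMap y) := by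
  let f : V.toScheme ⟶ Spec (CommRingCat.of R) := V.toSpecΓ ≫ Spec.map (CommRingCat.ofHom ℓ)
  have hκ : Function.Bijective (V.ι.stalkMap y).hom :=
    ConcreteCategory.bijective_of_isIso (V.ι.stalkMap y)
  let κ := RingEquiv.ofBijective (V.ι.stalkMap y).hom hκ
  have hκa : ∀ a, κ a = V.ι.stalkMap y a := fun a => rfl
  let θ : (Spec (CommRingCat.of R)).presheaf.stalk (f y) →+* X.presheaf.stalk (V.ι y) :=
    κ.symm.toRingHom.comp (f.stalkMap y).hom
  have hθ : ∀ r, θ (toSt _ r) = X.presheaf.germ V (V.ι y) y.2 (ℓ r) := by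
    intro r
    change κ.symm (f.stalkMap y (toSt _ r)) = _
    rw [stalkMap_toSt V y ℓ r, ← hκa, RingEquiv.symm_apply_apply]
  have h3 : φ.comp θ = RingHom.id _ := by
    apply hom_ext_toSt (p := f y)
    ext r
    change φ (θ (toSt _ r)) = toSt _ r
    rw [hθ, h1]
  have h4 : θ.comp φ = RingHom.id _ := by
    apply h2
    intro r
    change θ (φ _) = _
    rw [h1, hθ]
  have h5 : Function.Bijective θ := Function.bijective_iff_has_inverse.mpr
    ⟨φ, fun r => congrArg (fun t : _ →+* _ => t r) h3, fun r => congrArg (fun t : _ →+* _ => t r) h4⟩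
  have h6 : ∀ a, f.stalkMap y a = κ (θ a) := by
    intro a
    change _ = κ (κ.symm _)
    rw [RingEquiv.apply_symm_apply]
  have h7 : (f.stalkMap y).hom = κ.toRingHom.comp θ := RingHom.ext h6
  change Function.Bijective (f.stalkMap y).hom
  rw [h7]
  exact κ.bijective.comp h5

end K820.StalkSpec
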