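import Groth.Agent.EllLift.K820.FieldCoord
import Groth.Agent.EllLift.K820.StalkSpec
import Groth.Agent.EllLift.K820.ModelFP
import Groth.Agent.EllLift.K820.ModelBC
import Groth.Agent.Flat2D.LfpComp

/-!
# A curve of genus one over a field with Weierstrass coordinates is the Weierstrass model
-/

set_option autoImplicit false
universe u

open CategoryTheory CategoryTheory.Limits AlgebraicGeometry
open Groth.Agent.Dix Groth.Agent.VarietyA.Ell
open K820.EW K820.StalkSpec

namespace K820.FieldIso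

section Aux

variable {A : Type u} [CommRing A] {W : WeierstrassCurve A} {X : Scheme.{u}} {q : X ⟶ Spec (CommRingCat.of A)}
  {U V : X.Opens} (c : WCo W q U V)

theorem isIso_homU (hUa : IsAffineOpen U) (hbij : Function.Bijective (liftU (sc q U) c.x c.y c.eqU)) :
    IsIso c.homU := by
  have h1 : IsIso U.toSpecΓ := hUa.isoSpec.isIso_hom
  have h2 : IsIso (CommRingCat.ofHom (liftU (sc q U) c.x c.y c.eqU)) :=
    (ConcreteCategory.isIso_iff_bijective _).mpr hbij
  unfold WCo.homU
  infer_instance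

theorem mem_homV_iff (y : V.toScheme) (r : RC W) : r ∈ PrimeSpectrum.asIdeal (c.homV y) ↔
    X.presheaf.germ V (V.ι y) y.2 (liftC (sc q V) c.z c.w c.eqV r) ∈
      IsLocalRing.maximalIdeal (X.presheaf.stalk (V.ι y)) := mem_asIdeal_iff V y _ r

theorem isIso_hom_of_bijective (hUV : U ⊔ V = ⊤) (hUiso : IsIso c.homU) [LocallyOfFinitePresentation q]
    (x : V.toScheme) (hU : ∀ y : X, y ∈ U ↔ y ≠ V.ι x)
    (hst : Function.Bijective (c.homV.stalkMap x))
    (hw : wC W ∈ PrimeSpectrum.asIdeal (c.homV x))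
    (huniq : ∀ p : Spec (CommRingCat.of (RC W)), wC W ∈ PrimeSpectrum.asIdeal p → p = c.homV x) :
    IsIso (c.hom hUV) := by
  let ψ := c.hom hUV
  have hψU : U.ι ≫ ψ = c.homU ≫ ιU W := c.ι_homU hUV
  have hψV : V.ι ≫ ψ = c.homV ≫ ιC W := c.ι_homV hUV
  have hψx : ψ (V.ι x) = ιC W (c.homV x) := by
    rw [← Scheme.Hom.comp_apply, hψV, Scheme.Hom.comp_apply]
  have hψu : ∀ (u : U.toScheme), ψ (U.ι u) = ιU W (c.homU u) := by
    intro u
    rw [← Scheme.Hom.comp_apply, hψU, Scheme.Hom.comp_apply]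
  have hUx : ∀ a : X, a ≠ V.ι x → ∃ u : U.toScheme, U.ι u = a := fun a ha => ⟨⟨a, (hU a).mpr ha⟩, rfl⟩
  have hxU : ιC W (c.homV x) ∉ (ιU W).opensRange := by
    rw [ιC_mem_range_ιU]
    exact fun h => h hw
  -- stalk maps
  have hstalk : ∀ a : X, IsIso (ψ.stalkMap a) := by
    intro a
    by_cases ha : a = V.ι x
    · subst ha
      have h1 : IsIso (c.homV.stalkMap x) := (ConcreteCategory.isIso_iff_bijective _).mpr hst
      have h2 : IsIso ((c.homV ≫ ιC W).stalkMap x) := by
        rw [Scheme.Hom.stalkMap_comp]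
        exact IsIso.comp_isIso' (IsOpenImmersion.instIsIsoCommRingCatStalkMap (ιC W) (c.homV x)) h1
      rw [← hψV, Scheme.Hom.stalkMap_comp] at h2
      have h3 : IsIso (V.ι.stalkMap x) := inferInstance
      exact @IsIso.of_isIso_comp_right _ _ _ _ _ (ψ.stalkMap (V.ι x)) (V.ι.stalkMap x) h3 h2
    · obtain ⟨u, rfl⟩ := hUx a ha
      have h2 : IsIso ((c.homU ≫ ιU W).stalkMap u) := inferInstance
      rw [← hψU, Scheme.Hom.stalkMap_comp] at h2
      have h3 : IsIso (U.ι.stalkMap u) := inferInstance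
      exact @IsIso.of_isIso_comp_right _ _ _ _ _ (ψ.stalkMap (U.ι u)) (U.ι.stalkMap u) h3 h2
  have hsb : ∀ a : X, Function.Bijective (ψ.stalkMap a).hom := fun a =>
    have := hstalk a
    ConcreteCategory.bijective_of_isIso (ψ.stalkMap a)
  have hflat : Flat ψ := (Flat.iff_flat_stalkMap ψ).mpr fun a => RingHom.Flat.of_bijective (hsb a)
  have hsurj : SurjectiveOnStalks ψ := ⟨fun a => (hsb a).2⟩
  have hinj : Function.Injective ψ := by
    intro a b hab
    by_cases ha : a = V.ι x
    · by_cases hb : b = V.ι x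
      · rw [ha, hb]
      · exfalso
        obtain ⟨u, rfl⟩ := hUx b hb
        apply hxU
        rw [ha, hψx, hψu] at hab
        rw [hab]
        exact ⟨_, rfl⟩
    · obtain ⟨u, rfl⟩ := hUx a ha
      by_cases hb : b = V.ι x
      · exfalso
        apply hxU
        rw [hb, hψx, hψu] at hab
        rw [← hab]
        exact ⟨_, rfl⟩
      · obtain ⟨u', rfl⟩ := hUx b hb
        rw [hψu, hψu] at hab
        have h1 := (ιU W).isOpenEmbedding.injective hab
        have h2 : Function.Injective c.homU := c.homU.isOpenEmbedding.injective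
        rw [h2 h1]
  have hmono : Mono ψ := SurjectiveOnStalks.mono_of_injective hinj
  have hlfp : LocallyOfFinitePresentation ψ := by
    have h1 : ψ ≫ str W = q := c.hom_str hUV
    have h2 : LocallyOfFinitePresentation (ψ ≫ str W) := by rw [h1]; infer_instance
    exact Groth.Agent.Flat2D.LfpComp.lfp_of_comp ψ (str W)
  have hopen : IsOpenImmersion ψ := IsOpenImmersion.of_flat_of_mono ψ
  rw [isIso_iff_isOpenImmersion_and_surjective]
  refine ⟨hopen, ⟨fun e => ?_⟩⟩
  rcases exists_preimage W e with ⟨p, rfl⟩ | ⟨p, rfl⟩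
  · obtain ⟨u, rfl⟩ := c.homU.surjective p
    exact ⟨U.ι u, hψu u⟩
  · by_cases hp : wC W ∈ PrimeSpectrum.asIdeal p
    · exact ⟨V.ι x, by rw [hψx, huniq p hp]⟩
    · obtain ⟨p', hp'⟩ := (ιC_mem_range_ιU W p).mpr hp
      obtain ⟨u, rfl⟩ := c.homU.surjective p'
      exact ⟨U.ι u, by rw [hψu u]; exact hp'⟩

end Aux

section Aux2

variable {A : Type u} [CommRing A] (W : WeierstrassCurve A)

theorem exists_sub_mem (r : RC W) : ∃ k : A, r - iC W k ∈ Ideal.span {zC W, wC W} := by
  have h0 : WEqInf W (RingHom.id A) 0 0 := by simp [WEqInf]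
  let ε : RC W →+* A := liftC (RingHom.id A) 0 0 h0
  refine ⟨ε r, ?_⟩
  rw [← Ideal.Quotient.eq]
  have hzw : (Ideal.Quotient.mk (Ideal.span {zC W, wC W})) (zC W) = 0 :=
    Ideal.Quotient.eq_zero_iff_mem.mpr (Ideal.subset_span (by simp))
  have hww : (Ideal.Quotient.mk (Ideal.span {zC W, wC W})) (wC W) = 0 :=
    Ideal.Quotient.eq_zero_iff_mem.mpr (Ideal.subset_span (by simp))
  have h1 : Ideal.Quotient.mk (Ideal.span {zC W, wC W}) =
      ((Ideal.Quotient.mk (Ideal.span {zC W, wC W})).comp (iC W)).comp ε := by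
    apply hom_ext_C
    · ext a
      change _ = Ideal.Quotient.mk _ (iC W (ε (iC W a)))
      rw [show ε (iC W a) = a from liftC_iC _ _ _ _ a]
      rfl
    · change _ = Ideal.Quotient.mk _ (iC W (ε (zC W)))
      rw [show ε (zC W) = 0 from liftC_z _ _ _ _, map_zero, map_zero, hzw]
    · change _ = Ideal.Quotient.mk _ (iC W (ε (wC W)))
      rw [show ε (wC W) = 0 from liftC_w _ _ _ _, map_zero, map_zero, hww]
  exact congrArg (fun t : RC W →+* _ => t r) h1

end Aux2

attribute [local instance] EllPoleData.algK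

/-- **A curve of genus one over a field with Weierstrass coordinates is the Weierstrass model.** -/
theorem isIso_hom {K : Type u} [Field K] {X : Scheme.{u}} [IsIntegral X] [X.Over (Spec (CommRingCat.of K))]
    [IsProper (X ↘ Spec (CommRingCat.of K))] [Smooth (X ↘ Spec (CommRingCat.of K))]
    (hdim : topologicalKrullDim X = 1)
    (hg : Module.finrank K (Coh.HH X (Coh.structureModule X) 1) = 1)
    (o : Spec (CommRingCat.of K) ⟶ X) (ho : o ≫ (X ↘ Spec (CommRingCat.of K)) = 𝟙 _)
    {W : WeierstrassCurve K} {U V : X.Opens} (x : V.toScheme) (hx : ∀ p, o p = V.ι x)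
    (hU : ∀ y : X, y ∈ U ↔ y ≠ V.ι x) (hUV : U ⊔ V = ⊤)
    (c : WCo W (X ↘ Spec (CommRingCat.of K)) U V)
    (hz : IsLocalRing.maximalIdeal (X.presheaf.stalk (V.ι x)) ≤ Ideal.span {X.presheaf.germ V (V.ι x) x.2 c.z})
    (hz' : X.presheaf.germ V (V.ι x) x.2 c.z ∈ IsLocalRing.maximalIdeal (X.presheaf.stalk (V.ι x)))
    (hw : X.presheaf.germ V (V.ι x) x.2 c.w ∈ IsLocalRing.maximalIdeal (X.presheaf.stalk (V.ι x))) :
    IsIso (c.hom hUV) := by
  obtain ⟨U', hne, D, hUa, hU', hP, hO, ht⟩ := EllPoleData.exists_poleData (K := K) hdim hg o ho (V.ι x) hx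
  have hUU : U = U' := by
    ext y
    rw [SetLike.mem_coe, SetLike.mem_coe, hU, hU']
  subst hUU
  obtain ⟨hbij, hst, hτ⟩ := FieldCoord.exists_wCoord D hP hO hUa hU ht (x := V.ι x) x.2 c hz hz' hw
  have hzm : zC W ∈ PrimeSpectrum.asIdeal (c.homV x) := by
    rw [mem_homV_iff, liftC_z]; exact hz'
  have hwm : wC W ∈ PrimeSpectrum.asIdeal (c.homV x) := by
    rw [mem_homV_iff, liftC_w]; exact hw
  have hzm' := (toSt_mem_iff (c.homV x) (zC W)).mpr hzm
  have hwm' := (toSt_mem_iff (c.homV x) (wC W)).mpr hwm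
  obtain ⟨φ, -, hφs, hφz, hφw⟩ := hst ((toSt (c.homV x)).comp (iC W)) hzm' hwm'
    (wEqInf_map (wEqInf_C W) (toSt (c.homV x)))
  have hscS : ∀ k : K, scS (X ↘ Spec (CommRingCat.of K)) (V.ι x) k =
      X.presheaf.germ V (V.ι x) x.2 (liftC (sc (X ↘ Spec (CommRingCat.of K)) V) c.z c.w c.eqV (iC W k)) := by
    intro k
    rw [liftC_iC]
    exact (germ_sc _ V _ x.2 k).symm
  refine isIso_hom_of_bijective c hUV (isIso_homU c hUa hbij) x hU ?_ hwm ?_
  · refine bijective_stalkMap V x _ φ ?_ ?_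
    · have h1 : φ.comp ((X.presheaf.germ V (V.ι x) x.2).hom.comp
          (liftC (sc (X ↘ Spec (CommRingCat.of K)) V) c.z c.w c.eqV)) = toSt (c.homV x) := by
        apply hom_ext_C
        · ext k
          change φ (X.presheaf.germ V (V.ι x) x.2 (liftC _ _ _ _ (iC W k))) = toSt _ (iC W k)
          rw [← hscS]
          exact congrArg (fun t : K →+* _ => t k) hφs
        · change φ (X.presheaf.germ V (V.ι x) x.2 (liftC _ _ _ _ (zC W))) = toSt _ (zC W)
          rw [liftC_z]
          exact hφz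
        · change φ (X.presheaf.germ V (V.ι x) x.2 (liftC _ _ _ _ (wC W))) = toSt _ (wC W)
          rw [liftC_w]
          exact hφw
      intro r
      exact congrArg (fun t : RC W →+* _ => t r) h1
    · intro τ h
      refine hτ τ ?_ ?_ ?_
      · ext k
        change τ (scS _ _ k) = scS _ _ k
        rw [hscS, h]
      · have := h (zC W)
        rwa [liftC_z] at this
      · have := h (wC W)
        rwa [liftC_w] at this
  · intro p hp
    have hp' : (PrimeSpectrum.asIdeal p).IsPrime := PrimeSpectrum.isPrime p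
    have key : ∀ (p : Spec (CommRingCat.of (RC W))), wC W ∈ PrimeSpectrum.asIdeal p →
        zC W ∈ PrimeSpectrum.asIdeal p := by
      intro p hp
      have hp' : (PrimeSpectrum.asIdeal p).IsPrime := PrimeSpectrum.isPrime p
      have h1 := wEqInf_C W
      apply hp'.mem_of_pow_mem 3
      have h2 : zC W ^ 3 = wC W * (1 + iC W W.a₁ * zC W + iC W W.a₃ * wC W - iC W W.a₂ * zC W ^ 2
          - iC W W.a₄ * zC W * wC W - iC W W.a₆ * wC W ^ 2) := by
        unfold WEqInf at h1
        linear_combination -h1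
      rw [h2]
      exact Ideal.mul_mem_right _ _ hp
    have hle : ∀ (p p' : Spec (CommRingCat.of (RC W))), wC W ∈ PrimeSpectrum.asIdeal p →
        wC W ∈ PrimeSpectrum.asIdeal p' → PrimeSpectrum.asIdeal p ≤ PrimeSpectrum.asIdeal p' := by
      intro p p' hp hp' r hr
      obtain ⟨k, hk⟩ := exists_sub_mem W r
      have hspan : ∀ (p : Spec (CommRingCat.of (RC W))), wC W ∈ PrimeSpectrum.asIdeal p →
          Ideal.span {zC W, wC W} ≤ PrimeSpectrum.asIdeal p := by
        intro p hp
        rw [Ideal.span_le]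
        rintro _ (rfl | rfl)
        · exact key p hp
        · exact hp
      by_cases h0 : k = 0
      · rw [h0, map_zero, sub_zero] at hk
        exact hspan p' hp' hk
      · exfalso
        have h1 : iC W k ∈ PrimeSpectrum.asIdeal p := by
          have := Ideal.sub_mem _ hr (hspan p hp hk)
          rwa [sub_sub_cancel] at this
        exact (PrimeSpectrum.isPrime p).ne_top (Ideal.eq_top_of_isUnit_mem _ h1 ((IsUnit.mk0 k h0).map (iC W)))
    exact PrimeSpectrum.ext (le_antisymm (hle p _ hp hwm) (hle _ p hwm hp))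

end K820.FieldIso
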