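import Groth.Agent.EllLift.K820.FibrePull
import Groth.Agent.EllLift.K820.FieldIso
import Groth.Agent.S2759

/-!
# A family of curves of genus one with Weierstrass coordinates is the Weierstrass model
-/

set_option autoImplicit false
universe u

open CategoryTheory CategoryTheory.Limits AlgebraicGeometry

namespace K820.EW

open Groth.Agent.VarietyA.Ell (WEq WEqInf sc)

/-- The fibres of `q` are integral curves of genus one. -/
def EllFib {X S : Scheme.{u}} (q : X ⟶ S) : Prop :=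
  ∀ (K : Type u) [Field K] (t : Spec (CommRingCat.of K) ⟶ S) (X' : Scheme.{u}) (g : X' ⟶ X)
    (q' : X' ⟶ Spec (CommRingCat.of K)), IsPullback g q' q t → IsIntegral X' ∧ topologicalKrullDim X' = 1 ∧
      (letI : X'.Over (Spec (CommRingCat.of K)) := ⟨q'⟩
       Module.finrank K (Coh.HH X' (Coh.structureModule X') 1) = 1)

section FieldPart

variable {K : Type u} [Field K] {X : Scheme.{u}} (e : Spec (CommRingCat.of K) ⟶ X)

theorem germ_mem_iff (V : X.Opens) (h : ⊤ ≤ e ⁻¹ᵁ V) (p : Spec (CommRingCat.of K)) (x : X) (hx : e p = x)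
    (hxV : x ∈ V) (b : Γ(X, V)) :
    X.presheaf.germ V x hxV b ∈ IsLocalRing.maximalIdeal (X.presheaf.stalk x) ↔ ev e V h b = 0 := by
  subst hx
  have h1 : e.stalkMap p (X.presheaf.germ V (e p) hxV b) =
      (Spec (CommRingCat.of K)).presheaf.germ ⊤ p trivial (e.appLE V ⊤ h b) := by
    have h2 := Scheme.Hom.germ_stalkMap e V p hxV
    have h3 : e.appLE V ⊤ h ≫ (Spec (CommRingCat.of K)).presheaf.germ ⊤ p trivial =
        e.app V ≫ (Spec (CommRingCat.of K)).presheaf.germ (e ⁻¹ᵁ V) p hxV := by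
      rw [Scheme.Hom.appLE, Category.assoc]
      congr 1
      exact (Spec (CommRingCat.of K)).presheaf.germ_res (homOfLE h) _ _
    exact (congrArg (fun t : Γ(X, V) ⟶ _ => t b) h2).trans (congrArg (fun t : Γ(X, V) ⟶ _ => t b) h3).symm
  have h2 : X.presheaf.germ V (e p) hxV b ∈ IsLocalRing.maximalIdeal (X.presheaf.stalk (e p)) ↔
      e.stalkMap p (X.presheaf.germ V (e p) hxV b) ∈
        IsLocalRing.maximalIdeal ((Spec (CommRingCat.of K)).presheaf.stalk p) := by
    have h3 := IsLocalRing.maximalIdeal_comap (e.stalkMap p).hom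
    rw [← h3, Ideal.mem_comap]
  rw [h2, h1]
  constructor
  · intro h3
    by_contra h4
    apply h3
    have h5 : IsUnit (e.appLE V ⊤ h b) := by
      have h6 : (Scheme.ΓSpecIso (CommRingCat.of K)).inv (ev e V h b) = e.appLE V ⊤ h b :=
        congrArg (fun t : Γ(Spec (CommRingCat.of K), ⊤) ⟶ _ => t (e.appLE V ⊤ h b))
          (Scheme.ΓSpecIso (CommRingCat.of K)).hom_inv_id
      rw [← h6]
      exact (IsUnit.mk0 _ h4).map (Scheme.ΓSpecIso (CommRingCat.of K)).inv.hom
    exact h5.map ((Spec (CommRingCat.of K)).presheaf.germ ⊤ p trivial).hom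
  · intro h3
    have h6 : (Scheme.ΓSpecIso (CommRingCat.of K)).inv (ev e V h b) = e.appLE V ⊤ h b :=
        congrArg (fun t : Γ(Spec (CommRingCat.of K), ⊤) ⟶ _ => t (e.appLE V ⊤ h b))
          (Scheme.ΓSpecIso (CommRingCat.of K)).hom_inv_id
    rw [← h6, h3, map_zero, map_zero]
    exact Ideal.zero_mem _

theorem maximalIdeal_le {V : X.Opens} (hV : IsAffineOpen V) (h : ⊤ ≤ e ⁻¹ᵁ V) (p : Spec (CommRingCat.of K))
    (x : X) (hx : e p = x) (hxV : x ∈ V) (z : Γ(X, V)) (hz : ∀ b, ev e V h b = 0 → z ∣ b) :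
    IsLocalRing.maximalIdeal (X.presheaf.stalk x) ≤ Ideal.span {X.presheaf.germ V x hxV z} := by
  intro s hs
  let _ := X.presheaf.algebra_section_stalk (⟨x, hxV⟩ : V)
  have hloc : IsLocalization.AtPrime (X.presheaf.stalk x) (hV.primeIdealOf ⟨x, hxV⟩).asIdeal :=
    hV.isLocalization_stalk ⟨x, hxV⟩
  obtain ⟨⟨a, d⟩, had⟩ := IsLocalization.surj (hV.primeIdealOf ⟨x, hxV⟩).asIdeal.primeCompl s
  have had' : s * X.presheaf.germ V x hxV d.1 = X.presheaf.germ V x hxV a := had
  have hd : IsUnit (X.presheaf.germ V x hxV d.1) :=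
    IsLocalization.map_units (M := (hV.primeIdealOf ⟨x, hxV⟩).asIdeal.primeCompl) (X.presheaf.stalk x) d
  have ha : X.presheaf.germ V x hxV a ∈ IsLocalRing.maximalIdeal (X.presheaf.stalk x) := by
    rw [← had']
    exact Ideal.mul_mem_right _ _ hs
  rw [germ_mem_iff e V h p x hx hxV] at ha
  obtain ⟨b, rfl⟩ := hz a ha
  rw [map_mul] at had'
  obtain ⟨d', hd'⟩ := hd.exists_right_inv
  rw [Ideal.mem_span_singleton]
  refine ⟨X.presheaf.germ V x hxV b * d', ?_⟩
  calc s = s * (X.presheaf.germ V x hxV d.1 * d') := by rw [hd', mul_one]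
    _ = (s * X.presheaf.germ V x hxV d.1) * d' := by ring
    _ = _ := by rw [had']; ring

end FieldPart

section Main

variable {A : Type u} [CommRing A] {W : WeierstrassCurve A} {X : Scheme.{u}} {q : X ⟶ Spec (CommRingCat.of A)}
  [Smooth q] [IsProper q] (hq : EllFib q) (e : Spec (CommRingCat.of A) ⟶ X) (he : e ≫ q = 𝟙 _) {U V : X.Opens}
  (hV : IsAffineOpen V) (heV : ⊤ ≤ e ⁻¹ᵁ V) (hU : ∀ y : X, y ∈ U ↔ y ∉ Set.range e) (hUV : U ⊔ V = ⊤)
  (c : WCo W q U V) (hz : ∀ b, ev e V heV b = 0 → c.z ∣ b) (hz0 : ev e V heV c.z = 0)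
  (hw0 : ev e V heV c.w = 0)

include hq he hV hU hz hz0 hw0

theorem isIso_pull {K : Type u} [Field K] (φ : A →+* K) {X' : Scheme.{u}} {g : X' ⟶ X}
    {q' : X' ⟶ Spec (CommRingCat.of K)} (hP : IsPullback g q' q (Spec.map (CommRingCat.ofHom φ)))
    (hUV' : g ⁻¹ᵁ U ⊔ g ⁻¹ᵁ V = ⊤) : IsIso ((c.pull φ g q' hP.w).hom hUV') := by
  obtain ⟨hint, hdim, hg⟩ := hq K _ X' g q' hP
  let _ : X'.Over (Spec (CommRingCat.of K)) := ⟨q'⟩
  have hqq : X' ↘ Spec (CommRingCat.of K) = q' := rfl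
  have : Smooth (X' ↘ Spec (CommRingCat.of K)) := MorphismProperty.of_isPullback (P := @Smooth) hP inferInstance
  have : IsProper (X' ↘ Spec (CommRingCat.of K)) := MorphismProperty.of_isPullback (P := @IsProper) hP inferInstance
  let e' : Spec (CommRingCat.of K) ⟶ X' := hP.lift (Spec.map (CommRingCat.ofHom φ) ≫ e) (𝟙 _) (by
    rw [Category.assoc, he, Category.comp_id, Category.id_comp])
  have hc : e' ≫ g = Spec.map (CommRingCat.ofHom φ) ≫ e := hP.lift_fst _ _ _
  have he' : e' ≫ q' = 𝟙 _ := hP.lift_snd _ _ _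
  have hPe : IsPullback e' (Spec.map (CommRingCat.ofHom φ)) g e := by
    refine (IsPullback.of_bot (h₃₁ := Spec.map (CommRingCat.ofHom φ)) (v₂₁ := q') (v₂₂ := q) ?_ hc.symm hP).flip
    rw [he, he']
    exact IsPullback.of_vert_isIso ⟨by rw [Category.comp_id, Category.id_comp]⟩
  obtain ⟨p⟩ : Nonempty (Spec (CommRingCat.of K)) := inferInstanceAs (Nonempty (PrimeSpectrum K))
  have heV' : ⊤ ≤ e' ⁻¹ᵁ (g ⁻¹ᵁ V) := by
    intro p' _
    change g (e' p') ∈ V
    rw [← Scheme.Hom.comp_apply, hc, Scheme.Hom.comp_apply]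
    exact heV (x := _) trivial
  let x : (g ⁻¹ᵁ V).toScheme := ⟨e' p, heV' (x := p) trivial⟩
  refine FieldIso.isIso_hom hdim hg e' he' x ?_ ?_ hUV' (c.pull φ g q' hP.w) ?_ ?_ ?_
  · intro p'
    have : p' = p := Subsingleton.elim (α := PrimeSpectrum K) _ _
    rw [this]
    rfl
  · intro y
    change g y ∈ U ↔ _
    rw [hU, not_iff_not]
    constructor
    · rintro ⟨s, hs⟩
      obtain ⟨p', hp', -⟩ := Scheme.exists_preimage_of_isPullback hPe y s hs.symm
      have : p' = p := Subsingleton.elim (α := PrimeSpectrum K) _ _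
      rw [this] at hp'
      exact hp'.symm
    · rintro rfl
      change g (e' p) ∈ _
      rw [← Scheme.Hom.comp_apply, hc, Scheme.Hom.comp_apply]
      exact ⟨_, rfl⟩
  · refine maximalIdeal_le e' (isAffineOpen_preimage hP hV) heV' p _ rfl _ _ ?_
    intro b hb
    exact dvd_of_ev_eq_zero hP e he e' he' hc hV heV heV' c.z hz b hb
  · refine (germ_mem_iff e' (g ⁻¹ᵁ V) heV' p _ rfl _ _).mpr ?_
    rw [WCo.pull_z, ev_app e hc V heV, hz0, map_zero]
  · refine (germ_mem_iff e' (g ⁻¹ᵁ V) heV' p _ rfl _ _).mpr ?_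
    rw [WCo.pull_w, ev_app e hc V heV, hw0, map_zero]

/-- **A family of curves of genus one with Weierstrass coordinates is the Weierstrass model.** -/
theorem isIso_hom : IsIso (c.hom hUV) := by
  rw [(Groth.Agent.S2759.result (str W) q (c.hom hUV) (c.hom_str hUV)).2]
  intro s
  let K : Type u := (Spec (CommRingCat.of A)).residueField s
  obtain ⟨φ, hφ⟩ : ∃ φ : A →+* K, (Spec (CommRingCat.of A)).fromSpecResidueField s =
      Spec.map (CommRingCat.ofHom φ) :=
    ⟨(Spec.preimage ((Spec (CommRingCat.of A)).fromSpecResidueField s)).hom, (Spec.map_preimage _).symm⟩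
  have hP : IsPullback (pullback.fst q (Spec.map (CommRingCat.ofHom φ)))
      (pullback.snd q (Spec.map (CommRingCat.ofHom φ))) q (Spec.map (CommRingCat.ofHom φ)) :=
    IsPullback.of_hasPullback _ _
  have hUV' : pullback.fst q (Spec.map (CommRingCat.ofHom φ)) ⁻¹ᵁ U ⊔
      pullback.fst q (Spec.map (CommRingCat.ofHom φ)) ⁻¹ᵁ V = ⊤ := by
    rw [← Scheme.Hom.preimage_sup, hUV]
    rfl
  have h1 := isIso_pull hq e he hV heV hU c hz hz0 hw0 φ hP hUV'
  have h2 := WCo.isPullback_pull c φ _ _ hUV hUV' hP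
  have h3 := isPullback_bc W φ
  rw [← hφ] at h3
  have h4 : IsPullback ((str W).fiberι s) ((str W).fiberToSpecResidueField s) (str W)
    ((Spec (CommRingCat.of A)).fromSpecResidueField s) := IsPullback.of_hasPullback _ _
  let i := h3.isoIsPullback _ _ h4
  have hi : i.hom ≫ (str W).fiberι s = bc W φ := IsPullback.isoIsPullback_hom_fst _ _ h3 h4
  have h5 : IsPullback (pullback.fst q (Spec.map (CommRingCat.ofHom φ)))
      ((c.pull φ _ _ hP.w).hom hUV' ≫ i.hom) (c.hom hUV) ((str W).fiberι s) := by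
    refine IsPullback.of_iso h2 (Iso.refl _) (Iso.refl _) i (Iso.refl _) ?_ ?_ ?_ ?_
    · simp
    · simp
    · simp
    · simp [hi]
  have h6 : pullback.snd (c.hom hUV) ((str W).fiberι s) =
      h5.isoPullback.inv ≫ (c.pull φ _ _ hP.w).hom hUV' ≫ i.hom := (h5.isoPullback_inv_snd).symm
  rw [h6]
  infer_instance

end Main

end K820.EW
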