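import Groth.Agent.EllLift.K820.SecMain
import Groth.Agent.S15990
import Groth.Agent.Divis.IdealComap
import Groth.Agent.Picfga.SecGraph

/-!
# Local existence of a local equation of a section
-/

set_option autoImplicit false
universe u

open CategoryTheory CategoryTheory.Limits AlgebraicGeometry Opposite

namespace K820.EW

open Groth.Agent.VarietyA.Ell (WEq WEqInf sc)
open Groth.Agent

section

variable {A B : Type u} [CommRing A] [CommRing B] (φ : A →+* B) {X X' : Scheme.{u}} {g : X' ⟶ X}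
  {q' : X' ⟶ Spec (CommRingCat.of B)} {q : X ⟶ Spec (CommRingCat.of A)}
  (hP : IsPullback g q' q (Spec.map (CommRingCat.ofHom φ)))

include hP in
theorem flat_app (hφ : φ.Flat) {V : X.Opens} (hV : IsAffineOpen V) : (g.app V).hom.Flat := by
  have h0 : Flat (Spec.map (CommRingCat.ofHom φ)) := by
    rw [Flat.SpecMap_iff]
    exact hφ
  have : Flat g := MorphismProperty.of_isPullback (P := @Flat) hP.flip h0
  have h1 := HasRingHomProperty.appLE @Flat g this ⟨V, hV⟩ ⟨g ⁻¹ᵁ V, isAffineOpen_preimage hP hV⟩ le_rfl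
  rw [Scheme.Hom.app_eq_appLE]
  exact h1

theorem mem_nonZeroDivisors_of_flat {R T : Type u} [CommRing R] [CommRing T] (f : R →+* T) (hf : f.Flat) {r : R}
    (hr : r ∈ nonZeroDivisors R) : f r ∈ nonZeroDivisors T := by
  algebraize [f]
  have h1 : IsSMulRegular R r := by
    intro a b hab
    exact (mul_cancel_left_mem_nonZeroDivisors hr).mp hab
  have h2 : IsSMulRegular T (algebraMap R T r) := IsSMulRegular.of_flat h1
  rw [← isRegular_iff_mem_nonZeroDivisors, isRegular_iff_eq_zero_of_mul]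
  refine ⟨fun x hx => h2 ?_, fun x hx => h2 ?_⟩
  · change f r * x = f r * 0
    rw [hx, mul_zero]
  · change f r * x = f r * 0
    rw [mul_comm, hx, mul_zero]

include hP in
theorem isPullback_section (e : Spec (CommRingCat.of A) ⟶ X) (he : e ≫ q = 𝟙 _)
    (e' : Spec (CommRingCat.of B) ⟶ X') (he' : e' ≫ q' = 𝟙 _)
    (hc : e' ≫ g = Spec.map (CommRingCat.ofHom φ) ≫ e) : IsPullback e' (Spec.map (CommRingCat.ofHom φ)) g e := by
  refine (IsPullback.of_bot (h₃₁ := Spec.map (CommRingCat.ofHom φ)) (v₂₁ := q') (v₂₂ := q) ?_ hc.symm hP).flip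
  rw [he, he']
  exact IsPullback.of_vert_isIso ⟨by rw [Category.comp_id, Category.id_comp]⟩

omit [CommRing B] in
theorem mem_ker_ideal_iff {e : Spec (CommRingCat.of A) ⟶ X} [QuasiCompact e] {V : X.Opens} (hV : IsAffineOpen V)
    (h : ⊤ ≤ e ⁻¹ᵁ V) (b : Γ(X, V)) : b ∈ e.ker.ideal ⟨V, hV⟩ ↔ ev e V h b = 0 := by
  rw [Scheme.Hom.ker_apply, RingHom.mem_ker]
  have h4 : ⊤ = e ⁻¹ᵁ V := le_antisymm h le_top
  have h5 : ∀ (W : (Spec (CommRingCat.of A)).Opens) (_ : W = e ⁻¹ᵁ V) (h : W ≤ e ⁻¹ᵁ V),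
      e.appLE V W h b = 0 ↔ e.app V b = 0 := by
    rintro W rfl h
    rw [Scheme.Hom.appLE_eq_app]
  have h6 : e.appLE V ⊤ h b = 0 ↔ ev e V h b = 0 := by
    have h7 : (Scheme.ΓSpecIso (CommRingCat.of A)).inv (ev e V h b) = e.appLE V ⊤ h b :=
      congrArg (fun g : Γ(Spec (CommRingCat.of A), ⊤) ⟶ _ => g (e.appLE V ⊤ h b))
        (Scheme.ΓSpecIso (CommRingCat.of A)).hom_inv_id
    constructor
    · intro h0
      change (Scheme.ΓSpecIso (CommRingCat.of A)).hom (e.appLE V ⊤ h b) = 0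
      rw [h0, map_zero]
    · intro h0
      rw [← h7, h0, map_zero]
  rw [← h6, h5 ⊤ h4 h]

end

/-- A section of a smooth family of curves has a local equation locally on the base. -/
theorem exists_secData {A : Type u} [CommRing A] {X : Scheme.{u}} (q : X ⟶ Spec (CommRingCat.of A))
    [IsSeparated q] [SmoothOfRelativeDimension 1 q] (e : Spec (CommRingCat.of A) ⟶ X) (he : e ≫ q = 𝟙 _)
    (s : PrimeSpectrum A) : ∃ b : A, b ∉ s.asIdeal ∧ ∀ {B : Type u} [CommRing B] (φ : A →+* B) (_ : φ.Flat)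
      (_ : IsUnit (φ b)) {X' : Scheme.{u}} {g : X' ⟶ X} {q' : X' ⟶ Spec (CommRingCat.of B)}
      (_ : IsPullback g q' q (Spec.map (CommRingCat.ofHom φ))) (e' : Spec (CommRingCat.of B) ⟶ X')
      (_ : e' ≫ q' = 𝟙 _) (_ : e' ≫ g = Spec.map (CommRingCat.ofHom φ) ≫ e) (U' : X'.Opens)
      (_ : ∀ y : X', y ∈ U' ↔ y ∉ Set.range e'), Nonempty (SecData q' e' U') := by
  obtain ⟨hcart, -⟩ := Groth.Agent.S15990.result q e he
  obtain ⟨⟨V₀, hV₀⟩, hsV, f, hf, hI⟩ := hcart (e s)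
  have hcl : IsClosedImmersion e := by
    have : IsClosedImmersion (e ≫ q) := by rw [he]; infer_instance
    exact IsClosedImmersion.of_comp e q
  obtain ⟨_, ⟨b, rfl⟩, hb1, hb2⟩ := TopologicalSpace.Opens.isBasis_iff_nbhd.mp PrimeSpectrum.isBasis_basic_opens
    (show s ∈ (show TopologicalSpace.Opens (PrimeSpectrum A) from e ⁻¹ᵁ V₀) from hsV)
  refine ⟨b, hb1, ?_⟩
  intro B _ φ hφ hb X' g q' hP e' he' hc U' hU'
  have hV := isAffineOpen_preimage hP hV₀
  have heV : ⊤ ≤ e' ⁻¹ᵁ (g ⁻¹ᵁ V₀) := by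
    intro p _
    change g (e' p) ∈ V₀
    rw [← Scheme.Hom.comp_apply, hc, Scheme.Hom.comp_apply]
    apply hb2
    change b ∉ (PrimeSpectrum.comap φ p).asIdeal
    intro hm
    exact p.2.ne_top (Ideal.eq_top_of_isUnit_mem _ hm hb)
  have hPe := isPullback_section φ hP e he e' he' hc
  have hcl' : IsClosedImmersion e' := MorphismProperty.of_isPullback (P := @IsClosedImmersion) hPe.flip hcl
  have hker : e'.ker = e.ker.comap g := Groth.Agent.Picfga.SecGraph.ker_eq_comap_of_isPullback hPe.flip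
  have hid : e'.ker.ideal ⟨g ⁻¹ᵁ V₀, hV⟩ = Ideal.span {g.app V₀ f} := by
    rw [hker, Groth.Agent.Divis.IdealComap.ideal_comap e.ker g ⟨V₀, hV₀⟩ ⟨g ⁻¹ᵁ V₀, hV⟩ le_rfl, hI,
      Ideal.map_span, Set.image_singleton]
    rw [Scheme.Hom.app_eq_appLE]
  refine ⟨⟨he', g ⁻¹ᵁ V₀, hV, heV, g.app V₀ f, ?_, ?_, ?_, hU'⟩⟩
  · rw [← mem_ker_ideal_iff hV heV, hid]
    exact Ideal.mem_span_singleton_self _
  · intro b hb
    rw [← mem_ker_ideal_iff hV heV, hid, Ideal.mem_span_singleton] at hb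
    exact hb
  · exact mem_nonZeroDivisors_of_flat (g.app V₀).hom (flat_app φ hP hφ hV₀) hf

end K820.EW
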