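import Mathlib.AlgebraicGeometry.Gluing
import Mathlib.AlgebraicGeometry.Limits

/-!
# Gluing two schemes along an open subscheme
-/

set_option autoImplicit false
universe u

open CategoryTheory CategoryTheory.Limits AlgebraicGeometry

namespace K820.GlueTwo

variable {T X₁ X₂ : Scheme.{u}} (a : T ⟶ X₁) (b : T ⟶ X₂) [IsOpenImmersion a] [IsOpenImmersion b]

instance isOpenImmersion_span {i j : WalkingSpan} (f : i ⟶ j) : IsOpenImmersion ((span a b).map f) := by
  rcases f with _ | f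
  · rw [WidePushoutShape.hom_id, CategoryTheory.Functor.map_id]
    infer_instance
  · cases f
    · exact inferInstanceAs (IsOpenImmersion a)
    · exact inferInstanceAs (IsOpenImmersion b)

/-- The scheme obtained by gluing `X₁` and `X₂` along `T`. -/
noncomputable def glue : Scheme.{u} := colimit (span a b)

noncomputable def i₁ : X₁ ⟶ glue a b := colimit.ι (span a b) WalkingSpan.left

noncomputable def i₂ : X₂ ⟶ glue a b := colimit.ι (span a b) WalkingSpan.right

instance : IsOpenImmersion (i₁ a b) := inferInstanceAs (IsOpenImmersion (colimit.ι (span a b) WalkingSpan.left))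

instance : IsOpenImmersion (i₂ a b) := inferInstanceAs (IsOpenImmersion (colimit.ι (span a b) WalkingSpan.right))

theorem comm : a ≫ i₁ a b = b ≫ i₂ a b := by
  have h1 := colimit.w (span a b) WalkingSpan.Hom.fst
  have h2 := colimit.w (span a b) WalkingSpan.Hom.snd
  exact h1.trans h2.symm

theorem exists_preimage (x : glue a b) : (∃ y, i₁ a b y = x) ∨ (∃ y, i₂ a b y = x) := by
  obtain ⟨i, y, h⟩ := Scheme.IsLocallyDirected.ι_jointly_surjective (span a b) x
  rcases i with _ | i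
  · left
    refine ⟨a y, ?_⟩
    rw [← h]
    exact congrArg (fun g : T ⟶ glue a b => g y) (colimit.w (span a b) WalkingSpan.Hom.fst)
  · cases i
    · exact Or.inl ⟨y, h⟩
    · exact Or.inr ⟨y, h⟩

theorem eq_iff {x₁ : X₁} {x₂ : X₂} : i₁ a b x₁ = i₂ a b x₂ ↔ ∃ t, a t = x₁ ∧ b t = x₂ := by
  constructor
  · intro h
    obtain ⟨k, fi, fj, x, h1, h2⟩ := (Scheme.IsLocallyDirected.ι_eq_ι_iff (span a b)).mp h
    rcases k with _ | k
    · refine ⟨x, ?_, ?_⟩
      · rw [← h1]
        have : fi = WalkingSpan.Hom.fst := Subsingleton.elim _ _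
        rw [this]
        rfl
      · rw [← h2]
        have : fj = WalkingSpan.Hom.snd := Subsingleton.elim _ _
        rw [this]
        rfl
    · cases k
      · nomatch fj
      · nomatch fi
  · rintro ⟨t, rfl, rfl⟩
    rw [← Scheme.Hom.comp_apply, ← Scheme.Hom.comp_apply, comm]

variable {a b}

/-- Morphisms out of the glued scheme. -/
noncomputable def desc {Z : Scheme.{u}} (f₁ : X₁ ⟶ Z) (f₂ : X₂ ⟶ Z) (h : a ≫ f₁ = b ≫ f₂) : glue a b ⟶ Z :=
  pushout.desc f₁ f₂ h

theorem i₁_desc {Z : Scheme.{u}} (f₁ : X₁ ⟶ Z) (f₂ : X₂ ⟶ Z) (h : a ≫ f₁ = b ≫ f₂) :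
    i₁ a b ≫ desc f₁ f₂ h = f₁ := pushout.inl_desc _ _ _

theorem i₂_desc {Z : Scheme.{u}} (f₁ : X₁ ⟶ Z) (f₂ : X₂ ⟶ Z) (h : a ≫ f₁ = b ≫ f₂) :
    i₂ a b ≫ desc f₁ f₂ h = f₂ := pushout.inr_desc _ _ _

end K820.GlueTwo
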