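import Groth.Agent.EllLift.K820.Charts
import Groth.Agent.EllLift.K820.GlueTwo
import Groth.Agent.Ega4late.H542.GlueSup

/-!
# The Weierstrass model over a ring
-/

set_option autoImplicit false
universe u

open CategoryTheory CategoryTheory.Limits AlgebraicGeometry

namespace K820.EW

open Groth.Agent.VarietyA.Ell (WEq WEqInf sc)

variable {A : Type u} [CommRing A] (W : WeierstrassCurve A)

noncomputable def jU : Spec (CommRingCat.of (RL W)) ⟶ Spec (CommRingCat.of (RU W)) :=
  Spec.map (CommRingCat.ofHom (algebraMap (RU W) (RL W)))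

noncomputable def jC : Spec (CommRingCat.of (RL W)) ⟶ Spec (CommRingCat.of (RC W)) :=
  Spec.map (CommRingCat.ofHom (resC W))

instance : IsOpenImmersion (jU W) := IsOpenImmersion.of_isLocalization (yU W)

instance : IsOpenImmersion (jC W) := by
  let _ : Algebra (RC W) (RL W) := (resC W).toAlgebra
  have := isLocalization_resC W
  exact IsOpenImmersion.of_isLocalization (R := RC W) (S := RL W) (wC W)

/-- The Weierstrass model. -/
noncomputable def E : Scheme.{u} := GlueTwo.glue (jU W) (jC W)

noncomputable def ιU : Spec (CommRingCat.of (RU W)) ⟶ E W := GlueTwo.i₁ _ _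

noncomputable def ιC : Spec (CommRingCat.of (RC W)) ⟶ E W := GlueTwo.i₂ _ _

instance : IsOpenImmersion (ιU W) := inferInstanceAs (IsOpenImmersion (GlueTwo.i₁ _ _))

instance : IsOpenImmersion (ιC W) := inferInstanceAs (IsOpenImmersion (GlueTwo.i₂ _ _))

theorem jU_ιU : jU W ≫ ιU W = jC W ≫ ιC W := GlueTwo.comm _ _

theorem resC_comp : (resC W).comp (iC W) = iL W := liftC_comp _ _ _ _

theorem str_aux : jU W ≫ Spec.map (CommRingCat.ofHom (iU W)) = jC W ≫ Spec.map (CommRingCat.ofHom (iC W)) := by
  rw [jU, jC, ← Spec.map_comp, ← Spec.map_comp, ← CommRingCat.ofHom_comp, ← CommRingCat.ofHom_comp, resC_comp]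
  rfl

/-- The structure morphism of the Weierstrass model. -/
noncomputable def str : E W ⟶ Spec (CommRingCat.of A) :=
  GlueTwo.desc (Spec.map (CommRingCat.ofHom (iU W))) (Spec.map (CommRingCat.ofHom (iC W))) (str_aux W)

@[reassoc]
theorem ιU_str : ιU W ≫ str W = Spec.map (CommRingCat.ofHom (iU W)) := GlueTwo.i₁_desc _ _ _

@[reassoc]
theorem ιC_str : ιC W ≫ str W = Spec.map (CommRingCat.ofHom (iC W)) := GlueTwo.i₂_desc _ _ _

theorem exists_preimage (e : E W) : (∃ y, ιU W y = e) ∨ (∃ y, ιC W y = e) := GlueTwo.exists_preimage _ _ e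

theorem eq_iff {a : Spec (CommRingCat.of (RU W))} {b : Spec (CommRingCat.of (RC W))} :
    ιU W a = ιC W b ↔ ∃ t, jU W t = a ∧ jC W t = b := GlueTwo.eq_iff _ _

/-- the two chart cover -/
noncomputable def cover : (E W).OpenCover :=
  Groth.Agent.Ega4late.H542.GlueSup.cov (ιU W) (ιC W) (fun x => exists_preimage W x)

end K820.EW
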