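import Mathlib.RingTheory.Flat.LocallyFree
import Mathlib.LinearAlgebra.TensorProduct.Quotient
import Mathlib.LinearAlgebra.FiniteDimensional.Basic

/-!
# Generators of a locally free module of rank one
-/

set_option autoImplicit false
universe u v

namespace K820.RankOne

open scoped TensorProduct

variable {A : Type u} [CommRing A] {M : Type v} [AddCommGroup M] [Module A M] [Module.Finite A M]
  [Module.Projective A M]

theorem sup_eq_top (hr : ∀ p : PrimeSpectrum A, Module.rankAtStalk (R := A) M p = 1) (c : M)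
    (m : Ideal A) [m.IsMaximal] (hc : c ∉ m • (⊤ : Submodule A M)) (x : M) :
    ∃ a : A, x - a • c ∈ m • (⊤ : Submodule A M) := by
  let _ : Field (A ⧸ m) := Ideal.Quotient.field m
  have h1 : Module.finrank (A ⧸ m) ((A ⧸ m) ⊗[A] M) = 1 := by
    have h2 := Module.rankAtStalk_baseChange (R := A) (M := M) (S := A ⧸ m) (⊥ : PrimeSpectrum (A ⧸ m))
    rw [hr] at h2
    rw [Module.rankAtStalk_eq_finrank_of_free] at h2
    exact h2
  let e := TensorProduct.quotTensorEquivQuotSMul M m
  let c' : (A ⧸ m) ⊗[A] M := (1 : A ⧸ m) ⊗ₜ c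
  have he : ∀ y : M, e ((1 : A ⧸ m) ⊗ₜ y) = Submodule.Quotient.mk y := by
    intro y
    have := TensorProduct.quotTensorEquivQuotSMul_mk_tmul m (1 : A) y
    rw [one_smul] at this
    exact this
  have hc' : c' ≠ 0 := by
    intro h
    apply hc
    rw [← Submodule.Quotient.mk_eq_zero, ← he]
    change e c' = 0
    rw [h, map_zero]
  obtain ⟨r, hr'⟩ := (finrank_eq_one_iff_of_nonzero' c' hc').mp h1 ((1 : A ⧸ m) ⊗ₜ x)
  obtain ⟨a, rfl⟩ := Ideal.Quotient.mk_surjective r
  refine ⟨a, ?_⟩
  rw [← Submodule.Quotient.mk_eq_zero, ← he, TensorProduct.tmul_sub, ← hr', TensorProduct.tmul_smul]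
  have h3 : (Ideal.Quotient.mk m a) • c' = a • c' := rfl
  rw [h3, sub_self, map_zero]

theorem bijective (hr : ∀ p : PrimeSpectrum A, Module.rankAtStalk (R := A) M p = 1) (c : M)
    (hc : ∀ (m : Ideal A) [m.IsMaximal], c ∉ m • (⊤ : Submodule A M)) :
    Function.Bijective (LinearMap.toSpanSingleton A M c) := by
  rcases subsingleton_or_nontrivial A with hA | hA
  · have hM : Subsingleton M := Module.subsingleton A M
    exact ⟨fun _ _ _ => Subsingleton.elim _ _, fun x => ⟨0, Subsingleton.elim _ _⟩⟩
  have hs : Function.Surjective (LinearMap.toSpanSingleton A M c) := by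
    rw [← LinearMap.range_eq_top]
    set R := LinearMap.range (LinearMap.toSpanSingleton A M c) with hR
    let I : Ideal A := Module.annihilator A (M ⧸ R)
    suffices hI : I = ⊤ by
      rw [eq_top_iff]
      intro x _
      have h1 : (1 : A) ∈ I := by rw [hI]; trivial
      have h2 := Module.mem_annihilator.mp h1 (Submodule.Quotient.mk x)
      rw [one_smul, Submodule.Quotient.mk_eq_zero] at h2
      exact h2
    by_contra hI
    obtain ⟨m, hm, hIm⟩ := Ideal.exists_le_maximal I hI
    have h1 : (⊤ : Submodule A (M ⧸ R)) ≤ m • (⊤ : Submodule A (M ⧸ R)) := by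
      intro x _
      obtain ⟨x, rfl⟩ := Submodule.Quotient.mk_surjective _ x
      obtain ⟨a, ha⟩ := sup_eq_top hr c m (hc m) x
      have h2 : (Submodule.Quotient.mk x : M ⧸ R) = Submodule.Quotient.mk (x - a • c) := by
        rw [Submodule.Quotient.mk_sub, eq_comm, sub_eq_self, Submodule.Quotient.mk_eq_zero]
        exact ⟨a, LinearMap.toSpanSingleton_apply _ _ _ _⟩
      rw [h2]
      have h3 : (m • (⊤ : Submodule A M)).map R.mkQ ≤ m • (⊤ : Submodule A (M ⧸ R)) := by
        rw [Submodule.map_smul'']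
        exact Submodule.smul_mono le_rfl le_top
      exact h3 ⟨_, ha, rfl⟩
    obtain ⟨r, hr1, hr2⟩ := Submodule.exists_sub_one_mem_and_smul_eq_zero_of_fg_of_le_smul m
      (⊤ : Submodule A (M ⧸ R)) Module.Finite.fg_top h1
    have h4 : r ∈ I := Module.mem_annihilator.mpr fun n => hr2 n trivial
    have h5 := hIm h4
    have h6 : (1 : A) ∈ m := by
      have := m.sub_mem h5 hr1
      rwa [sub_sub_cancel] at this
    exact hm.ne_top ((Ideal.eq_top_iff_one _).mpr h6)
  refine Module.bijective_of_surjective_of_rankAtStalk_eq hs fun m _ => ?_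
  rw [hr, Module.rankAtStalk_self]
  rfl

end K820.RankOne
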