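import Groth.Agent.EllLift.K820.SecHOne
import Groth.Agent.EllLift.K820.RankOne

/-!
# Existence of Weierstrass coordinates for a family of curves of genus one with a section having a local equation
-/

set_option autoImplicit false
universe u

open CategoryTheory CategoryTheory.Limits AlgebraicGeometry Opposite

namespace K820.EW

open Groth.Agent.VarietyA.Ell (WEq WEqInf sc)
open Groth.Agent Groth.Agent.Dix Groth.Agent.CurvesB

section Fam

variable {A : Type u} [CommRing A] {X : Scheme.{u}} {q : X ⟶ Spec (CommRingCat.of A)}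
  [IsProper q] [Smooth q] (hq : EllFib q)

include hq in
theorem sc_top_surjective : Function.Surjective (sc q ⊤) := by
  have h1 : IsIso (q.app ⊤) := Groth.Agent.S0981.result q (fun K _ _ g => by
    have := (hq K g _ _ _ (IsPullback.of_hasPullback q g)).1
    exact ⟨inferInstance, inferInstance⟩) ⊤
  intro s
  have h2 : Function.Surjective (q.app ⊤) := (ConcreteCategory.bijective_of_isIso (q.app ⊤)).2
  obtain ⟨r, hr⟩ := h2 s
  have h3 : Function.Surjective (Scheme.ΓSpecIso (CommRingCat.of A)).inv :=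
    (ConcreteCategory.bijective_of_isIso (Scheme.ΓSpecIso (CommRingCat.of A)).inv).2
  obtain ⟨a, rfl⟩ := h3 r
  refine ⟨a, ?_⟩
  rw [← hr]
  change (q.appLE ⊤ ⊤ le_top) ((Scheme.ΓSpecIso (CommRingCat.of A)).inv a) = _
  rw [Scheme.Hom.app_eq_appLE]
  rfl

variable {e : Spec (CommRingCat.of A) ⟶ X} {U : X.Opens} (S : SecData q e U)

include hq in
theorem hOne_hZero : S.lead.HOne ∧ S.lead.HZero := by
  let _ : X.Over (Spec (CommRingCat.of A)) := ⟨q⟩
  have hp : IsProper (X ↘ Spec (CommRingCat.of A)) := ‹IsProper q›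
  have hs : Smooth (X ↘ Spec (CommRingCat.of A)) := ‹Smooth q›
  have hq' : EllFib (X ↘ Spec (CommRingCat.of A)) := hq
  let S' : SecData (X ↘ Spec (CommRingCat.of A)) e U := S
  obtain ⟨f1, f2, f3⟩ := hOne_module hq'
  let ti : Γ(X, U ⊓ S.V) := S.lead.zi
  have hti : X.presheaf.map (homOfLE (inf_le_right : U ⊓ S.V ≤ S.V)).op S.t * ti = 1 := S.lead.z_mul
  let c := Picfga.ChiCech.h1Map A (Coh.structureModule X) S'.cover ti
  have hbij := RankOne.bijective f3 c (fun m _ => h1Map_notMem hq' S' m ti hti)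
  let τ : Γ(X, U ⊓ S.V) → Picfga.ChiCech.SecA A (Coh.structureModule X) (U ⊓ S.V) := fun s => s
  have hsmul : ∀ (a : A) (s : Γ(X, U ⊓ S.V)),
      a • τ s = τ (sc q (U ⊓ S.V) a * s) := fun a s => rfl
  constructor
  · intro h
    obtain ⟨a, ha⟩ := hbij.2 (Picfga.ChiCech.h1Map A (Coh.structureModule X) S'.cover h)
    have ha' : Picfga.ChiCech.h1Map A (Coh.structureModule X) S'.cover (τ (sc q (U ⊓ S.V) a * ti)) =
        Picfga.ChiCech.h1Map A (Coh.structureModule X) S'.cover (τ h) := by
      rw [LinearMap.toSpanSingleton_apply] at ha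
      exact ((map_smul (Picfga.ChiCech.h1Map A (Coh.structureModule X) S'.cover) a (τ ti))).trans ha
    have h1 : τ (h - sc q (U ⊓ S.V) a * ti) ∈
        LinearMap.ker (Picfga.ChiCech.h1Map A (Coh.structureModule X) S'.cover) := by
      rw [LinearMap.mem_ker]
      exact (map_sub (Picfga.ChiCech.h1Map A (Coh.structureModule X) S'.cover) (τ h) _).trans
        (sub_eq_zero.mpr ha'.symm)
    rw [Picfga.ChiCech.ker_h1Map] at h1
    obtain ⟨⟨x, y⟩, hxy⟩ := h1
    let x' : Γ(X, U) := x
    let y' : Γ(X, S.V) := y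
    have hxy' : X.presheaf.map (homOfLE (inf_le_left : U ⊓ S.V ≤ U)).op x' -
        X.presheaf.map (homOfLE (inf_le_right : U ⊓ S.V ≤ S.V)).op y' = h - sc q (U ⊓ S.V) a * ti := hxy
    refine ⟨x', sc q S.V a - S.t * y', ?_⟩
    change X.presheaf.map (homOfLE (inf_le_right : U ⊓ S.V ≤ S.V)).op S.t * h =
      X.presheaf.map (homOfLE (inf_le_right : U ⊓ S.V ≤ S.V)).op S.t *
        X.presheaf.map (homOfLE (inf_le_left : U ⊓ S.V ≤ U)).op x' +
        X.presheaf.map (homOfLE (inf_le_right : U ⊓ S.V ≤ S.V)).op (sc q S.V a - S.t * y')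
    rw [map_sub, map_mul, sc_res_apply]
    linear_combination (-(X.presheaf.map (homOfLE (inf_le_right : U ⊓ S.V ≤ S.V)).op S.t)) * hxy' +
      sc q (U ⊓ S.V) a * hti
  · intro f b hfb
    have hfb' : X.presheaf.map (homOfLE (inf_le_right : U ⊓ S.V ≤ S.V)).op S.t *
      X.presheaf.map (homOfLE (inf_le_left : U ⊓ S.V ≤ U)).op f =
      X.presheaf.map (homOfLE (inf_le_right : U ⊓ S.V ≤ S.V)).op b := hfb
    set β := ev e S.V S.heV b with hβ
    obtain ⟨b', hb'⟩ := S.ht (b - sc q S.V β) (by rw [map_sub, ev_sc e q S.he, ← hβ, sub_self])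
    have e1 : X.presheaf.map (homOfLE (inf_le_left : U ⊓ S.V ≤ U)).op f -
        X.presheaf.map (homOfLE (inf_le_right : U ⊓ S.V ≤ S.V)).op b' = sc q (U ⊓ S.V) β * ti := by
      apply S.isUnit_res_t.mul_left_cancel
      have e2 : X.presheaf.map (homOfLE (inf_le_right : U ⊓ S.V ≤ S.V)).op b =
          sc q (U ⊓ S.V) β + X.presheaf.map (homOfLE (inf_le_right : U ⊓ S.V ≤ S.V)).op S.t *
            X.presheaf.map (homOfLE (inf_le_right : U ⊓ S.V ≤ S.V)).op b' := by
        rw [← map_mul, ← hb', map_sub, sc_res_apply]; ring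
      linear_combination hfb' + e2 - sc q (U ⊓ S.V) β * hti
    have e3 : β • τ ti ∈ LinearMap.ker (Picfga.ChiCech.h1Map A (Coh.structureModule X) S'.cover) := by
      rw [Picfga.ChiCech.ker_h1Map]
      exact ⟨(f, b'), e1.trans (hsmul _ _).symm⟩
    have e4 : β = 0 := by
      apply hbij.1
      rw [LinearMap.toSpanSingleton_apply, map_zero]
      exact ((map_smul (Picfga.ChiCech.h1Map A (Coh.structureModule X) S'.cover) β (τ ti))).symm.trans e3
    rw [e4, map_zero, zero_mul] at e1
    have e5 : ((f, b') : Picfga.ChiCech.SecA A (Coh.structureModule X) U ×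
        Picfga.ChiCech.SecA A (Coh.structureModule X) S.V) ∈
        LinearMap.range (Picfga.ChiCech.toPair A (Coh.structureModule X) U S.V) := by
      rw [Picfga.ChiCech.range_toPair A (Coh.structureModule X) S'.cover]
      exact e1
    obtain ⟨s, hs⟩ := e5
    let s' : Γ(X, ⊤) := s
    have hs1 : X.presheaf.map (homOfLE (le_top : U ≤ ⊤)).op s' = f := congrArg Prod.fst hs
    obtain ⟨a, ha⟩ := sc_top_surjective hq s'
    refine ⟨a, ?_⟩
    rw [← hs1, ← ha]
    exact sc_res_apply q _ _

include hq S in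
/-- **Existence of Weierstrass coordinates.** -/
theorem SecData.exists_co' : ∃ W : WeierstrassCurve A, Nonempty (Co W q e U) :=
  S.exists_co (hOne_hZero hq S).2 (hOne_hZero hq S).1

end Fam

end K820.EW
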