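import Groth.Agent.EllLift.K820.TheoremM
import Groth.Agent.S1937
import Groth.Agent.S1612
import Groth.Agent.S1536
import Groth.Agent.S1628
import Groth.Agent.Sga4h.TameFieldK2
import Groth.Agent.Sga4h.CurveHat410
import Groth.Agent.JacVar.K532.Base
import Groth.Agent.CurvesB.OmegaInv
import Groth.Agent.Ega2.VeryAmpleAmple
import Groth.Agent.AgPol.K814.RelDim
import Groth.Prelude.Def_PicLoc
import Groth.Agent.CurvesC.DegIso

/-!
# Abelian schemes of relative dimension one are families of curves of genus one
-/

set_option autoImplicit false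
universe u

open CategoryTheory CategoryTheory.Limits MonoidalCategory CartesianMonoidalCategory AlgebraicGeometry
open scoped MonObj

namespace K820.Genus

/-- The sheaf of differentials of an elliptic curve over a field is trivial. -/
theorem nonempty_omega_iso {K : Type u} [Field K] (G : Over (Spec (CommRingCat.of K))) [GrpObj G]
    [IsProper G.hom] [Smooth G.hom] [IsIntegral G.left] (hdim : topologicalKrullDim G.left = 1) :
    Nonempty (Omega.sheaf G.hom ≅ Coh.structureModule G.left) := by
  obtain ⟨⟨a⟩, -⟩ := Groth.Agent.S1937.result _ G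
  let S : Scheme.{u} := Spec (CommRingCat.of K)
  let e : S ⟶ G.left := η[G].left
  have he : e ≫ G.hom = 𝟙 S := Over.w η[G]
  let C : S.Modules := Omega.conormal η[G].left
  let a' : Omega.sheaf G.hom ≅ (Scheme.Modules.pullback G.hom).obj C := a
  have hinv := Groth.Agent.CurvesB.OmegaInv.isInvertible_omega (f := G.hom) hdim
  have h1 : PicF.IsInvertible ((Scheme.Modules.pullback e).obj (Omega.sheaf G.hom)) :=
    PicLoc.isInvertible_pullback e hinv
  let b : (Scheme.Modules.pullback e).obj (Omega.sheaf G.hom) ≅ C :=
    (Scheme.Modules.pullback e).mapIso a' ≪≫ (Scheme.Modules.pullbackComp e G.hom).app C ≪≫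
      (Scheme.Modules.pullbackCongr he).app C ≪≫ (Scheme.Modules.pullbackId S).app C
  have h2 : PicF.IsInvertible C := Groth.Agent.Ega2.VeryAmpleAmple.isInvertible_of_iso b h1
  have : Subsingleton S := inferInstanceAs (Subsingleton (PrimeSpectrum K))
  have : Nonempty S := inferInstanceAs (Nonempty (PrimeSpectrum K))
  obtain ⟨c⟩ := Groth.Agent.Sga4h.TameFieldK2.pic_trivial C h2
  exact ⟨a' ≪≫ (Scheme.Modules.pullback G.hom).mapIso c ≪≫ PicLoc.pullbackStructureIso G.hom⟩

/-- Elliptic curves over a field have genus one. -/
theorem genus_one {K : Type u} [Field K] (G : Over (Spec (CommRingCat.of K))) [GrpObj G]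
    [IsProper G.hom] [Smooth G.hom] [GeometricallyConnected G.hom] (hdim : topologicalKrullDim G.left = 1) :
    letI : G.left.Over (Spec (CommRingCat.of K)) := ⟨G.hom⟩
    Module.finrank K (Coh.HH G.left (Coh.structureModule G.left) 1) = 1 := by
  let _ : G.left.Over (Spec (CommRingCat.of K)) := ⟨G.hom⟩
  have hG : G.left ↘ Spec (CommRingCat.of K) = G.hom := rfl
  have h1 : IsProper (G.left ↘ Spec (CommRingCat.of K)) := ‹IsProper G.hom›
  have h2 : Smooth (G.left ↘ Spec (CommRingCat.of K)) := ‹Smooth G.hom›
  have h3 : GeometricallyConnected (G.left ↘ Spec (CommRingCat.of K)) := ‹GeometricallyConnected G.hom›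
  have hcurve := K532.Base.isSmoothProperCurve G.hom hdim
  have hint : IsIntegral G.left := hcurve.2.2.1
  have h4 : GeometricallyReduced (G.left ↘ Spec (CommRingCat.of K)) := (Groth.Agent.S1628.result K G.left).1
  have h0 := Groth.Agent.S1536.result K G.left
  obtain ⟨a⟩ := nonempty_omega_iso G hdim
  have h5 := (Groth.Agent.S1612.result K G.left hcurve h0).1
  have h6 : Module.finrank K (Coh.HH G.left (Omega.sheaf (G.left ↘ Spec (CommRingCat.of K))) 0) =
      Module.finrank K (Coh.HH G.left (Coh.structureModule G.left) 0) :=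
    Groth.Agent.CurvesC.DegIso.finrank_congr K a 0
  rw [h6, h0] at h5
  exact h5.symm

/-- Abelian schemes of relative dimension one are families of curves of genus one. -/
theorem ellFib {S : Scheme.{u}} (J : Over S) [GrpObj J] (hJ : AgPol.IsAbSch J 1) : EW.EllFib J.hom := by
  intro K _ t X' g q' hP
  have hJs := hJ.smooth
  have hJp := hJ.proper
  have hJc := hJ.geomConnected
  have hJr := K814.RelDim.of_isAbSch J 1 hJ
  let i : (Red.bc t J).left ≅ X' := (IsPullback.of_hasPullback J.hom t).isoIsPullback _ _ hP
  have hi : i.hom ≫ q' = (Red.bc t J).hom := IsPullback.isoIsPullback_hom_snd _ _ _ _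
  let G : Over (Spec (CommRingCat.of K)) := Over.mk q'
  let e : Red.bc t J ≅ G := Over.isoMk i hi
  let _ : GrpObj G := GrpObj.ofIso e
  have h1 : Smooth q' := MorphismProperty.of_isPullback (P := @Smooth) hP inferInstance
  have h2 : IsProper q' := MorphismProperty.of_isPullback (P := @IsProper) hP inferInstance
  have h3 : GeometricallyConnected q' := MorphismProperty.of_isPullback (P := @GeometricallyConnected) hP inferInstance
  have h4 : SmoothOfRelativeDimension 1 q' :=
    have := smoothOfRelativeDimension_isStableUnderBaseChange (n := 1)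
    MorphismProperty.of_isPullback (P := @SmoothOfRelativeDimension 1) hP hJr
  have h5 : ConnectedSpace X' := GeometricallyConnected.geometrically_connectedSpace _ _ _ hP
  have hint : IsIntegral X' := K532.Base.isIntegral_of_connected q'
  have hdim : topologicalKrullDim X' = 1 := Groth.Agent.Sga4h.CurveHat410.topologicalKrullDim_eq q' 1
  have h1' : Smooth G.hom := h1
  have h2' : IsProper G.hom := h2
  have h3' : GeometricallyConnected G.hom := h3
  exact ⟨hint, hdim, genus_one G hdim⟩

end K820.Genus
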