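import Groth.Agent.EllLift.K820.SecCo
import Groth.Agent.EllLift.K820.Genus
import Groth.Agent.CurvSt.K898.BaseH1
import Groth.Agent.S0981
import Groth.Agent.S1536
import Groth.Agent.S0458
import Groth.Prelude.Def_ClSub2

/-!
# The cohomological input for local Weierstrass coordinates
-/

set_option autoImplicit false
universe u

open CategoryTheory CategoryTheory.Limits AlgebraicGeometry Opposite

namespace K820.EW

open Groth.Agent.VarietyA.Ell (WEq WEqInf sc)
open Groth.Agent Groth.Agent.Dix Groth.Agent.CurvesB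

section Field

variable {K : Type u} [Field K] {X : Scheme.{u}} [IsIntegral X] [X.Over (Spec (CommRingCat.of K))]

attribute [local instance] EllPoleData.algK

/-- On a curve of genus one a function with a simple pole is not a Cech coboundary. -/
theorem not_cech [IsProper (X ↘ Spec (CommRingCat.of K))] [Smooth (X ↘ Spec (CommRingCat.of K))]
    (hdim : topologicalKrullDim X = 1) (h1 : Module.finrank K (Coh.HH X (Coh.structureModule X) 1) = 1)
    (e : Spec (CommRingCat.of K) ⟶ X) (he : e ≫ (X ↘ Spec (CommRingCat.of K)) = 𝟙 _)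
    {U V : X.Opens} (hV : IsAffineOpen V) (heV : ⊤ ≤ e ⁻¹ᵁ V) (t : Γ(X, V)) (ht0 : ev e V heV t = 0)
    (ht : ∀ b, ev e V heV b = 0 → t ∣ b) (hU : ∀ y : X, y ∈ U ↔ y ∉ Set.range e)
    (ti : Γ(X, U ⊓ V))
    (hti : X.presheaf.map (homOfLE (inf_le_right : U ⊓ V ≤ V)).op t * ti = 1)
    (a : Γ(X, U)) (b : Γ(X, V))
    (hab : X.presheaf.map (homOfLE (inf_le_left : U ⊓ V ≤ U)).op a -
      X.presheaf.map (homOfLE (inf_le_right : U ⊓ V ≤ V)).op b = ti) : False := by
  obtain ⟨p⟩ : Nonempty (Spec (CommRingCat.of K)) := inferInstanceAs (Nonempty (PrimeSpectrum K))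
  have hp : ∀ p', e p' = e p := fun p' => by
    have : p' = p := Subsingleton.elim (α := PrimeSpectrum K) _ _
    rw [this]
  obtain ⟨U', hU'ne, D, hU'a, hU', hP, hO, t₀, ht₀, hDt⟩ := EllPoleData.exists_poleData hdim h1 e he (e p) hp
  have hUU : U' = U := by
    ext y
    change y ∈ U' ↔ y ∈ U
    rw [hU', hU, not_iff_not]
    constructor
    · rintro rfl; exact ⟨_, rfl⟩
    · rintro ⟨p', rfl⟩; exact hp p'
  subst hUU
  have hxV : e p ∈ V := heV (x := p) trivial
  have hm := maximalIdeal_le e hV heV p _ rfl hxV t ht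
  have htm : X.presheaf.germ V (e p) hxV t ∈ IsLocalRing.maximalIdeal (X.presheaf.stalk (e p)) :=
    (germ_mem_iff e V heV p _ rfl hxV t).mpr ht0
  have hneV : Nonempty V := ⟨⟨_, hxV⟩⟩
  obtain ⟨α, hα⟩ := Ideal.mem_span_singleton'.mp (hm ht₀)
  have hgU : genericPoint X ∈ U' := by
    obtain ⟨⟨y, hy⟩⟩ := hU'ne
    exact ((genericPoint_spec X).mem_open_set_iff U'.2).mpr ⟨y, trivial, hy⟩
  have hgV : genericPoint X ∈ V := ((genericPoint_spec X).mem_open_set_iff V.2).mpr ⟨_, trivial, hxV⟩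
  have hneUV : Nonempty (U' ⊓ V : X.Opens) := ⟨⟨_, hgU, hgV⟩⟩
  let T : X.functionField := X.germToFunctionField V t
  let aF : X.functionField := X.germToFunctionField U' a
  let bF : X.functionField := X.germToFunctionField V b
  let tiF : X.functionField := X.germToFunctionField (U' ⊓ V) ti
  have r1 : ∀ s : Γ(X, V), X.germToFunctionField (U' ⊓ V)
      (X.presheaf.map (homOfLE (inf_le_right : U' ⊓ V ≤ V)).op s) = X.germToFunctionField V s := by
    intro s
    exact congrArg (fun f : Γ(X, V) ⟶ _ => f s) (X.presheaf.germ_res (homOfLE inf_le_right) _ _)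
  have r2 : ∀ s : Γ(X, U'), X.germToFunctionField (U' ⊓ V)
      (X.presheaf.map (homOfLE (inf_le_left : U' ⊓ V ≤ U')).op s) = X.germToFunctionField U' s := by
    intro s
    exact congrArg (fun f : Γ(X, U') ⟶ _ => f s) (X.presheaf.germ_res (homOfLE inf_le_left) _ _)
  have e1 : T * tiF = 1 := by
    have := congrArg (fun s => X.germToFunctionField (U' ⊓ V) s) hti
    simp only [map_mul, map_one] at this
    rwa [r1] at this
  have e2 : aF - bF = tiF := by
    have := congrArg (fun s => X.germToFunctionField (U' ⊓ V) s) hab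
    simp only [map_sub] at this
    rwa [r1, r2] at this
  have hT : algebraMap (X.presheaf.stalk (e p)) X.functionField (X.presheaf.germ V (e p) hxV t) = T :=
    X.algebraMap_germ_eq_germToFunctionField hxV t
  have hbF : algebraMap (X.presheaf.stalk (e p)) X.functionField (X.presheaf.germ V (e p) hxV b) = bF :=
    X.algebraMap_germ_eq_germToFunctionField hxV b
  have haP : aF ∈ D.P := by rw [hP]; exact ⟨a, rfl⟩
  have hmemO : ∀ s, algebraMap (X.presheaf.stalk (e p)) X.functionField s ∈ D.O := by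
    intro s
    rw [hO]
    exact ⟨s, rfl⟩
  have e3 : D.t ^ 1 * aF ∈ D.O := by
    have : D.t ^ 1 * aF = algebraMap _ X.functionField (α * (1 + X.presheaf.germ V (e p) hxV t *
        X.presheaf.germ V (e p) hxV b)) := by
      rw [pow_one, hDt, ← hα, map_mul, map_mul, map_add, map_one, map_mul, hT, hbF]
      linear_combination (algebraMap _ X.functionField α) * e1 + (algebraMap _ X.functionField α) * T * e2
    rw [this]
    exact hmemO _
  obtain ⟨c, hc⟩ := EllPole.PoleData.mem_of_one haP e3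
  have hcO : aF ∈ D.O := by rw [hc]; exact D.O.algebraMap_mem c
  rw [hO] at hcO
  obtain ⟨s, hs⟩ : ∃ s, algebraMap (X.presheaf.stalk (e p)) X.functionField s = aF := hcO
  have e4 : X.presheaf.germ V (e p) hxV t * (s - X.presheaf.germ V (e p) hxV b) = 1 := by
    apply IsFractionRing.injective (X.presheaf.stalk (e p)) X.functionField
    rw [map_mul, map_sub, hT, hbF, hs, map_one, e2, e1]
  have e5 : (1 : X.presheaf.stalk (e p)) ∈ IsLocalRing.maximalIdeal (X.presheaf.stalk (e p)) := by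
    rw [← e4]
    exact Ideal.mul_mem_right _ _ htm
  exact (Ideal.ne_top_iff_one _).mp (IsLocalRing.maximalIdeal.isMaximal _).ne_top e5

end Field

section Pull

variable {A B : Type u} [CommRing A] [CommRing B] (φ : A →+* B) {X X' : Scheme.{u}} {g : X' ⟶ X}
  {q' : X' ⟶ Spec (CommRingCat.of B)} {q : X ⟶ Spec (CommRingCat.of A)}
  (hP : IsPullback g q' q (Spec.map (CommRingCat.ofHom φ)))

include hP in
theorem exists_section_pull (e : Spec (CommRingCat.of A) ⟶ X) (he : e ≫ q = 𝟙 _) :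
    ∃ e' : Spec (CommRingCat.of B) ⟶ X', e' ≫ q' = 𝟙 _ ∧ e' ≫ g = Spec.map (CommRingCat.ofHom φ) ≫ e ∧
      (∀ V : X.Opens, ⊤ ≤ e ⁻¹ᵁ V → ⊤ ≤ e' ⁻¹ᵁ (g ⁻¹ᵁ V)) ∧
      (∀ U : X.Opens, (∀ y : X, y ∈ U ↔ y ∉ Set.range e) → ∀ y : X', y ∈ g ⁻¹ᵁ U ↔ y ∉ Set.range e') := by
  let e' : Spec (CommRingCat.of B) ⟶ X' := hP.lift (Spec.map (CommRingCat.ofHom φ) ≫ e) (𝟙 _) (by
    rw [Category.assoc, he, Category.comp_id, Category.id_comp])
  have hc : e' ≫ g = Spec.map (CommRingCat.ofHom φ) ≫ e := hP.lift_fst _ _ _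
  have he' : e' ≫ q' = 𝟙 _ := hP.lift_snd _ _ _
  have hPe : IsPullback e' (Spec.map (CommRingCat.ofHom φ)) g e := by
    refine (IsPullback.of_bot (h₃₁ := Spec.map (CommRingCat.ofHom φ)) (v₂₁ := q') (v₂₂ := q) ?_ hc.symm hP).flip
    rw [he, he']
    exact IsPullback.of_vert_isIso ⟨by rw [Category.comp_id, Category.id_comp]⟩
  refine ⟨e', he', hc, fun V hV p' _ => ?_, fun U hU y => ?_⟩
  · change g (e' p') ∈ V
    rw [← Scheme.Hom.comp_apply, hc, Scheme.Hom.comp_apply]
    exact hV (x := _) trivial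
  · change g y ∈ U ↔ _
    rw [hU, not_iff_not]
    constructor
    · rintro ⟨s, hs⟩
      obtain ⟨p', hp', -⟩ := Scheme.exists_preimage_of_isPullback hPe y s hs.symm
      exact ⟨p', hp'⟩
    · rintro ⟨p', rfl⟩
      rw [← Scheme.Hom.comp_apply, hc, Scheme.Hom.comp_apply]
      exact ⟨_, rfl⟩

end Pull

theorem geometricallyConnected_of_ellFib {X S : Scheme.{u}} {q : X ⟶ S} (hq : EllFib q) :
    GeometricallyConnected q :=
  ⟨fun K _ y Z fst snd h => by
    have := (hq K y Z fst snd h).1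
    infer_instance⟩

theorem geometricallyReduced_of_ellFib {X S : Scheme.{u}} {q : X ⟶ S} (hq : EllFib q) :
    GeometricallyReduced q :=
  ⟨fun K _ y Z fst snd h => by
    have := (hq K y Z fst snd h).1
    infer_instance⟩

section Fam

variable {A : Type u} [CommRing A] {X : Scheme.{u}} [X.Over (Spec (CommRingCat.of A))]

theorem fibHyp [IsProper (X ↘ Spec (CommRingCat.of A))] (hq : EllFib (X ↘ Spec (CommRingCat.of A))) :
    NodalHOne.FibHyp A X := by
  intro m _ Y _ j H
  let _ : Field (A ⧸ m) := Ideal.Quotient.field m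
  have hp : IsProper (Y ↘ Spec (CommRingCat.of (A ⧸ m))) := MorphismProperty.of_isPullback H inferInstance
  have i1 := geometricallyConnected_of_ellFib hq
  have i2 := geometricallyReduced_of_ellFib hq
  have i3 : GeometricallyConnected (Y ↘ Spec (CommRingCat.of (A ⧸ m))) :=
    MorphismProperty.of_isPullback (P := @GeometricallyConnected) H inferInstance
  have i4 : GeometricallyReduced (Y ↘ Spec (CommRingCat.of (A ⧸ m))) :=
    MorphismProperty.of_isPullback (P := @GeometricallyReduced) H inferInstance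
  obtain ⟨-, hdim, -⟩ := hq (A ⧸ m) _ Y j _ H
  refine ⟨Groth.Agent.S1536.result (A ⧸ m) Y, fun r hr => ?_⟩
  have h1 : IsLocallyNoetherian Y :=
    LocallyOfFiniteType.isLocallyNoetherian (Y ↘ Spec (CommRingCat.of (A ⧸ m)))
  have h2 : CompactSpace Y := QuasiCompact.compactSpace_of_compactSpace (Y ↘ Spec (CommRingCat.of (A ⧸ m)))
  have h3 : IsNoetherian Y := { }
  exact Groth.Agent.S0458.result 1 hdim.le (Coh.toAb (Coh.structureModule Y)) r (by omega)

variable [IsProper (X ↘ Spec (CommRingCat.of A))] [Smooth (X ↘ Spec (CommRingCat.of A))]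
  (hq : EllFib (X ↘ Spec (CommRingCat.of A)))

include hq in
/-- `H¹(X, O)` is an invertible module. -/
theorem hOne_module : Module.Finite A (Coh.HH X (Coh.structureModule X) 1) ∧
    Module.Projective A (Coh.HH X (Coh.structureModule X) 1) ∧
    ∀ p : PrimeSpectrum A, Module.rankAtStalk (R := A) (Coh.HH X (Coh.structureModule X) 1) p = 1 := by
  have hF := fibHyp hq
  obtain ⟨⟨f1, f2⟩, -⟩ := NodalHOne.of_fibHyp A X hF
  refine ⟨f1, f2, fun p => ?_⟩
  rw [K898.BaseH1.rankAtStalk_HH A X hF p]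
  exact (hq p.asIdeal.ResidueField _ _ _ _ (IsPullback.of_hasPullback _ _)).2.2

variable {e : Spec (CommRingCat.of A) ⟶ X} {U : X.Opens} (S : SecData (X ↘ Spec (CommRingCat.of A)) e U)

include hq in
theorem h1Map_notMem (m : Ideal A) [m.IsMaximal] (ti : Γ(X, U ⊓ S.V))
    (hti : X.presheaf.map (homOfLE (inf_le_right : U ⊓ S.V ≤ S.V)).op S.t * ti = 1) :
    Picfga.ChiCech.h1Map A (Coh.structureModule X) S.cover ti ∉
      m • (⊤ : Submodule A (Coh.HH X (Coh.structureModule X) 1)) := by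
  intro hmem
  let _ : Field (A ⧸ m) := Ideal.Quotient.field m
  let Y : Scheme.{u} := pullback (X ↘ Spec (CommRingCat.of A)) (Spec.map (CommRingCat.ofHom (Ideal.Quotient.mk m)))
  let g : Y ⟶ X := pullback.fst _ _
  let q' : Y ⟶ Spec (CommRingCat.of (A ⧸ m)) := pullback.snd _ _
  have hP : IsPullback g q' (X ↘ Spec (CommRingCat.of A)) (Spec.map (CommRingCat.ofHom (Ideal.Quotient.mk m))) :=
    IsPullback.of_hasPullback _ _
  obtain ⟨hint, hdim, hg⟩ := hq (A ⧸ m) _ Y g q' hP
  let _ : Y.Over (Spec (CommRingCat.of (A ⧸ m))) := ⟨q'⟩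
  have i1 : Smooth (Y ↘ Spec (CommRingCat.of (A ⧸ m))) := MorphismProperty.of_isPullback (P := @Smooth) hP inferInstance
  have i2 : IsProper (Y ↘ Spec (CommRingCat.of (A ⧸ m))) :=
    MorphismProperty.of_isPullback (P := @IsProper) hP inferInstance
  obtain ⟨e', he', hc, heV, hU⟩ := exists_section_pull (Ideal.Quotient.mk m) hP e S.he
  let F := Coh.toAb (Coh.structureModule X)
  let G := Coh.toAb ((Scheme.Modules.pushforward g).obj (Coh.structureModule Y))
  let u : F ⟶ G := (SheafOfModules.toSheaf X.ringCatSheaf).map (ClSub.unitToPush g)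
  have hu : ∀ (W : X.Opens) (z : Γ(X, W)), u.hom.app (op W) z = g.app W z := fun W z => rfl
  have hzero : ∀ a ∈ m, Coh.smulAb (Coh.structureModule X) (Coh.toGlobal (X ↘ Spec (CommRingCat.of A)) a) ≫ u = 0 := by
    intro a ha
    have h0 : ∀ W : X.Opens, g.app W (sc (X ↘ Spec (CommRingCat.of A)) W a) = 0 := by
      intro W
      have h1 := congrArg (fun t : A →+* _ => t a) (app_sc (Ideal.Quotient.mk m) hP.w W)
      have h2 : sc q' (g ⁻¹ᵁ W) (Ideal.Quotient.mk m a) = 0 := by
        rw [Ideal.Quotient.eq_zero_iff_mem.mpr ha, map_zero]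
      exact h1.trans h2
    ext W z
    have h3 : ∀ z : Γ(X, W.unop), g.app W.unop (sc (X ↘ Spec (CommRingCat.of A)) W.unop a * z) = 0 := by
      intro z
      rw [map_mul, h0, zero_mul]
    exact h3 z
  have hkill : ∀ x ∈ m • (⊤ : Submodule A (Coh.HH X (Coh.structureModule X) 1)),
      Sheaf.H.map.{u} u 1 (show Sheaf.H F 1 from x) = 0 := by
    intro x hx
    refine Submodule.smul_induction_on hx (fun a ha n _ => ?_) (fun x y hx hy => ?_)
    · change Sheaf.H.map.{u} u 1 (Sheaf.H.map.{u} (Coh.smulAb (Coh.structureModule X)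
        (Coh.toGlobal (X ↘ Spec (CommRingCat.of A)) a)) 1 n) = 0
      rw [← Sheaf.H.map_comp_apply, hzero a ha]
      change ((Sheaf.functorH _ 1).map (0 : F ⟶ G)).hom n = 0
      rw [Functor.map_zero]
      rfl
    · rw [map_add, hx, hy, add_zero]
  have h1 := hkill _ hmem
  have h2 : Picfga.ChiCech.toH1 (Y := X.toTopCat) G S.cover (u.hom.app (op (U ⊓ S.V)) ti) = 0 :=
    (Picfga.ChiCech.toH1_map (Y := X.toTopCat) u S.cover ti).trans h1
  rw [Picfga.ChiCech.toH1_eq_zero_iff] at h2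
  obtain ⟨a, b, hab⟩ := h2
  refine not_cech hdim hg e' he' (isAffineOpen_preimage hP S.hV) (heV _ S.heV) (g.app S.V S.t) ?_ ?_
    (hU _ S.hU) (g.app (U ⊓ S.V) ti) ?_ a b ?_
  · rw [ev_app e hc S.V S.heV, S.ht0, map_zero]
  · intro b hb
    exact dvd_of_ev_eq_zero hP e S.he e' he' hc S.hV S.heV (heV _ S.heV) S.t S.ht b hb
  · have h3 : Y.presheaf.map (homOfLE (inf_le_right : g ⁻¹ᵁ U ⊓ g ⁻¹ᵁ S.V ≤ g ⁻¹ᵁ S.V)).op (g.app S.V S.t) =
        g.app (U ⊓ S.V) (X.presheaf.map (homOfLE (inf_le_right : U ⊓ S.V ≤ S.V)).op S.t) :=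
      (congrArg (fun f : Γ(X, S.V) ⟶ _ => f S.t)
        (g.naturality (homOfLE (inf_le_right : U ⊓ S.V ≤ S.V)).op)).symm
    rw [h3]
    have h4 := congrArg (fun s => g.app (U ⊓ S.V) s) hti
    simp only [map_mul, map_one] at h4
    exact h4
  · exact hab

end Fam

end K820.EW
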