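import Groth.Agent.EllLift.K820.Genus
import Groth.Agent.EllLift.K820.SecHOne

/-!
# Base change of families of curves of genus one
-/

set_option autoImplicit false
universe u

open CategoryTheory CategoryTheory.Limits MonoidalCategory CartesianMonoidalCategory AlgebraicGeometry Opposite
open scoped MonObj

namespace K820.EW

theorem EllFib.of_isPullback {X S X' S' : Scheme.{u}} {g : X' ⟶ X} {q' : X' ⟶ S'} {q : X ⟶ S} {t : S' ⟶ S}
    (hP : IsPullback g q' q t) (hq : EllFib q) : EllFib q' := by
  intro K _ s Y h r hY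
  exact hq K (s ≫ t) Y (h ≫ g) r (hY.paste_horiz hP)

theorem isAbSch_of_ellFib {S : Scheme.{u}} (X : Over S) (h1 : Smooth X.hom) (h2 : IsProper X.hom)
    (hq : EllFib X.hom) : AgPol.IsAbSch X 1 where
  smooth := h1
  proper := h2
  geomConnected := geometricallyConnected_of_ellFib hq
  fibreDim s := by
    have h4 : IsPullback (X.hom.fiberι s) (X.hom.fiberToSpecResidueField s) X.hom
      (S.fromSpecResidueField s) := IsPullback.of_hasPullback _ _
    exact_mod_cast (hq _ _ _ _ _ h4).2.1

theorem isAbSch_of_isPullback {S S' : Scheme.{u}} (J : Over S) [GrpObj J] (hJ : AgPol.IsAbSch J 1) (X : Over S')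
    {g : X.left ⟶ J.left} {t : S' ⟶ S} (hP : IsPullback g X.hom J.hom t) : AgPol.IsAbSch X 1 := by
  have h1 := hJ.smooth
  have h2 := hJ.proper
  exact isAbSch_of_ellFib X (MorphismProperty.of_isPullback (P := @Smooth) hP inferInstance)
    (MorphismProperty.of_isPullback (P := @IsProper) hP inferInstance)
    (EllFib.of_isPullback hP (Genus.ellFib J hJ))

theorem isAbSch_bc {S S' : Scheme.{u}} (J : Over S) [GrpObj J] (hJ : AgPol.IsAbSch J 1) (t : S' ⟶ S) :
    AgPol.IsAbSch (Red.bc t J) 1 :=
  isAbSch_of_isPullback J hJ (Red.bc t J) (g := pullback.fst J.hom t) (t := t) (IsPullback.of_hasPullback J.hom t)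

end K820.EW
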