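import Groth.Agent.EllLift.K820.CoPt

/-!
# Functoriality of the base change morphisms of the Weierstrass models
-/

set_option autoImplicit false
universe u

open CategoryTheory CategoryTheory.Limits AlgebraicGeometry Opposite

namespace K820.EW

open Groth.Agent.VarietyA.Ell (WEq WEqInf sc)

variable {A B C : Type u} [CommRing A] [CommRing B] [CommRing C] (W : WeierstrassCurve A) (φ : A →+* B)
  (ψ : B →+* C)

theorem model_hom_ext {Y : Scheme.{u}} {f g : E W ⟶ Y} (h1 : ιU W ≫ f = ιU W ≫ g) (h2 : ιC W ≫ f = ιC W ≫ g) :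
    f = g :=
  pushout.hom_ext h1 h2

theorem bU_comp : (show RU W →+* RU ((W.map φ).map ψ) from bU W (ψ.comp φ)) = (bU (W.map φ) ψ).comp (bU W φ) := by
  apply hom_ext_U
  · ext a
    have h1 : bU W (ψ.comp φ) (iU W a) = iU (W.map (ψ.comp φ)) ((ψ.comp φ) a) := bU_i W (ψ.comp φ) a
    have h2 : (bU (W.map φ) ψ).comp (bU W φ) (iU W a) = iU ((W.map φ).map ψ) (ψ (φ a)) := by
      rw [RingHom.comp_apply, bU_i, bU_i]
    exact h1.trans h2.symm
  · have h1 : bU W (ψ.comp φ) (xU W) = xU (W.map (ψ.comp φ)) := bU_x W (ψ.comp φ)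
    have h2 : (bU (W.map φ) ψ).comp (bU W φ) (xU W) = xU ((W.map φ).map ψ) := by
      rw [RingHom.comp_apply, bU_x, bU_x]
    exact h1.trans h2.symm
  · have h1 : bU W (ψ.comp φ) (yU W) = yU (W.map (ψ.comp φ)) := bU_y W (ψ.comp φ)
    have h2 : (bU (W.map φ) ψ).comp (bU W φ) (yU W) = yU ((W.map φ).map ψ) := by
      rw [RingHom.comp_apply, bU_y, bU_y]
    exact h1.trans h2.symm

theorem bC_comp : (show RC W →+* RC ((W.map φ).map ψ) from bC W (ψ.comp φ)) = (bC (W.map φ) ψ).comp (bC W φ) := by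
  apply hom_ext_C
  · ext a
    have h1 : bC W (ψ.comp φ) (iC W a) = iC (W.map (ψ.comp φ)) ((ψ.comp φ) a) := bC_i W (ψ.comp φ) a
    have h2 : (bC (W.map φ) ψ).comp (bC W φ) (iC W a) = iC ((W.map φ).map ψ) (ψ (φ a)) := by
      rw [RingHom.comp_apply, bC_i, bC_i]
    exact h1.trans h2.symm
  · have h1 : bC W (ψ.comp φ) (zC W) = zC (W.map (ψ.comp φ)) := bC_z W (ψ.comp φ)
    have h2 : (bC (W.map φ) ψ).comp (bC W φ) (zC W) = zC ((W.map φ).map ψ) := by
      rw [RingHom.comp_apply, bC_z, bC_z]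
    exact h1.trans h2.symm
  · have h1 : bC W (ψ.comp φ) (wC W) = wC (W.map (ψ.comp φ)) := bC_w W (ψ.comp φ)
    have h2 : (bC (W.map φ) ψ).comp (bC W φ) (wC W) = wC ((W.map φ).map ψ) := by
      rw [RingHom.comp_apply, bC_w, bC_w]
    exact h1.trans h2.symm

theorem bc_comp : (show E ((W.map φ).map ψ) ⟶ E W from bc W (ψ.comp φ)) = bc (W.map φ) ψ ≫ bc W φ := by
  apply model_hom_ext
  · have h1 : ιU (W.map (ψ.comp φ)) ≫ bc W (ψ.comp φ) = Spec.map (CommRingCat.ofHom (bU W (ψ.comp φ))) ≫ ιU W :=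
      ιU_bc W (ψ.comp φ)
    have h2 : ιU ((W.map φ).map ψ) ≫ bc (W.map φ) ψ ≫ bc W φ =
        Spec.map (CommRingCat.ofHom ((bU (W.map φ) ψ).comp (bU W φ))) ≫ ιU W := by
      rw [ιU_bc_assoc, ιU_bc, CommRingCat.ofHom_comp, Spec.map_comp, Category.assoc]
    refine Eq.trans ?_ h2.symm
    rw [← bU_comp]
    exact h1
  · have h1 : ιC (W.map (ψ.comp φ)) ≫ bc W (ψ.comp φ) = Spec.map (CommRingCat.ofHom (bC W (ψ.comp φ))) ≫ ιC W :=
      ιC_bc W (ψ.comp φ)
    have h2 : ιC ((W.map φ).map ψ) ≫ bc (W.map φ) ψ ≫ bc W φ =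
        Spec.map (CommRingCat.ofHom ((bC (W.map φ) ψ).comp (bC W φ))) ≫ ιC W := by
      rw [ιC_bc_assoc, ιC_bc, CommRingCat.ofHom_comp, Spec.map_comp, Category.assoc]
    refine Eq.trans ?_ h2.symm
    rw [← bC_comp]
    exact h1

theorem zero_bc : zero (W.map φ) ≫ bc W φ = Spec.map (CommRingCat.ofHom φ) ≫ zero W := by
  have h1 : (liftC (W := W.map φ) (RingHom.id B) 0 0 (wEqInf_zero (W.map φ))).comp (bC W φ) =
      φ.comp (liftC (W := W) (RingHom.id A) 0 0 (wEqInf_zero W)) := by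
    apply hom_ext_C
    · ext a
      simp only [RingHom.comp_apply]
      rw [bC_i, liftC_iC, liftC_iC]
      rfl
    · simp only [RingHom.comp_apply]
      rw [bC_z, liftC_z, liftC_z, map_zero]
    · simp only [RingHom.comp_apply]
      rw [bC_w, liftC_w, liftC_w, map_zero]
  rw [zero, zero, Category.assoc, ιC_bc, ← Category.assoc, ← Spec.map_comp, ← CommRingCat.ofHom_comp, h1,
    CommRingCat.ofHom_comp, Spec.map_comp, Category.assoc]

end K820.EW
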