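import Mathlib.AlgebraicGeometry.EllipticCurve.VariableChange

/-!
# The infinitesimal action of changes of variables on Weierstrass equations

For a Weierstrass equation `W` over a ring the complex `R⁴ → R⁵ → R` formed by the derivative of the action of the
changes of variables and the form `theta` is exact as soon as the discriminant is a unit. We record explicit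
polynomial identities which prove this.
-/

set_option autoImplicit false

namespace K820.Cert

open WeierstrassCurve

variable {R : Type*} [CommRing R] (W : WeierstrassCurve R)

/-- The components of the derivative of the action of changes of variables at the identity. -/
def E1 (v s : R) : R := -W.a₁ * v + 2 * s
/-- second component -/
def E2 (v s r : R) : R := -2 * W.a₂ * v - W.a₁ * s + 3 * r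
/-- third component -/
def E3 (v r t : R) : R := -3 * W.a₃ * v + W.a₁ * r + 2 * t
/-- fourth component -/
def E4 (v s r t : R) : R := -4 * W.a₄ * v - W.a₃ * s + 2 * W.a₂ * r - W.a₁ * t
/-- fifth component -/
def E6 (v r t : R) : R := -6 * W.a₆ * v + W.a₄ * r - W.a₃ * t

/-- Component of the form `theta`. -/
def th1 : R := 6 * W.a₁ ^ 3 * W.a₆ - 7 * W.a₁ ^ 2 * W.a₃ * W.a₄ + 8 * W.a₁ * W.a₂ * W.a₃ ^ 2 + 24 * W.a₁ * W.a₂ * W.a₆ - 8 * W.a₁ * W.a₄ ^ 2 + 4 * W.a₂ * W.a₃ * W.a₄ - 9 * W.a₃ ^ 3 - 36 * W.a₃ * W.a₆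

/-- Component of the form `theta`. -/
def th2 : R := -W.a₁ ^ 2 * W.a₃ ^ 2 + 12 * W.a₁ ^ 2 * W.a₆ - 16 * W.a₁ * W.a₃ * W.a₄ + 12 * W.a₂ * W.a₃ ^ 2 + 48 * W.a₂ * W.a₆ - 16 * W.a₄ ^ 2

/-- Component of the form `theta`. -/
def th3 : R := W.a₁ ^ 3 * W.a₄ - 2 * W.a₁ ^ 2 * W.a₂ * W.a₃ + 4 * W.a₁ * W.a₂ * W.a₄ + 3 * W.a₁ * W.a₃ ^ 2 - 36 * W.a₁ * W.a₆ - 8 * W.a₂ ^ 2 * W.a₃ + 24 * W.a₃ * W.a₄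

/-- Component of the form `theta`. -/
def th4 : R := W.a₁ ^ 3 * W.a₃ + 2 * W.a₁ ^ 2 * W.a₄ + 4 * W.a₁ * W.a₂ * W.a₃ + 8 * W.a₂ * W.a₄ - 18 * W.a₃ ^ 2 - 72 * W.a₆

/-- Component of the form `theta`. -/
def th6 : R := -W.a₁ ^ 4 - 8 * W.a₁ ^ 2 * W.a₂ + 24 * W.a₁ * W.a₃ - 16 * W.a₂ ^ 2 + 48 * W.a₄

/-- Component of the vector field dual to `theta`. -/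
def n1 : R := W.a₃

/-- Component of the vector field dual to `theta`. -/
def n2 : R := W.a₄

/-- Component of the vector field dual to `theta`. -/
def n4 : R := W.a₃ ^ 2 + 6 * W.a₆

/-- Component of the vector field dual to `theta`. -/
def n6 : R := W.a₁ ^ 2 * W.a₆ - W.a₁ * W.a₃ * W.a₄ + W.a₂ * W.a₃ ^ 2 + 4 * W.a₂ * W.a₆ - W.a₄ ^ 2

/-- Coefficient of the inverse matrix. -/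
def Nv1 : R :=
  W.a₁ ^ 5 * W.a₆ - W.a₁ ^ 4 * W.a₃ * W.a₄ + W.a₁ ^ 3 * W.a₂ * W.a₃ ^ 2 + 8 * W.a₁ ^ 3 * W.a₂ * W.a₆ - W.a₁ ^ 3 * W.a₄ ^ 2 - 4 * W.a₁ ^ 2 * W.a₂ * W.a₃ * W.a₄ - W.a₁ ^ 2 * W.a₃ ^ 3 - 12 * W.a₁ ^ 2 * W.a₃ * W.a₆ + 4 * W.a₁ * W.a₂ ^ 2 * W.a₃ ^ 2 + 16 * W.a₁ * W.a₂ ^ 2 * W.a₆ - 4 * W.a₁ * W.a₂ * W.a₄ ^ 2 + 5 * W.a₁ * W.a₃ ^ 2 * W.a₄ - 12 * W.a₁ * W.a₄ * W.a₆ - 6 * W.a₂ * W.a₃ ^ 3 - 24 * W.a₂ * W.a₃ * W.a₆ + 8 * W.a₃ * W.a₄ ^ 2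

/-- Coefficient of the inverse matrix. -/
def Nv2 : R :=
  2 * W.a₁ ^ 4 * W.a₆ - 2 * W.a₁ ^ 3 * W.a₃ * W.a₄ + 2 * W.a₁ ^ 2 * W.a₂ * W.a₃ ^ 2 + 16 * W.a₁ ^ 2 * W.a₂ * W.a₆ - 2 * W.a₁ ^ 2 * W.a₄ ^ 2 - 8 * W.a₁ * W.a₂ * W.a₃ * W.a₄ - 3 * W.a₁ * W.a₃ ^ 3 - 12 * W.a₁ * W.a₃ * W.a₆ + 8 * W.a₂ ^ 2 * W.a₃ ^ 2 + 32 * W.a₂ ^ 2 * W.a₆ - 8 * W.a₂ * W.a₄ ^ 2 - 6 * W.a₃ ^ 2 * W.a₄ - 24 * W.a₄ * W.a₆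

/-- Coefficient of the inverse matrix. -/
def Nv3 : R :=
  -6 * W.a₁ ^ 3 * W.a₆ + 7 * W.a₁ ^ 2 * W.a₃ * W.a₄ - 8 * W.a₁ * W.a₂ * W.a₃ ^ 2 - 24 * W.a₁ * W.a₂ * W.a₆ + 8 * W.a₁ * W.a₄ ^ 2 - 4 * W.a₂ * W.a₃ * W.a₄ + 9 * W.a₃ ^ 3 + 36 * W.a₃ * W.a₆

/-- Coefficient of the inverse matrix. -/
def Nv4 : R :=
  W.a₁ ^ 2 * W.a₃ ^ 2 - 12 * W.a₁ ^ 2 * W.a₆ + 16 * W.a₁ * W.a₃ * W.a₄ - 12 * W.a₂ * W.a₃ ^ 2 - 48 * W.a₂ * W.a₆ + 16 * W.a₄ ^ 2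

/-- Coefficient of the inverse matrix. -/
def Nv6 : R :=
  -W.a₁ ^ 3 * W.a₃ - 2 * W.a₁ ^ 2 * W.a₄ - 4 * W.a₁ * W.a₂ * W.a₃ - 8 * W.a₂ * W.a₄ + 18 * W.a₃ ^ 2 + 72 * W.a₆

/-- Coefficient of the inverse matrix. -/
def Ns1 : R :=
  -2 * W.a₁ ^ 4 * W.a₂ * W.a₆ + 2 * W.a₁ ^ 3 * W.a₂ * W.a₃ * W.a₄ + 9 * W.a₁ ^ 3 * W.a₃ * W.a₆ - 2 * W.a₁ ^ 2 * W.a₂ ^ 2 * W.a₃ ^ 2 - 16 * W.a₁ ^ 2 * W.a₂ ^ 2 * W.a₆ + 2 * W.a₁ ^ 2 * W.a₂ * W.a₄ ^ 2 - 9 * W.a₁ ^ 2 * W.a₃ ^ 2 * W.a₄ + 30 * W.a₁ ^ 2 * W.a₄ * W.a₆ + 8 * W.a₁ * W.a₂ ^ 2 * W.a₃ * W.a₄ + 11 * W.a₁ * W.a₂ * W.a₃ ^ 3 + 48 * W.a₁ * W.a₂ * W.a₃ * W.a₆ - 40 * W.a₁ * W.a₃ * W.a₄ ^ 2 - 8 * W.a₂ ^ 3 * W.a₃ ^ 2 - 32 * W.a₂ ^ 3 * W.a₆ + 8 * W.a₂ ^ 2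 * W.a₄ ^ 2 + 34 * W.a₂ * W.a₃ ^ 2 * W.a₄ + 144 * W.a₂ * W.a₄ * W.a₆ - 9 * W.a₃ ^ 4 - 90 * W.a₃ ^ 2 * W.a₆ - 32 * W.a₄ ^ 3 - 216 * W.a₆ ^ 2

/-- Coefficient of the inverse matrix. -/
def Ns2 : R :=
  W.a₁ ^ 5 * W.a₆ - W.a₁ ^ 4 * W.a₃ * W.a₄ + W.a₁ ^ 3 * W.a₂ * W.a₃ ^ 2 + 8 * W.a₁ ^ 3 * W.a₂ * W.a₆ - W.a₁ ^ 3 * W.a₄ ^ 2 - 4 * W.a₁ ^ 2 * W.a₂ * W.a₃ * W.a₄ - W.a₁ ^ 2 * W.a₃ ^ 3 - 12 * W.a₁ ^ 2 * W.a₃ * W.a₆ + 4 * W.a₁ * W.a₂ ^ 2 * W.a₃ ^ 2 + 16 * W.a₁ * W.a₂ ^ 2 * W.a₆ - 4 * W.a₁ * W.a₂ * W.a₄ ^ 2 + 5 * W.a₁ * W.a₃ ^ 2 * W.a₄ - 12 * W.a₁ * W.a₄ * W.a₆ - 6 * W.a₂ * W.a₃ ^ 3 - 24 * W.a₂ * W.a₃ * W.a₆ + 8 * W.a₃ * W.a₄ ^ 2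

/-- Coefficient of the inverse matrix. -/
def Ns3 : R :=
  -3 * W.a₁ ^ 4 * W.a₆ + 3 * W.a₁ ^ 3 * W.a₃ * W.a₄ - 3 * W.a₁ ^ 2 * W.a₂ * W.a₃ ^ 2 - 12 * W.a₁ ^ 2 * W.a₂ * W.a₆ + 4 * W.a₁ ^ 2 * W.a₄ ^ 2 - 4 * W.a₁ * W.a₂ * W.a₃ * W.a₄ + 3 * W.a₁ * W.a₃ ^ 3 + 36 * W.a₁ * W.a₃ * W.a₆ + 4 * W.a₂ ^ 2 * W.a₃ ^ 2 - 12 * W.a₃ ^ 2 * W.a₄

/-- Coefficient of the inverse matrix. -/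
def Ns4 : R :=
  -6 * W.a₁ ^ 3 * W.a₆ + 7 * W.a₁ ^ 2 * W.a₃ * W.a₄ - 8 * W.a₁ * W.a₂ * W.a₃ ^ 2 - 24 * W.a₁ * W.a₂ * W.a₆ + 8 * W.a₁ * W.a₄ ^ 2 - 4 * W.a₂ * W.a₃ * W.a₄ + 9 * W.a₃ ^ 3 + 36 * W.a₃ * W.a₆

/-- Coefficient of the inverse matrix. -/
def Ns6 : R :=
  -W.a₁ ^ 3 * W.a₄ + 2 * W.a₁ ^ 2 * W.a₂ * W.a₃ - 4 * W.a₁ * W.a₂ * W.a₄ - 3 * W.a₁ * W.a₃ ^ 2 + 36 * W.a₁ * W.a₆ + 8 * W.a₂ ^ 2 * W.a₃ - 24 * W.a₃ * W.a₄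

/-- Coefficient of the inverse matrix. -/
def Nr1 : R :=
  3 * W.a₁ ^ 4 * W.a₃ * W.a₆ - 3 * W.a₁ ^ 3 * W.a₃ ^ 2 * W.a₄ + 8 * W.a₁ ^ 3 * W.a₄ * W.a₆ + 3 * W.a₁ ^ 2 * W.a₂ * W.a₃ ^ 3 + 8 * W.a₁ ^ 2 * W.a₂ * W.a₃ * W.a₆ - 11 * W.a₁ ^ 2 * W.a₃ * W.a₄ ^ 2 + 12 * W.a₁ * W.a₂ * W.a₃ ^ 2 * W.a₄ + 32 * W.a₁ * W.a₂ * W.a₄ * W.a₆ - 3 * W.a₁ * W.a₃ ^ 4 - 30 * W.a₁ * W.a₃ ^ 2 * W.a₆ - 8 * W.a₁ * W.a₄ ^ 3 - 72 * W.a₁ * W.a₆ ^ 2 - 4 * W.a₂ ^ 2 * W.a₃ ^ 3 - 16 * W.a₂ ^ 2 * W.a₃ * W.a₆ + 4 * W.a₂ * W.a₃ * W.a₄ ^ 2 + 3 * W.a₃ ^ 3 * W.a₄ + 12 * W.a₃ * W.a₄ * W.a₆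

/-- Coefficient of the inverse matrix. -/
def Nr2 : R :=
  8 * W.a₁ ^ 3 * W.a₃ * W.a₆ - 8 * W.a₁ ^ 2 * W.a₃ ^ 2 * W.a₄ + 16 * W.a₁ ^ 2 * W.a₄ * W.a₆ + 8 * W.a₁ * W.a₂ * W.a₃ ^ 3 + 32 * W.a₁ * W.a₂ * W.a₃ * W.a₆ - 24 * W.a₁ * W.a₃ * W.a₄ ^ 2 + 16 * W.a₂ * W.a₃ ^ 2 * W.a₄ + 64 * W.a₂ * W.a₄ * W.a₆ - 9 * W.a₃ ^ 4 - 72 * W.a₃ ^ 2 * W.a₆ - 16 * W.a₄ ^ 3 - 144 * W.a₆ ^ 2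

/-- Coefficient of the inverse matrix. -/
def Nr3 : R :=
  -W.a₁ ^ 5 * W.a₆ + W.a₁ ^ 4 * W.a₃ * W.a₄ - W.a₁ ^ 3 * W.a₂ * W.a₃ ^ 2 - 8 * W.a₁ ^ 3 * W.a₂ * W.a₆ + W.a₁ ^ 3 * W.a₄ ^ 2 + 4 * W.a₁ ^ 2 * W.a₂ * W.a₃ * W.a₄ + W.a₁ ^ 2 * W.a₃ ^ 3 + 12 * W.a₁ ^ 2 * W.a₃ * W.a₆ - 4 * W.a₁ * W.a₂ ^ 2 * W.a₃ ^ 2 - 16 * W.a₁ * W.a₂ ^ 2 * W.a₆ + 4 * W.a₁ * W.a₂ * W.a₄ ^ 2 - 5 * W.a₁ * W.a₃ ^ 2 * W.a₄ + 12 * W.a₁ * W.a₄ * W.a₆ + 6 * W.a₂ * W.a₃ ^ 3 + 24 * W.a₂ * W.a₃ * W.a₆ - 8 * W.a₃ * W.a₄ ^ 2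

/-- Coefficient of the inverse matrix. -/
def Nr4 : R :=
  -2 * W.a₁ ^ 4 * W.a₆ + 2 * W.a₁ ^ 3 * W.a₃ * W.a₄ - 2 * W.a₁ ^ 2 * W.a₂ * W.a₃ ^ 2 - 16 * W.a₁ ^ 2 * W.a₂ * W.a₆ + 2 * W.a₁ ^ 2 * W.a₄ ^ 2 + 8 * W.a₁ * W.a₂ * W.a₃ * W.a₄ + 3 * W.a₁ * W.a₃ ^ 3 + 12 * W.a₁ * W.a₃ * W.a₆ - 8 * W.a₂ ^ 2 * W.a₃ ^ 2 - 32 * W.a₂ ^ 2 * W.a₆ + 8 * W.a₂ * W.a₄ ^ 2 + 6 * W.a₃ ^ 2 * W.a₄ + 24 * W.a₄ * W.a₆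

/-- Coefficient of the inverse matrix. -/
def Nr6 : R :=
  -W.a₁ ^ 2 * W.a₃ ^ 2 + 12 * W.a₁ ^ 2 * W.a₆ - 16 * W.a₁ * W.a₃ * W.a₄ + 12 * W.a₂ * W.a₃ ^ 2 + 48 * W.a₂ * W.a₆ - 16 * W.a₄ ^ 2

/-- Coefficient of the inverse matrix. -/
def Nt1 : R :=
  -4 * W.a₁ ^ 4 * W.a₄ * W.a₆ + 8 * W.a₁ ^ 3 * W.a₂ * W.a₃ * W.a₆ + 4 * W.a₁ ^ 3 * W.a₃ * W.a₄ ^ 2 - 12 * W.a₁ ^ 2 * W.a₂ * W.a₃ ^ 2 * W.a₄ - 16 * W.a₁ ^ 2 * W.a₂ * W.a₄ * W.a₆ - 3 * W.a₁ ^ 2 * W.a₃ ^ 2 * W.a₆ + 4 * W.a₁ ^ 2 * W.a₄ ^ 3 + 36 * W.a₁ ^ 2 * W.a₆ ^ 2 + 8 * W.a₁ * W.a₂ ^ 2 * W.a₃ ^ 3 + 32 * W.a₁ * W.a₂ ^ 2 * W.a₃ * W.a₆ - 8 * W.a₁ * W.a₂ * W.a₃ * W.a₄ ^ 2 + 6 * W.a₁ * W.a₃ ^ 3 * W.a₄ - 24 * W.a₁ * W.a₃ * W.a₄ * W.a₆ - 9 *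 W.a₂ * W.a₃ ^ 4 - 36 * W.a₂ * W.a₃ ^ 2 * W.a₆ + 12 * W.a₃ ^ 2 * W.a₄ ^ 2

/-- Coefficient of the inverse matrix. -/
def Nt2 : R :=
  -W.a₁ ^ 4 * W.a₃ * W.a₆ + W.a₁ ^ 3 * W.a₃ ^ 2 * W.a₄ - 8 * W.a₁ ^ 3 * W.a₄ * W.a₆ - W.a₁ ^ 2 * W.a₂ * W.a₃ ^ 3 + 8 * W.a₁ ^ 2 * W.a₂ * W.a₃ * W.a₆ + 9 * W.a₁ ^ 2 * W.a₃ * W.a₄ ^ 2 - 20 * W.a₁ * W.a₂ * W.a₃ ^ 2 * W.a₄ - 32 * W.a₁ * W.a₂ * W.a₄ * W.a₆ + 18 * W.a₁ * W.a₃ ^ 2 * W.a₆ + 8 * W.a₁ * W.a₄ ^ 3 + 72 * W.a₁ * W.a₆ ^ 2 + 12 * W.a₂ ^ 2 * W.a₃ ^ 3 + 48 * W.a₂ ^ 2 * W.a₃ * W.a₆ - 12 * W.a₂ * W.a₃ * W.a₄ ^ 2 - 9 * W.a₃ ^ 3 * W.a₄ - 36 * W.a₃ * W.a₄ * W.a₆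

/-- Coefficient of the inverse matrix. -/
def Nt3 : R :=
  -2 * W.a₁ ^ 4 * W.a₂ * W.a₆ + 2 * W.a₁ ^ 3 * W.a₂ * W.a₃ * W.a₄ + 3 * W.a₁ ^ 3 * W.a₃ * W.a₆ - 2 * W.a₁ ^ 2 * W.a₂ ^ 2 * W.a₃ ^ 2 - 16 * W.a₁ ^ 2 * W.a₂ ^ 2 * W.a₆ + 2 * W.a₁ ^ 2 * W.a₂ * W.a₄ ^ 2 - 2 * W.a₁ ^ 2 * W.a₃ ^ 2 * W.a₄ + 30 * W.a₁ ^ 2 * W.a₄ * W.a₆ + 8 * W.a₁ * W.a₂ ^ 2 * W.a₃ * W.a₄ + 3 * W.a₁ * W.a₂ * W.a₃ ^ 3 + 24 * W.a₁ * W.a₂ * W.a₃ * W.a₆ - 32 * W.a₁ * W.a₃ * W.a₄ ^ 2 - 8 * W.a₂ ^ 3 * W.a₃ ^ 2 - 32 * W.a₂ ^ 3 * W.a₆ + 8 * W.a₂ ^ 2 * W.a₄ ^ 2 + 30 * W.a₂ * W.a₃ ^ 2 * W.a₄ + 144 * W.a₂ * W.a₄ * W.a₆ - 54 * W.a₃ ^ 2 * W.a₆ - 32 * W.a₄ ^ 3 - 216 * W.a₆ ^ 2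

/-- Coefficient of the inverse matrix. -/
def Nt4 : R :=
  W.a₁ ^ 5 * W.a₆ - W.a₁ ^ 4 * W.a₃ * W.a₄ + W.a₁ ^ 3 * W.a₂ * W.a₃ ^ 2 + 8 * W.a₁ ^ 3 * W.a₂ * W.a₆ - W.a₁ ^ 3 * W.a₄ ^ 2 - 4 * W.a₁ ^ 2 * W.a₂ * W.a₃ * W.a₄ - 24 * W.a₁ ^ 2 * W.a₃ * W.a₆ + 4 * W.a₁ * W.a₂ ^ 2 * W.a₃ ^ 2 + 16 * W.a₁ * W.a₂ ^ 2 * W.a₆ - 4 * W.a₁ * W.a₂ * W.a₄ ^ 2 + 21 * W.a₁ * W.a₃ ^ 2 * W.a₄ - 12 * W.a₁ * W.a₄ * W.a₆ - 18 * W.a₂ * W.a₃ ^ 3 - 72 * W.a₂ * W.a₃ * W.a₆ + 24 * W.a₃ * W.a₄ ^ 2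

/-- Coefficient of the inverse matrix. -/
def Nt6 : R :=
  -W.a₁ ^ 3 * W.a₃ ^ 2 - 6 * W.a₁ ^ 3 * W.a₆ + 5 * W.a₁ ^ 2 * W.a₃ * W.a₄ - 12 * W.a₁ * W.a₂ * W.a₃ ^ 2 - 24 * W.a₁ * W.a₂ * W.a₆ + 8 * W.a₁ * W.a₄ ^ 2 - 12 * W.a₂ * W.a₃ * W.a₄ + 27 * W.a₃ ^ 3 + 108 * W.a₃ * W.a₆

theorem N_E_v (v s r t : R) : Nv1 W * E1 W v s + Nv2 W * E2 W v s r + Nv3 W * E3 W v r t + Nv4 W * E4 W v s r t + Nv6 W * E6 W v r t = W.Δ * v := by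
  simp only [Δ, b₂, b₄, b₆, b₈, E1, E2, E3, E4, E6, Nv1, Nv2, Nv3, Nv4, Nv6]
  ring

theorem N_E_s (v s r t : R) : Ns1 W * E1 W v s + Ns2 W * E2 W v s r + Ns3 W * E3 W v r t + Ns4 W * E4 W v s r t + Ns6 W * E6 W v r t = W.Δ * s := by
  simp only [Δ, b₂, b₄, b₆, b₈, E1, E2, E3, E4, E6, Ns1, Ns2, Ns3, Ns4, Ns6]
  ring

theorem N_E_r (v s r t : R) : Nr1 W * E1 W v s + Nr2 W * E2 W v s r + Nr3 W * E3 W v r t + Nr4 W * E4 W v s r t + Nr6 W * E6 W v r t = W.Δ * r := by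
  simp only [Δ, b₂, b₄, b₆, b₈, E1, E2, E3, E4, E6, Nr1, Nr2, Nr3, Nr4, Nr6]
  ring

theorem N_E_t (v s r t : R) : Nt1 W * E1 W v s + Nt2 W * E2 W v s r + Nt3 W * E3 W v r t + Nt4 W * E4 W v s r t + Nt6 W * E6 W v r t = W.Δ * t := by
  simp only [Δ, b₂, b₄, b₆, b₈, E1, E2, E3, E4, E6, Nt1, Nt2, Nt3, Nt4, Nt6]
  ring

theorem E1_N (d1 d2 d3 d4 d6 : R) : E1 W (Nv1 W * d1 + Nv2 W * d2 + Nv3 W * d3 + Nv4 W * d4 + Nv6 W * d6) (Ns1 W * d1 + Ns2 W * d2 + Ns3 W * d3 + Ns4 W * d4 + Ns6 W * d6)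
    + n1 W * (th1 W * d1 + th2 W * d2 + th3 W * d3 + th4 W * d4 + th6 W * d6) = W.Δ * d1 := by
  simp only [Δ, b₂, b₄, b₆, b₈, E1, Nv1, Nv2, Nv3, Nv4, Nv6, Ns1, Ns2, Ns3, Ns4, Ns6, n1, th1, th2, th3, th4, th6]
  ring

theorem E2_N (d1 d2 d3 d4 d6 : R) : E2 W (Nv1 W * d1 + Nv2 W * d2 + Nv3 W * d3 + Nv4 W * d4 + Nv6 W * d6) (Ns1 W * d1 + Ns2 W * d2 + Ns3 W * d3 + Ns4 W * d4 + Ns6 W * d6) (Nr1 W * d1 + Nr2 W * d2 + Nr3 W * d3 + Nr4 W * d4 + Nr6 W * d6)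
    + n2 W * (th1 W * d1 + th2 W * d2 + th3 W * d3 + th4 W * d4 + th6 W * d6) = W.Δ * d2 := by
  simp only [Δ, b₂, b₄, b₆, b₈, E2, Nv1, Nv2, Nv3, Nv4, Nv6, Ns1, Ns2, Ns3, Ns4, Ns6, Nr1, Nr2, Nr3, Nr4, Nr6, n2, th1, th2, th3, th4, th6]
  ring

theorem E3_N (d1 d2 d3 d4 d6 : R) : E3 W (Nv1 W * d1 + Nv2 W * d2 + Nv3 W * d3 + Nv4 W * d4 + Nv6 W * d6) (Nr1 W * d1 + Nr2 W * d2 + Nr3 W * d3 + Nr4 W * d4 + Nr6 W * d6) (Nt1 W * d1 + Nt2 W * d2 + Nt3 W * d3 + Nt4 W * d4 + Nt6 W * d6)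
     = W.Δ * d3 := by
  simp only [Δ, b₂, b₄, b₆, b₈, E3, Nv1, Nv2, Nv3, Nv4, Nv6, Nr1, Nr2, Nr3, Nr4, Nr6, Nt1, Nt2, Nt3, Nt4, Nt6]
  ring

theorem E4_N (d1 d2 d3 d4 d6 : R) : E4 W (Nv1 W * d1 + Nv2 W * d2 + Nv3 W * d3 + Nv4 W * d4 + Nv6 W * d6) (Ns1 W * d1 + Ns2 W * d2 + Ns3 W * d3 + Ns4 W * d4 + Ns6 W * d6) (Nr1 W * d1 + Nr2 W * d2 + Nr3 W * d3 + Nr4 W * d4 + Nr6 W * d6) (Nt1 W * d1 + Nt2 W * d2 + Nt3 W * d3 + Nt4 W * d4 + Nt6 W * d6)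
    + n4 W * (th1 W * d1 + th2 W * d2 + th3 W * d3 + th4 W * d4 + th6 W * d6) = W.Δ * d4 := by
  simp only [Δ, b₂, b₄, b₆, b₈, E4, Nv1, Nv2, Nv3, Nv4, Nv6, Ns1, Ns2, Ns3, Ns4, Ns6, Nr1, Nr2, Nr3, Nr4, Nr6, Nt1, Nt2, Nt3, Nt4, Nt6, n4, th1, th2, th3, th4, th6]
  ring

theorem E6_N (d1 d2 d3 d4 d6 : R) : E6 W (Nv1 W * d1 + Nv2 W * d2 + Nv3 W * d3 + Nv4 W * d4 + Nv6 W * d6) (Nr1 W * d1 + Nr2 W * d2 + Nr3 W * d3 + Nr4 W * d4 + Nr6 W * d6) (Nt1 W * d1 + Nt2 W * d2 + Nt3 W * d3 + Nt4 W * d4 + Nt6 W * d6)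
    + n6 W * (th1 W * d1 + th2 W * d2 + th3 W * d3 + th4 W * d4 + th6 W * d6) = W.Δ * d6 := by
  simp only [Δ, b₂, b₄, b₆, b₈, E6, Nv1, Nv2, Nv3, Nv4, Nv6, Nr1, Nr2, Nr3, Nr4, Nr6, Nt1, Nt2, Nt3, Nt4, Nt6, n6, th1, th2, th3, th4, th6]
  ring

end K820.Cert
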