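import Groth.Agent.VarietyA.EllDefs
import Mathlib.RingTheory.AdjoinRoot
import Mathlib.AlgebraicGeometry.EllipticCurve.Affine.Point

/-!
# The two charts of a Weierstrass curve over a ring
-/

set_option autoImplicit false
universe u

open Polynomial

namespace K820.EW

open Groth.Agent.VarietyA.Ell (WEq WEqInf)

variable {A : Type u} [CommRing A] (W : WeierstrassCurve A)

/-- the polynomial of the affine chart -/
noncomputable def polU : A[X][X] := WeierstrassCurve.Affine.polynomial W

/-- the polynomial of the chart at infinity (variable `z`, coefficients in `A[w]`) -/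
noncomputable def polC : A[X][X] :=
  X ^ 3 + C (C W.a₂ * X) * X ^ 2 + C (C W.a₄ * X ^ 2 - C W.a₁ * X) * X +
    C (C W.a₆ * X ^ 3 - C W.a₃ * X ^ 2 - X)

theorem polC_monic : (polC W).Monic := by
  unfold polC
  monicity!

theorem polU_monic : (polU W).Monic := WeierstrassCurve.Affine.monic_polynomial

theorem eval₂_polU {B : Type u} [CommRing B] (s : A →+* B) (x y : B) :
    (polU W).eval₂ (eval₂RingHom s x) y =
      y ^ 2 + s W.a₁ * x * y + s W.a₃ * y -
      (x ^ 3 + s W.a₂ * x ^ 2 + s W.a₄ * x + s W.a₆) := by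
  simp [polU, WeierstrassCurve.Affine.polynomial, eval₂_add, eval₂_sub, eval₂_mul, eval₂_pow]
  ring

theorem eval₂_polC {B : Type u} [CommRing B] (s : A →+* B) (z w : B) :
    (polC W).eval₂ (eval₂RingHom s w) z =
      z ^ 3 + s W.a₂ * z ^ 2 * w + s W.a₄ * z * w ^ 2 + s W.a₆ * w ^ 3 -
      (w + s W.a₁ * z * w + s W.a₃ * w ^ 2) := by
  simp [polC, eval₂_add, eval₂_sub, eval₂_mul, eval₂_pow]
  ring

/-- the ring of the affine chart -/
abbrev RU : Type u := AdjoinRoot (polU W)

/-- the ring of the chart at infinity -/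
abbrev RC : Type u := AdjoinRoot (polC W)

noncomputable def iU : A →+* RU W := (AdjoinRoot.of (polU W)).comp C
noncomputable def xU : RU W := AdjoinRoot.of (polU W) X
noncomputable def yU : RU W := AdjoinRoot.root (polU W)
noncomputable def iC : A →+* RC W := (AdjoinRoot.of (polC W)).comp C
noncomputable def wC : RC W := AdjoinRoot.of (polC W) X
noncomputable def zC : RC W := AdjoinRoot.root (polC W)

theorem of_polU : AdjoinRoot.of (polU W) = eval₂RingHom (iU W) (xU W) := by
  refine Polynomial.ringHom_ext (fun c => ?_) ?_ <;> simp [iU, xU]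

theorem of_polC : AdjoinRoot.of (polC W) = eval₂RingHom (iC W) (wC W) := by
  refine Polynomial.ringHom_ext (fun c => ?_) ?_ <;> simp [iC, wC]

theorem wEq_U : WEq W (iU W) (xU W) (yU W) := by
  have h1 : (polU W).eval₂ (AdjoinRoot.of (polU W)) (AdjoinRoot.root _) = 0 := AdjoinRoot.eval₂_root _
  rw [of_polU] at h1
  have h3 := eval₂_polU W (iU W) (xU W) (AdjoinRoot.root (polU W))
  rw [h1] at h3
  exact sub_eq_zero.mp h3.symm

theorem wEqInf_C : WEqInf W (iC W) (zC W) (wC W) := by
  have h1 : (polC W).eval₂ (AdjoinRoot.of (polC W)) (AdjoinRoot.root _) = 0 := AdjoinRoot.eval₂_root _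
  rw [of_polC] at h1
  have h3 := eval₂_polC W (iC W) (AdjoinRoot.root (polC W)) (wC W)
  rw [h1] at h3
  exact (sub_eq_zero.mp h3.symm).symm

variable {W}
variable {B : Type u} [CommRing B]

/-- homomorphisms out of the affine chart -/
noncomputable def liftU (s : A →+* B) (x y : B) (h : WEq W s x y) : RU W →+* B :=
  AdjoinRoot.lift (eval₂RingHom s x) y (by rw [eval₂_polU]; exact sub_eq_zero.mpr h)

noncomputable def liftC (s : A →+* B) (z w : B) (h : WEqInf W s z w) : RC W →+* B :=
  AdjoinRoot.lift (eval₂RingHom s w) z (by rw [eval₂_polC]; exact sub_eq_zero.mpr h.symm)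

section

variable (s : A →+* B) (x y : B) (h : WEq W s x y)

theorem liftU_x : liftU s x y h (xU W) = x := by
  refine (AdjoinRoot.lift_of _).trans ?_; simp

theorem liftU_y : liftU s x y h (yU W) = y := AdjoinRoot.lift_root _

theorem liftU_iU (a : A) : liftU s x y h (iU W a) = s a := by
  refine (AdjoinRoot.lift_of _).trans ?_; simp

theorem liftU_comp : (liftU s x y h).comp (iU W) = s := RingHom.ext (liftU_iU s x y h)

theorem liftU_of (p : A[X]) : liftU s x y h (AdjoinRoot.of _ p) = p.eval₂ s x := AdjoinRoot.lift_of _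

end

section

variable (s : A →+* B) (z w : B) (h : WEqInf W s z w)

theorem liftC_w : liftC s z w h (wC W) = w := by
  refine (AdjoinRoot.lift_of _).trans ?_; simp

theorem liftC_z : liftC s z w h (zC W) = z := AdjoinRoot.lift_root _

theorem liftC_iC (a : A) : liftC s z w h (iC W a) = s a := by
  refine (AdjoinRoot.lift_of _).trans ?_; simp

theorem liftC_comp : (liftC s z w h).comp (iC W) = s := RingHom.ext (liftC_iC s z w h)

end

theorem hom_ext_U {f g : RU W →+* B} (h : f.comp (iU W) = g.comp (iU W)) (hx : f (xU W) = g (xU W))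
    (hy : f (yU W) = g (yU W)) : f = g := by
  refine AdjoinRoot.ringHom_ext ?_ hy
  refine Polynomial.ringHom_ext (fun c => ?_) hx
  exact congrArg (fun t : A →+* B => t c) h

theorem hom_ext_C {f g : RC W →+* B} (h : f.comp (iC W) = g.comp (iC W)) (hz : f (zC W) = g (zC W))
    (hw : f (wC W) = g (wC W)) : f = g := by
  refine AdjoinRoot.ringHom_ext ?_ hz
  refine Polynomial.ringHom_ext (fun c => ?_) hw
  exact congrArg (fun t : A →+* B => t c) h

theorem wEq_map {s : A →+* B} {x y : B} (h : WEq W s x y) {B' : Type u} [CommRing B'] (f : B →+* B') :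
    WEq W (f.comp s) (f x) (f y) := by
  have := congrArg f h
  unfold WEq
  simpa only [map_add, map_mul, map_pow, RingHom.comp_apply] using this

theorem wEqInf_map {s : A →+* B} {z w : B} (h : WEqInf W s z w) {B' : Type u} [CommRing B'] (f : B →+* B') :
    WEqInf W (f.comp s) (f z) (f w) := by
  have := congrArg f h
  unfold WEqInf
  simpa only [map_add, map_mul, map_pow, RingHom.comp_apply] using this

theorem wEqInf_of_wEq {s : A →+* B} {x y z w : B} (h : WEq W s x y) (hw : w * y = 1) (hz : z * y = x) :
    WEqInf W s z w := by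
  unfold WEqInf
  unfold WEq at h
  subst hz
  have hw3 : w ^ 3 * y ^ 3 = 1 := by rw [← mul_pow, hw, one_pow]
  have hw2 : w ^ 2 * y ^ 2 = 1 := by rw [← mul_pow, hw, one_pow]
  have e1 : w ^ 3 * y ^ 2 = w := by linear_combination w * hw2
  have e2 : w ^ 3 * y = w ^ 2 := by linear_combination w ^ 2 * hw
  linear_combination w ^ 3 * h - e1 - s W.a₁ * z * e1 - s W.a₃ * e2 + z ^ 3 * hw3 + s W.a₂ * z ^ 2 * e1 +
    s W.a₄ * z * e2

theorem wEq_of_wEqInf {s : A →+* B} {x y z w : B} (h : WEqInf W s z w) (hw : w * y = 1) (hz : z * y = x) :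
    WEq W s x y := by
  unfold WEq
  unfold WEqInf at h
  subst hz
  have hw3 : y ^ 3 * w ^ 3 = 1 := by rw [← mul_pow, mul_comm, hw, one_pow]
  have hw2 : y ^ 2 * w ^ 2 = 1 := by rw [← mul_pow, mul_comm, hw, one_pow]
  have e1 : y ^ 3 * w ^ 2 = y := by linear_combination y * hw2
  have e2 : y ^ 3 * w = y ^ 2 := by linear_combination y ^ 2 * hw
  linear_combination y ^ 3 * h - e2 - s W.a₁ * z * e2 - s W.a₃ * e1 + s W.a₂ * z ^ 2 * e2 +
    s W.a₄ * z * e1 + s W.a₆ * hw3

variable (W)

/-- the ring of the intersection of the two charts -/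
abbrev RL : Type u := Localization.Away (yU W)

noncomputable def iL : A →+* RL W := (algebraMap (RU W) (RL W)).comp (iU W)

/-- the element `1 / y` of the intersection -/
noncomputable def wL : RL W := IsLocalization.Away.invSelf (yU W)

noncomputable def yL : RL W := algebraMap (RU W) (RL W) (yU W)
noncomputable def xL : RL W := algebraMap (RU W) (RL W) (xU W)
noncomputable def zL : RL W := wL W * xL W

theorem wL_mul : wL W * yL W = 1 := by
  rw [mul_comm]; exact IsLocalization.Away.mul_invSelf (yU W)

theorem zL_mul : zL W * yL W = xL W := by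
  have := wL_mul W
  rw [zL]; linear_combination xL W * this

theorem wEq_L : WEq W (iL W) (xL W) (yL W) := wEq_map (wEq_U W) _

theorem wEqInf_L : WEqInf W (iL W) (zL W) (wL W) := wEqInf_of_wEq (wEq_L W) (wL_mul W) (zL_mul W)

/-- the restriction from the chart at infinity to the intersection -/
noncomputable def resC : RC W →+* RL W := liftC (iL W) (zL W) (wL W) (wEqInf_L W)

theorem hom_ext_L {f g : RL W →+* B} (h : f.comp (iL W) = g.comp (iL W)) (hx : f (xL W) = g (xL W))
    (hy : f (yL W) = g (yL W)) : f = g :=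
  IsLocalization.ringHom_ext (Submonoid.powers (yU W)) (hom_ext_U h hx hy)

/-- homomorphisms out of the intersection -/
noncomputable def liftL (s : A →+* B) (x y w : B) (h : WEq W s x y) (hw : w * y = 1) : RL W →+* B :=
  IsLocalization.Away.lift (yU W) (g := liftU s x y h) (by
    rw [liftU_y]; exact IsUnit.of_mul_eq_one w (by rw [mul_comm]; exact hw))

section
variable {W}
variable (s : A →+* B) (x y w : B) (h : WEq W s x y) (hw : w * y = 1)

theorem liftL_alg (r : RU W) : liftL W s x y w h hw (algebraMap _ _ r) = liftU s x y h r :=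
  IsLocalization.Away.lift_eq _ _ _

theorem liftL_x : liftL W s x y w h hw (xL W) = x := by rw [xL, liftL_alg, liftU_x]
theorem liftL_y : liftL W s x y w h hw (yL W) = y := by rw [yL, liftL_alg, liftU_y]
theorem liftL_i (a : A) : liftL W s x y w h hw (iL W a) = s a := by
  rw [iL, RingHom.comp_apply, liftL_alg, liftU_iU]
theorem liftL_w : liftL W s x y w h hw (wL W) = w := by
  have h1 := congrArg (liftL W s x y w h hw) (wL_mul W)
  rw [map_mul, liftL_y, map_one] at h1
  linear_combination w * h1 - liftL W s x y w h hw (wL W) * hw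
theorem liftL_z {z : B} (hz : z * y = x) : liftL W s x y w h hw (zL W) = z := by
  rw [zL, map_mul, liftL_w, liftL_x, ← hz]
  linear_combination z * hw
end

/-- the intersection is a localization of the chart at infinity -/
theorem isLocalization_resC :
    @IsLocalization.Away (RC W) _ (wC W) (RL W) _ (resC W).toAlgebra := by
  let R' := Localization.Away (wC W)
  let al : RC W →+* R' := algebraMap _ _
  let wi : R' := IsLocalization.Away.invSelf (wC W)
  have hwi : wi * al (wC W) = 1 := by rw [mul_comm]; exact IsLocalization.Away.mul_invSelf (wC W)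
  have hEq : WEq W (al.comp (iC W)) (al (zC W) * wi) wi :=
    wEq_of_wEqInf (wEqInf_map (wEqInf_C W) al) (by rw [mul_comm]; exact hwi) rfl
  let g : RL W →+* R' := liftL W (al.comp (iC W)) (al (zC W) * wi) wi (al (wC W)) hEq (by rw [mul_comm]; exact hwi)
  let f : R' →+* RL W := IsLocalization.Away.lift (wC W) (g := resC W) (by
    rw [resC, liftC_w]; exact IsUnit.of_mul_eq_one _ (wL_mul W))
  have hf : ∀ r, f (al r) = resC W r := fun r => IsLocalization.Away.lift_eq _ _ _
  have hfw : f (al (wC W)) = wL W := by rw [hf, resC, liftC_w]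
  have hfz : f (al (zC W)) = zL W := by rw [hf, resC, liftC_z]
  have hfwi : f wi = yL W := by
    have h1 := congrArg f hwi
    rw [map_mul, hfw, map_one] at h1
    have := wL_mul W
    linear_combination yL W * h1 - f wi * this
  have hfg : f.comp g = RingHom.id _ := by
    apply hom_ext_L
    · ext a
      change f (g (iL W a)) = iL W a
      rw [liftL_i]
      exact (hf _).trans (liftC_iC _ _ _ _ a)
    · change f (g (xL W)) = xL W
      rw [liftL_x, map_mul, hfz, hfwi, zL_mul]
    · change f (g (yL W)) = yL W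
      rw [liftL_y, hfwi]
  have hgf : g.comp f = RingHom.id _ := by
    apply IsLocalization.ringHom_ext (Submonoid.powers (wC W))
    apply hom_ext_C
    · ext a
      change g (f (al (iC W a))) = al (iC W a)
      rw [hf, resC, liftC_iC, liftL_i]
      rfl
    · change g (f (al (zC W))) = al (zC W)
      rw [hfz]
      refine liftL_z _ _ _ _ _ _ rfl
    · change g (f (al (wC W))) = al (wC W)
      rw [hfw]
      exact liftL_w _ _ _ _ _ _
  let _ : Algebra (RC W) (RL W) := (resC W).toAlgebra
  let e : R' ≃ₐ[RC W] RL W :=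
    { RingEquiv.ofRingHom f g hfg hgf with
      commutes' := fun r => hf r }
  exact IsLocalization.isLocalization_of_algEquiv _ e

end K820.EW
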