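import Groth.Agent.EllLift.K820.CoOps

/-!
# Comparison of Weierstrass coordinates; change of variables
-/

set_option autoImplicit false
universe u

open CategoryTheory CategoryTheory.Limits AlgebraicGeometry Opposite

namespace K820.EW

open Groth.Agent.VarietyA.Ell (WEq WEqInf sc)
open Groth.Agent LD LD.LeadData

section Lead

variable {A : Type u} [CommRing A] {X : Scheme.{u}} {q : X ⟶ Spec (CommRingCat.of A)}
  {e : Spec (CommRingCat.of A) ⟶ X} {U : X.Opens}

/-- Pole orders of Weierstrass coordinates with respect to any local equation. -/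
theorem Co.exists_lead [IsSeparated q] {W : WeierstrassCurve A} (c : Co W q e U) (S : SecData q e U)
    (hSV : c.V = S.V) : ∃ u : Aˣ, S.lead.Lead 2 c.c.x ((u ^ 2 : Aˣ) : A) ∧ S.lead.Lead 3 c.c.y ((u ^ 3 : Aˣ) : A) := by
  obtain ⟨V, hV, heV, hU, ⟨x, y, z, w, eqU, eqV, rel_w, rel_z⟩, hz, hz0, hw0, reg⟩ := c
  simp only at hSV
  subst hSV
  simp only at hz hz0 hw0 reg
  obtain ⟨κ, hκ⟩ := S.ht z hz0
  obtain ⟨κ', hκ'⟩ := hz S.t S.ht0
  have hκκ : κ * κ' = 1 := by
    have h1 : z * (κ * κ') = z * 1 := by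
      rw [← mul_assoc, mul_comm z κ, mul_assoc, ← hκ', mul_comm κ, ← hκ, mul_one]
    exact (mul_cancel_left_mem_nonZeroDivisors reg).mp h1
  let s := sc q S.V
  let v : Γ(X, S.V) := 1 + s W.a₁ * z + s W.a₃ * w - s W.a₂ * z ^ 2 - s W.a₄ * z * w - s W.a₆ * w ^ 2
  have hv : w * v = z ^ 3 := by
    have h1 : w + s W.a₁ * z * w + s W.a₃ * w ^ 2 =
      z ^ 3 + s W.a₂ * z ^ 2 * w + s W.a₄ * z * w ^ 2 + s W.a₆ * w ^ 3 := eqV
    simp only [v]
    linear_combination h1
  have hv1 : ev e S.V S.heV v = 1 := by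
    simp only [v, map_sub, map_add, map_mul, map_pow, map_one]
    rw [hz0, hw0]
    ring
  have hu : IsUnit (ev e S.V S.heV κ') := by
    refine IsUnit.of_mul_eq_one (ev e S.V S.heV κ) ?_
    rw [← map_mul, mul_comm, hκκ, map_one]
  obtain ⟨u, hu⟩ := hu
  let i := X.presheaf.map (homOfLE (inf_le_right : U ⊓ S.V ≤ S.V)).op
  let j := X.presheaf.map (homOfLE (inf_le_left : U ⊓ S.V ≤ U)).op
  have rw' : i w * j y = 1 := rel_w
  have rz' : i z * j y = j x := rel_z
  have hv' : i w * i v = i z ^ 3 := by rw [← map_mul, hv, map_pow]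
  have ht : i S.t = i z * i κ' := by rw [← map_mul, ← hκ']
  have e3 : i z ^ 3 * j y = i v := by linear_combination -j y * hv' + i v * rw'
  have e2 : i z ^ 2 * j x = i v := by rw [← rz']; linear_combination e3
  refine ⟨u, ⟨κ' ^ 2 * v, ?_, ?_⟩, ⟨κ' ^ 3 * v, ?_, ?_⟩⟩
  · change i S.t ^ 2 * j x = i (κ' ^ 2 * v)
    rw [ht, map_mul, map_pow]
    linear_combination i κ' ^ 2 * e2
  · change ev e S.V S.heV (κ' ^ 2 * v) = _
    rw [map_mul, map_pow, hv1, mul_one, ← hu, Units.val_pow_eq_pow_val]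
  · change i S.t ^ 3 * j y = i (κ' ^ 3 * v)
    rw [ht, map_mul, map_pow]
    linear_combination i κ' ^ 3 * e3
  · change ev e S.V S.heV (κ' ^ 3 * v) = _
    rw [map_mul, map_pow, hv1, mul_one, ← hu, Units.val_pow_eq_pow_val]

/-- Two systems of Weierstrass coordinates differ by a change of variables. -/
theorem Co.exists_variableChange [IsProper q] [Smooth q] (hq : EllFib q) (he : e ≫ q = 𝟙 _)
    {W W' : WeierstrassCurve A} (c : Co W q e U) (c' : Co W' q e U) :
    ∃ C : WeierstrassCurve.VariableChange A, C • W = W' ∧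
      c.c.x = sc q U C.u ^ 2 * c'.c.x + sc q U C.r ∧
      c.c.y = sc q U C.u ^ 3 * c'.c.y + sc q U C.u ^ 2 * sc q U C.s * c'.c.x + sc q U C.t := by
  have hV := isAffineOpen_inf (q := q) c.hV c'.hV
  have heV : ⊤ ≤ e ⁻¹ᵁ (c.V ⊓ c'.V) := fun s hs => ⟨c.heV hs, c'.heV hs⟩
  let S := (c.toSecData he).restrict hV inf_le_left heV
  let d := c.restrict he hV inf_le_left heV
  let d' := c'.restrict he hV inf_le_right heV
  obtain ⟨u, h2, h3⟩ := d.exists_lead S rfl
  obtain ⟨u', h2', h3'⟩ := d'.exists_lead S rfl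
  exact (hOne_hZero hq S).2.exists_variableChange h2 h3 h2' h3' W W' c.c.eqU c'.c.eqU

/-- Change of variables in Weierstrass coordinates. -/
theorem Co.exists_change [IsSeparated q] (he : e ≫ q = 𝟙 _) {W : WeierstrassCurve A} (c : Co W q e U)
    (C : WeierstrassCurve.VariableChange A) : ∃ c' : Co (C • W) q e U,
      c.c.x = sc q U C.u ^ 2 * c'.c.x + sc q U C.r ∧
      c.c.y = sc q U C.u ^ 3 * c'.c.y + sc q U C.u ^ 2 * sc q U C.s * c'.c.x + sc q U C.t := by
  obtain ⟨u, h2, h3⟩ := c.exists_lead (c.toSecData he) rfl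
  set S := c.toSecData he with hS
  let v : Aˣ := C.u⁻¹
  have hv : sc q U (v : A) * sc q U C.u = 1 := by rw [← map_mul]; simp [v]
  let x' : Γ(X, U) := sc q U (v : A) ^ 2 * (c.c.x - sc q U C.r)
  have hx' : S.lead.Lead 2 x' ((v ^ 2 * u ^ 2 : Aˣ) : A) := by
    have := (h2.sub ((lead_const (D := S.lead) C.r).up (by norm_num : 0 < 2))).smul ((v : A) ^ 2)
    have e1 : S.lead.iP ((v : A) ^ 2) * (c.c.x - S.lead.iP C.r) = x' := by
      change sc q U ((v : A) ^ 2) * (c.c.x - sc q U C.r) = _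
      rw [map_pow]
    rw [e1] at this
    convert this using 1
    simp
  let y' : Γ(X, U) := sc q U (v : A) ^ 3 * (c.c.y - sc q U C.s * (c.c.x - sc q U C.r) - sc q U C.t)
  have hy' : S.lead.Lead 3 y' ((v ^ 3 * u ^ 3 : Aˣ) : A) := by
    have := (((h3.sub (((h2.sub ((lead_const (D := S.lead) C.r).up (by norm_num : 0 < 2))).smul C.s).up
      (by norm_num : 2 < 3))).sub ((lead_const (D := S.lead) C.t).up (by norm_num : 0 < 3)))).smul ((v : A) ^ 3)
    have e1 : S.lead.iP ((v : A) ^ 3) * (c.c.y - S.lead.iP C.s * (c.c.x - S.lead.iP C.r) - S.lead.iP C.t) = y' := by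
      change sc q U ((v : A) ^ 3) * (c.c.y - sc q U C.s * (c.c.x - sc q U C.r) - sc q U C.t) = _
      rw [map_pow]
    rw [e1] at this
    convert this using 1
    simp
  have ex : c.c.x = sc q U C.u ^ 2 * x' + sc q U C.r := by
    simp only [x']
    linear_combination (-(sc q U (v : A) * sc q U C.u + 1) * (c.c.x - sc q U C.r)) * hv
  have ey : c.c.y = sc q U C.u ^ 3 * y' + sc q U C.u ^ 2 * sc q U C.s * x' + sc q U C.t := by
    have e1 : sc q U C.u ^ 3 * y' = c.c.y - sc q U C.s * (c.c.x - sc q U C.r) - sc q U C.t := by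
      simp only [y']
      linear_combination ((sc q U (v : A) * sc q U C.u) ^ 2 + sc q U (v : A) * sc q U C.u + 1) *
        (c.c.y - sc q U C.s * (c.c.x - sc q U C.r) - sc q U C.t) * hv
    linear_combination -e1 + sc q U C.s * ex
  have hW : WEq (C • W) (sc q U) x' y' := by
    obtain ⟨g1, g2, g3, g4, g6⟩ := (Rigid.smul_eq_iff C W (C • W)).mp rfl
    have k1 := congrArg (sc q U) g1
    have k2 := congrArg (sc q U) g2
    have k3 := congrArg (sc q U) g3
    have k4 := congrArg (sc q U) g4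
    have k6 := congrArg (sc q U) g6
    simp only [map_sub, map_add, map_mul, map_pow, map_ofNat] at k1 k2 k3 k4 k6
    have h1 := c.c.eqU
    unfold WEq at h1 ⊢
    rw [ex, ey] at h1
    have hU6 : IsUnit (sc q U (C.u : A) ^ 6) := (C.u.isUnit.map (sc q U)).pow 6
    apply hU6.mul_left_cancel
    set u' := sc q U (C.u : A)
    linear_combination h1 - u' ^ 5 * x' * y' * k1 - u' ^ 3 * y' * k3 + u' ^ 4 * x' ^ 2 * k2 +
      u' ^ 2 * x' * k4 + k6
  obtain ⟨c', h1, h4⟩ := S.exists_co_of hx' hy' (C • W) hW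
  refine ⟨c', ?_, ?_⟩
  · rw [h1]; exact ex
  · rw [h1, h4]; exact ey

end Lead

end K820.EW
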