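import Groth.Agent.EllLift.K820.SecLocal

/-!
# Operations on Weierstrass coordinates
-/

set_option autoImplicit false
universe u

open CategoryTheory CategoryTheory.Limits AlgebraicGeometry Opposite

namespace K820.EW

open Groth.Agent.VarietyA.Ell (WEq WEqInf sc)
open Groth.Agent

section Restrict

variable {A : Type u} [CommRing A] {X : Scheme.{u}} {q : X ⟶ Spec (CommRingCat.of A)}

theorem res_res {U V W : X.Opens} (h : V ≤ U) (h' : W ≤ V) (a : Γ(X, U)) :
    X.presheaf.map (homOfLE h').op (X.presheaf.map (homOfLE h).op a) =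
      X.presheaf.map (homOfLE (h'.trans h)).op a := by
  have h2 : X.presheaf.map (homOfLE h).op ≫ X.presheaf.map (homOfLE h').op =
      X.presheaf.map (homOfLE (h'.trans h)).op := by
    rw [← Functor.map_comp]
    rfl
  exact congrArg (fun g : Γ(X, U) ⟶ _ => g a) h2

/-- Restriction of coordinates to a smaller neighbourhood. -/
noncomputable def WCo.restrict {W : WeierstrassCurve A} {U V V' : X.Opens} (c : WCo W q U V) (h : V' ≤ V) :
    WCo W q U V' where
  x := c.x
  y := c.y
  z := X.presheaf.map (homOfLE h).op c.z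
  w := X.presheaf.map (homOfLE h).op c.w
  eqU := c.eqU
  eqV := by
    have := wEqInf_map c.eqV (X.presheaf.map (homOfLE h).op).hom
    rwa [sc_res] at this
  rel_w := by
    have h1 := congrArg (X.presheaf.map (homOfLE (inf_le_inf le_rfl h : U ⊓ V' ≤ U ⊓ V)).op) c.rel_w
    rw [map_mul, map_one, res_res, res_res] at h1
    rw [res_res]
    exact h1
  rel_z := by
    have h1 := congrArg (X.presheaf.map (homOfLE (inf_le_inf le_rfl h : U ⊓ V' ≤ U ⊓ V)).op) c.rel_z
    rw [map_mul, res_res, res_res, res_res] at h1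
    rw [res_res]
    exact h1

theorem WCo.restrict_hom {W : WeierstrassCurve A} {U V V' : X.Opens} (c : WCo W q U V) (h : V' ≤ V)
    (hUV : U ⊔ V = ⊤) (hUV' : U ⊔ V' = ⊤) : (c.restrict h).hom hUV' = c.hom hUV := by
  apply hom_ext_sup hUV'
  · rw [ι_homU, ι_homU]
    rfl
  · have h1 : V'.ι ≫ c.hom hUV = X.homOfLE h ≫ V.ι ≫ c.hom hUV := by
      rw [← Category.assoc, Scheme.homOfLE_ι]
    rw [ι_homV, h1, ι_homV, homV, homV, ← Category.assoc, ← Category.assoc]
    congr 1
    rw [Category.assoc, ← Scheme.Opens.toSpecΓ_SpecMap_presheaf_map_assoc, ← Spec.map_comp]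
    congr 2
    ext1
    apply hom_ext_C
    · ext a
      change liftC _ _ _ (c.restrict h).eqV (iC W a) = X.presheaf.map (homOfLE h).op (liftC _ _ _ c.eqV (iC W a))
      rw [liftC_iC, liftC_iC, sc_res_apply]
    · change liftC _ _ _ (c.restrict h).eqV (zC W) = X.presheaf.map (homOfLE h).op (liftC _ _ _ c.eqV (zC W))
      rw [liftC_z, liftC_z]
      rfl
    · change liftC _ _ _ (c.restrict h).eqV (wC W) = X.presheaf.map (homOfLE h).op (liftC _ _ _ c.eqV (wC W))
      rw [liftC_w, liftC_w]
      rfl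

theorem WCo.ext' {W : WeierstrassCurve A} {U V : X.Opens} {c c' : WCo W q U V} (hx : c.x = c'.x) (hy : c.y = c'.y)
    (hz : c.z = c'.z) (hw : c.w = c'.w) : c = c' := by
  cases c
  cases c'
  simp only at hx hy hz hw
  subst hx hy hz hw
  rfl

theorem flat_res {V V' : X.Opens} (hV : IsAffineOpen V) (hV' : IsAffineOpen V') (h : V' ≤ V) :
    (X.presheaf.map (homOfLE h).op).hom.Flat := by
  have h1 := HasRingHomProperty.appLE @Flat (𝟙 X) inferInstance ⟨V, hV⟩ ⟨V', hV'⟩ h
  have h2 : (𝟙 X : X ⟶ X).appLE V V' h = X.presheaf.map (homOfLE h).op := by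
    simp only [Scheme.Hom.appLE, Scheme.Hom.id_app]
    exact Category.id_comp _
  rw [← h2]
  exact h1

theorem isAffineOpen_inf [IsSeparated q] {V V' : X.Opens} (hV : IsAffineOpen V) (hV' : IsAffineOpen V') :
    IsAffineOpen (V ⊓ V') := by
  have : X.IsSeparated := ⟨by
    rw [← terminal.comp_from q]
    infer_instance⟩
  exact hV.inf hV'

variable {e : Spec (CommRingCat.of A) ⟶ X} {U : X.Opens}

/-- Restriction of a local equation to a smaller neighbourhood. -/
noncomputable def SecData.restrict (S : SecData q e U) {V' : X.Opens} (hV' : IsAffineOpen V') (h : V' ≤ S.V)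
    (he' : ⊤ ≤ e ⁻¹ᵁ V') [IsSeparated q] : SecData q e U where
  he := S.he
  V := V'
  hV := hV'
  heV := he'
  t := X.presheaf.map (homOfLE h).op S.t
  ht0 := by rw [ev_res e h _ S.heV, S.ht0]
  ht b hb := by
    have hcl : IsClosedImmersion e := by
      have : IsClosedImmersion (e ≫ q) := by rw [S.he]; infer_instance
      exact IsClosedImmersion.of_comp e q
    rw [← mem_ker_ideal_iff hV' he'] at hb
    have h1 := e.ker.map_ideal (U := ⟨V', hV'⟩) (V := ⟨S.V, S.hV⟩) h
    rw [← h1] at hb
    have h2 : e.ker.ideal ⟨S.V, S.hV⟩ ≤ Ideal.span {S.t} := by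
      intro a ha
      rw [mem_ker_ideal_iff S.hV S.heV] at ha
      exact Ideal.mem_span_singleton.mpr (S.ht a ha)
    have h3 := Ideal.map_mono (f := (X.presheaf.map (homOfLE h).op).hom) h2 hb
    rw [Ideal.map_span, Set.image_singleton, Ideal.mem_span_singleton] at h3
    exact h3
  reg := mem_nonZeroDivisors_of_flat _ (flat_res S.hV hV' h) S.reg
  hU := S.hU

/-- Restriction of coordinates to a smaller affine neighbourhood. -/
noncomputable def Co.restrict {W : WeierstrassCurve A} (c : Co W q e U) (he : e ≫ q = 𝟙 _) {V' : X.Opens}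
    (hV' : IsAffineOpen V') (h : V' ≤ c.V) (he' : ⊤ ≤ e ⁻¹ᵁ V') [IsSeparated q] : Co W q e U where
  V := V'
  hV := hV'
  heV := he'
  hU := c.hU
  c := c.c.restrict h
  hz := ((c.toSecData he).restrict hV' h he').ht
  hz0 := ((c.toSecData he).restrict hV' h he').ht0
  hw0 := by
    change ev e V' he' (X.presheaf.map (homOfLE h).op c.c.w) = 0
    rw [ev_res e h _ c.heV, c.hw0]
  reg := ((c.toSecData he).restrict hV' h he').reg

theorem Co.restrict_hom {W : WeierstrassCurve A} (c : Co W q e U) (he : e ≫ q = 𝟙 _) {V' : X.Opens}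
    (hV' : IsAffineOpen V') (h : V' ≤ c.V) (he' : ⊤ ≤ e ⁻¹ᵁ V') [IsSeparated q] :
    (c.restrict he hV' h he').hom = c.hom :=
  WCo.restrict_hom c.c h _ _

/-- Coordinates with the same functions `x` and `y` define the same morphism. -/
theorem Co.hom_eq_of_eq {W : WeierstrassCurve A} (c c' : Co W q e U) (he : e ≫ q = 𝟙 _) [IsSeparated q]
    (hx : c.c.x = c'.c.x) (hy : c.c.y = c'.c.y) : c.hom = c'.hom := by
  have hV := isAffineOpen_inf (q := q) c.hV c'.hV
  have heV : ⊤ ≤ e ⁻¹ᵁ (c.V ⊓ c'.V) := fun s hs => ⟨c.heV hs, c'.heV hs⟩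
  rw [← c.restrict_hom he hV inf_le_left heV, ← c'.restrict_hom he hV inf_le_right heV]
  have S := (c.toSecData he).restrict hV inf_le_left heV
  have h1 : (c.restrict he hV inf_le_left heV).c = (c'.restrict he hV inf_le_right heV).c := by
    have r := (c.restrict he hV inf_le_left heV).c.rel_w
    have r' := (c'.restrict he hV inf_le_right heV).c.rel_w
    have t := (c.restrict he hV inf_le_left heV).c.rel_z
    have t' := (c'.restrict he hV inf_le_right heV).c.rel_z
    have hx' : (c.restrict he hV inf_le_left heV).c.x = (c'.restrict he hV inf_le_right heV).c.x := hx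
    have hy' : (c.restrict he hV inf_le_left heV).c.y = (c'.restrict he hV inf_le_right heV).c.y := hy
    have inj : Function.Injective (X.presheaf.map (homOfLE (inf_le_right : U ⊓ (c.V ⊓ c'.V) ≤ c.V ⊓ c'.V)).op) :=
      ((c.toSecData he).restrict hV inf_le_left heV).res_injective
    apply WCo.ext' hx' hy'
    · apply inj
      have hu : IsUnit (X.presheaf.map (homOfLE (inf_le_left : U ⊓ (c.V ⊓ c'.V) ≤ U)).op
        (c.restrict he hV inf_le_left heV).c.y) := IsUnit.of_mul_eq_one_right _ r
      apply hu.mul_right_cancel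
      rw [← hy', ← hx'] at t'
      exact t.trans t'.symm
    · apply inj
      have hu : IsUnit (X.presheaf.map (homOfLE (inf_le_left : U ⊓ (c.V ⊓ c'.V) ≤ U)).op
        (c.restrict he hV inf_le_left heV).c.y) := IsUnit.of_mul_eq_one_right _ r
      apply hu.mul_right_cancel
      rw [← hy'] at r'
      exact r.trans r'.symm
  rw [Co.hom, Co.hom]
  congr 1

end Restrict

end K820.EW
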