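import Groth.Agent.EllLift.K820.CoCmp

/-!
# Base change of Weierstrass coordinates; points
-/

set_option autoImplicit false
universe u

open CategoryTheory CategoryTheory.Limits AlgebraicGeometry Opposite

namespace K820.EW

open Groth.Agent.VarietyA.Ell (WEq WEqInf sc)
open Groth.Agent LD LD.LeadData

section Pull

variable {A B : Type u} [CommRing A] [CommRing B] (φ : A →+* B) {X X' : Scheme.{u}} {g : X' ⟶ X}
  {q' : X' ⟶ Spec (CommRingCat.of B)} {q : X ⟶ Spec (CommRingCat.of A)}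
  (hP : IsPullback g q' q (Spec.map (CommRingCat.ofHom φ)))
  {e : Spec (CommRingCat.of A) ⟶ X} {U : X.Opens} (he : e ≫ q = 𝟙 _)
  {e' : Spec (CommRingCat.of B) ⟶ X'} (he' : e' ≫ q' = 𝟙 _)
  (hc : e' ≫ g = Spec.map (CommRingCat.ofHom φ) ≫ e)

include hc in
theorem top_le_pull {V : X.Opens} (h : ⊤ ≤ e ⁻¹ᵁ V) : ⊤ ≤ e' ⁻¹ᵁ (g ⁻¹ᵁ V) := by
  intro p' _
  change g (e' p') ∈ V
  rw [← Scheme.Hom.comp_apply, hc, Scheme.Hom.comp_apply]
  exact h (x := _) trivial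

include hP he he' hc in
theorem compl_pull {U : X.Opens} (hU : ∀ y : X, y ∈ U ↔ y ∉ Set.range e) (y : X') :
    y ∈ g ⁻¹ᵁ U ↔ y ∉ Set.range e' := by
  have hPe := isPullback_section φ hP e he e' he' hc
  change g y ∈ U ↔ _
  rw [hU, not_iff_not]
  constructor
  · rintro ⟨s, hs⟩
    obtain ⟨p', hp', -⟩ := Scheme.exists_preimage_of_isPullback hPe y s hs.symm
    exact ⟨p', hp'⟩
  · rintro ⟨p', rfl⟩
    rw [← Scheme.Hom.comp_apply, hc, Scheme.Hom.comp_apply]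
    exact ⟨_, rfl⟩

/-- Flat base change of Weierstrass coordinates. -/
noncomputable def Co.pull {W : WeierstrassCurve A} (c : Co W q e U) (hφ : φ.Flat) : Co (W.map φ) q' e' (g ⁻¹ᵁ U) where
  V := g ⁻¹ᵁ c.V
  hV := isAffineOpen_preimage hP c.hV
  heV := top_le_pull φ hc c.heV
  hU := compl_pull φ hP he he' hc c.hU
  c := c.c.pull φ g q' hP.w
  hz b hb := dvd_of_ev_eq_zero hP e he e' he' hc c.hV c.heV (top_le_pull φ hc c.heV) c.c.z c.hz b hb
  hz0 := by
    rw [WCo.pull_z, ev_app e hc c.V c.heV, c.hz0, map_zero]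
  hw0 := by
    rw [WCo.pull_w, ev_app e hc c.V c.heV, c.hw0, map_zero]
  reg := mem_nonZeroDivisors_of_flat (g.app c.V).hom (flat_app φ hP hφ c.hV) c.reg

theorem Co.pull_hom {W : WeierstrassCurve A} (c : Co W q e U) (hφ : φ.Flat) :
    (c.pull φ hP he he' hc hφ).hom ≫ bc W φ = g ≫ c.hom :=
  WCo.pull_hom c.c φ g q' hP.w _ _

end Pull

section Point

variable {A : Type u} [CommRing A]

/-- The section of the Weierstrass model with given affine coordinates. -/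
noncomputable def pt (W : WeierstrassCurve A) (a b : A) (h : WEq W (RingHom.id A) a b) :
    Spec (CommRingCat.of A) ⟶ E W := Spec.map (CommRingCat.ofHom (liftU (RingHom.id A) a b h)) ≫ ιU W

theorem pt_str (W : WeierstrassCurve A) (a b : A) (h : WEq W (RingHom.id A) a b) : pt W a b h ≫ str W = 𝟙 _ := by
  rw [pt, Category.assoc, ιU_str, ← Spec.map_comp, ← CommRingCat.ofHom_comp, liftU_comp]
  exact Spec.map_id _

variable {X : Scheme.{u}} {q : X ⟶ Spec (CommRingCat.of A)} {U : X.Opens}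

theorem wEq_ev {W : WeierstrassCurve A} {V : X.Opens} (c : WCo W q U V) (P : Spec (CommRingCat.of A) ⟶ X)
    (hP : P ≫ q = 𝟙 _) (hPU : ⊤ ≤ P ⁻¹ᵁ U) : WEq W (RingHom.id A) (ev P U hPU c.x) (ev P U hPU c.y) := by
  have h := wEq_map c.eqU (ev P U hPU)
  have h2 : (ev P U hPU).comp (sc q U) = RingHom.id A := by
    ext a
    exact ev_sc P q hP U hPU a
  rwa [h2] at h

theorem ev_factor (P : Spec (CommRingCat.of A) ⟶ X) (hPU : ⊤ ≤ P ⁻¹ᵁ U) :
    ∃ r : Spec (CommRingCat.of A) ⟶ U.toScheme, r ≫ U.ι = P ∧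
      r ≫ U.toSpecΓ = Spec.map (CommRingCat.ofHom (ev P U hPU)) := by
  have hr : Set.range P ⊆ Set.range U.ι := by
    rw [Scheme.Opens.range_ι]
    rintro _ ⟨s, rfl⟩
    exact hPU (x := s) trivial
  refine ⟨IsOpenImmersion.lift U.ι P hr, IsOpenImmersion.lift_fac _ _ _, ?_⟩
  set r := IsOpenImmersion.lift U.ι P hr with hrdef
  have hrP : r ≫ U.ι = P := IsOpenImmersion.lift_fac _ _ _
  have h1 : r ≫ U.toSpecΓ = (Spec (CommRingCat.of A)).toSpecΓ ≫ Spec.map (P.appLE U ⊤ hPU) := by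
    have hi : IsIso (⊤ : (Spec (CommRingCat.of A)).Opens).ι := (Scheme.topIso (Spec (CommRingCat.of A))).isIso_hom
    rw [← cancel_epi (⊤ : (Spec (CommRingCat.of A)).Opens).ι, ← Category.assoc _ (Spec (CommRingCat.of A)).toSpecΓ,
      ← Scheme.Opens.toSpecΓ_top, Scheme.Opens.toSpecΓ_SpecMap_appLE, ← Category.assoc]
    congr 1
    rw [← cancel_mono U.ι, Category.assoc, hrP, Scheme.Hom.resLE_comp_ι]
  rw [h1]
  have h2 : (Spec (CommRingCat.of A)).toSpecΓ = Spec.map (Scheme.ΓSpecIso (CommRingCat.of A)).hom :=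
    (SpecMap_ΓSpecIso_hom _).symm
  rw [h2, ← Spec.map_comp]
  rfl

theorem comp_hom_of_le {W : WeierstrassCurve A} {V : X.Opens} (c : WCo W q U V) (hUV : U ⊔ V = ⊤)
    (P : Spec (CommRingCat.of A) ⟶ X) (hP : P ≫ q = 𝟙 _) (hPU : ⊤ ≤ P ⁻¹ᵁ U) :
    P ≫ c.hom hUV = pt W (ev P U hPU c.x) (ev P U hPU c.y) (wEq_ev c P hP hPU) := by
  obtain ⟨r, hr, hr'⟩ := ev_factor P hPU
  have h1 : P ≫ c.hom hUV = r ≫ U.ι ≫ c.hom hUV := by rw [← Category.assoc, hr]
  rw [h1, WCo.ι_homU, WCo.homU, Category.assoc, reassoc_of% hr', ← Spec.map_comp_assoc, pt]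
  congr 2
  ext1
  apply hom_ext_U
  · ext a
    change ev P U hPU (liftU (sc q U) c.x c.y c.eqU (iU W a)) = liftU _ _ _ (wEq_ev c P hP hPU) (iU W a)
    rw [liftU_iU, liftU_iU, ev_sc P q hP]
    rfl
  · change ev P U hPU (liftU _ _ _ c.eqU (xU W)) = liftU _ _ _ (wEq_ev c P hP hPU) (xU W)
    rw [liftU_x, liftU_x]
  · change ev P U hPU (liftU _ _ _ c.eqU (yU W)) = liftU _ _ _ (wEq_ev c P hP hPU) (yU W)
    rw [liftU_y, liftU_y]

end Point

end K820.EW
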