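import Groth.Agent.EllLift.K820.PtVC
import Mathlib.RingTheory.Valuation.Basic

/-!
# The nonsingular points of a cuspidal reduction

`K` a field with a valuation `v`, `W` a Weierstrass curve over `K` with all `v (W.aᵢ) < 1`. On the points `(x, y)` with
`1 ≤ v y` the function `z = -x / y` is additive modulo the maximal ideal.
-/

set_option autoImplicit false

universe u v

namespace K820.Cusp

open WeierstrassCurve K820.PtVC

section algebra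

variable {K : Type u} [Field K]

theorem prod_identity (W : WeierstrassCurve K) {x₁ x₂ x₃ y₁ y₂ y₃ l n : K} (hn : n ≠ 0)
    (H1 : n * y₁ = l * x₁ - 1) (H2 : n * y₂ = l * x₂ - 1) (H3 : n * y₃ = l * x₃ - 1)
    (E1 : n ^ 2 * (x₁ + x₂ + x₃) = l ^ 2 + W.a₁ * l * n - W.a₂ * n ^ 2)
    (E2 : n ^ 2 * (x₁ * x₂ + x₁ * x₃ + x₂ * x₃) = W.a₄ * n ^ 2 + 2 * l + W.a₁ * n - W.a₃ * l * n)
    (E3 : n ^ 2 * (x₁ * x₂ * x₃) = 1 - W.a₃ * n - W.a₆ * n ^ 2) :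
    n ^ 3 * (y₁ * y₂ * y₃) = -(1 + W.a₂ * l + W.a₄ * l ^ 2 + W.a₆ * l ^ 3) ∧
    n ^ 3 * (x₁ * y₂ * y₃ + x₂ * y₁ * y₃ + x₃ * y₁ * y₂) =
      -(W.a₁ * l + W.a₂ * n + W.a₃ * l ^ 2 + 2 * W.a₄ * l * n + 3 * W.a₆ * l ^ 2 * n) := by
  have hn2 : n ^ 2 ≠ 0 := pow_ne_zero 2 hn
  constructor
  · have h : n ^ 3 * (y₁ * y₂ * y₃) = (n * y₁) * (n * y₂) * (n * y₃) := by ring
    rw [h, H1, H2, H3]
    apply mul_left_cancel₀ hn2
    linear_combination l ^ 3 * E3 - l ^ 2 * E2 + l * E1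
  · have h : n ^ 3 * (x₁ * y₂ * y₃ + x₂ * y₁ * y₃ + x₃ * y₁ * y₂)
        = n * (x₁ * (n * y₂) * (n * y₃) + x₂ * (n * y₁) * (n * y₃) + x₃ * (n * y₁) * (n * y₂)) := by ring
    rw [h, H1, H2, H3]
    apply mul_left_cancel₀ hn
    linear_combination 3 * l ^ 2 * E3 - 2 * l * E2 + E1

/-- The symmetric functions of the abscissas of three points on a line. -/
theorem symm_identities [DecidableEq K] (W : WeierstrassCurve K) {x₁ x₂ y₁ y₂ : K} (h₁ : W.toAffine.Equation x₁ y₁)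
    (h₂ : W.toAffine.Equation x₂ y₂) (hxy : ¬(x₁ = x₂ ∧ y₁ = W.toAffine.negY x₂ y₂)) {l n : K}
    (hl : n * W.toAffine.slope x₁ x₂ y₁ y₂ = l) (H1 : n * y₁ = l * x₁ - 1) {x₃ : K}
    (h3 : x₃ = W.toAffine.addX x₁ x₂ (W.toAffine.slope x₁ x₂ y₁ y₂)) :
    n ^ 2 * (x₁ + x₂ + x₃) = l ^ 2 + W.a₁ * l * n - W.a₂ * n ^ 2 ∧
    n ^ 2 * (x₁ * x₂ + x₁ * x₃ + x₂ * x₃) = W.a₄ * n ^ 2 + 2 * l + W.a₁ * n - W.a₃ * l * n ∧
    n ^ 2 * (x₁ * x₂ * x₃) = 1 - W.a₃ * n - W.a₆ * n ^ 2 := by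
  obtain ⟨ℓ, hℓ⟩ : ∃ ℓ, ℓ = W.toAffine.slope x₁ x₂ y₁ y₂ := ⟨_, rfl⟩
  have hp := Affine.addPolynomial_slope h₁ h₂ hxy
  rw [← hℓ] at hp h3 hl
  rw [← h3, Affine.addPolynomial_eq, neg_inj, Cubic.prod_X_sub_C_eq, Cubic.toPoly_injective] at hp
  obtain ⟨-, hb, hc, hd⟩ := (Cubic.mk.injEq _ _ _ _ _ _ _ _).mp hp
  subst hl
  refine ⟨?_, ?_, ?_⟩
  · linear_combination (n ^ 2) * hb
  · linear_combination (-n ^ 2) * hc - (2 * n * ℓ + W.a₁ * n) * H1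
  · linear_combination (n ^ 2) * hd + (n * y₁ - n * ℓ * x₁ - 1 + W.a₃ * n) * H1

end algebra

section valued

variable {K : Type u} [Field K] {Γ : Type v} [LinearOrderedCommGroupWithZero Γ] (v : Valuation K Γ)

theorem lt_mul_left {a b : K} (ha : v a ≤ 1) (hb : v b < 1) : v (a * b) < 1 := by
  rw [map_mul]
  calc v a * v b ≤ 1 * v b := by gcongr
    _ < 1 := by rwa [one_mul]

theorem lt_mul_right {a b : K} (ha : v a < 1) (hb : v b ≤ 1) : v (a * b) < 1 := by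
  rw [mul_comm]; exact lt_mul_left v hb ha

theorem le_mul {a b : K} (ha : v a ≤ 1) (hb : v b ≤ 1) : v (a * b) ≤ 1 := by
  rw [map_mul]
  exact mul_le_one' ha hb

theorem le_pow {a : K} (ha : v a ≤ 1) (n : ℕ) : v (a ^ n) ≤ 1 := by
  rw [map_pow]
  exact pow_le_one' ha n

theorem le_add {a b : K} (ha : v a ≤ 1) (hb : v b ≤ 1) : v (a + b) ≤ 1 := v.map_add_le ha hb

theorem lt_add {a b : K} (ha : v a < 1) (hb : v b < 1) : v (a + b) < 1 := v.map_add_lt ha hb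

theorem le_sub {a b : K} (ha : v a ≤ 1) (hb : v b ≤ 1) : v (a - b) ≤ 1 := v.map_sub_le ha hb

theorem lt_sub {a b : K} (ha : v a < 1) (hb : v b < 1) : v (a - b) < 1 := by
  rw [sub_eq_add_neg]; exact lt_add v ha (by rwa [Valuation.map_neg])

theorem le_natCast (n : ℕ) : v (n : K) ≤ 1 := by
  induction n with
  | zero => simp
  | succ n ih => rw [Nat.cast_succ]; exact le_add v ih (by simp)

theorem eq_one_add {a : K} (h : v a < 1) : v (1 + a) = 1 := by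
  rw [Valuation.map_add_eq_of_lt_left v (by rw [map_one]; exact h), map_one]

theorem eq_one_sub {a : K} (h : v a < 1) : v (1 - a) = 1 := by
  rw [sub_eq_add_neg]; exact eq_one_add v (by rwa [Valuation.map_neg])

theorem le_div {a b : K} (ha : v a ≤ 1) (hb : v b = 1) : v (a / b) ≤ 1 := by
  rw [map_div₀, hb, div_one]; exact ha

theorem lt_div {a b : K} (ha : v a < 1) (hb : v b = 1) : v (a / b) < 1 := by
  rw [map_div₀, hb, div_one]; exact ha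

theorem ne_zero_of_eq_one {b : K} (hb : v b = 1) : b ≠ 0 := by
  rintro rfl; simp at hb

/-- the equation in the coordinates at infinity -/
theorem eq_inf (W : WeierstrassCurve K) {x y z w : K} (hy : y ≠ 0) (h : W.toAffine.Equation x y) (hz : z * y = -x)
    (hw : w * y = -1) : w = z ^ 3 + W.a₁ * z * w + W.a₂ * z ^ 2 * w + W.a₃ * w ^ 2 + W.a₄ * z * w ^ 2 + W.a₆ * w ^ 3 := by
  rw [Affine.equation_iff'] at h
  have hw' : w = -1 / y := by field_simp; linear_combination hw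
  have hz' : z = -x / y := by field_simp; linear_combination hz
  subst hw' hz'
  field_simp
  linear_combination -h

/-- A point is good if it is zero or `1 ≤ v y` and `v x ≤ v y`. -/
def Good {W : WeierstrassCurve K} : W.toAffine.Point → Prop
  | .zero => True
  | .some x y _ => v x ≤ v y ∧ 1 ≤ v y

/-- The function `-x / y`. -/
def zf {W : WeierstrassCurve K} : W.toAffine.Point → K
  | .zero => 0
  | .some x y _ => -x / y

theorem good_ne {x y : K} (h : v x ≤ v y ∧ 1 ≤ v y) : y ≠ 0 := by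
  rintro rfl
  have := h.2
  rw [map_zero] at this
  exact not_le_of_gt zero_lt_one this

theorem good_z {x y : K} (h : v x ≤ v y ∧ 1 ≤ v y) : v (-x / y) ≤ 1 := by
  have hy := good_ne v h
  rw [map_div₀, Valuation.map_neg, div_le_one₀ (by rw [zero_lt_iff, ne_eq, map_eq_zero]; exact hy)]
  exact h.1

theorem good_w {x y : K} (h : v x ≤ v y ∧ 1 ≤ v y) : v (-1 / y) ≤ 1 := by
  have hy := good_ne v h
  rw [map_div₀, Valuation.map_neg, map_one, div_le_one₀ (by rw [zero_lt_iff, ne_eq, map_eq_zero]; exact hy)]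
  exact h.2

variable [DecidableEq K] (W : WeierstrassCurve K) (h1 : v W.a₁ < 1) (h2 : v W.a₂ < 1) (h3 : v W.a₃ < 1)
  (h4 : v W.a₄ < 1) (h6 : v W.a₆ < 1)

include h1 h2 h3 h4 h6 in
theorem exists_line {x₁ x₂ y₁ y₂ : K} (e₁ : W.toAffine.Equation x₁ y₁)
    (e₂ : W.toAffine.Equation x₂ y₂) (hxy : ¬(x₁ = x₂ ∧ y₁ = W.toAffine.negY x₂ y₂))
    (g₁ : v x₁ ≤ v y₁ ∧ 1 ≤ v y₁) (g₂ : v x₂ ≤ v y₂ ∧ 1 ≤ v y₂) :
    ∃ l n : K, n ≠ 0 ∧ v l ≤ 1 ∧ v n ≤ 1 ∧ n * W.toAffine.slope x₁ x₂ y₁ y₂ = l ∧ n * y₁ = l * x₁ - 1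
      ∧ n * y₂ = l * x₂ - 1 := by
  have hy₁ := good_ne v g₁
  have hy₂ := good_ne v g₂
  obtain ⟨z₁, hz₁⟩ : ∃ z, z = -x₁ / y₁ := ⟨_, rfl⟩
  obtain ⟨w₁, hw₁⟩ : ∃ w, w = -1 / y₁ := ⟨_, rfl⟩
  obtain ⟨z₂, hz₂⟩ : ∃ z, z = -x₂ / y₂ := ⟨_, rfl⟩
  obtain ⟨w₂, hw₂⟩ : ∃ w, w = -1 / y₂ := ⟨_, rfl⟩
  have vz₁ : v z₁ ≤ 1 := hz₁ ▸ good_z v g₁
  have vw₁ : v w₁ ≤ 1 := hw₁ ▸ good_w v g₁
  have vz₂ : v z₂ ≤ 1 := hz₂ ▸ good_z v g₂
  have vw₂ : v w₂ ≤ 1 := hw₂ ▸ good_w v g₂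
  have zy₁ : z₁ * y₁ = -x₁ := by rw [hz₁]; field_simp
  have wy₁ : w₁ * y₁ = -1 := by rw [hw₁]; field_simp
  have zy₂ : z₂ * y₂ = -x₂ := by rw [hz₂]; field_simp
  have wy₂ : w₂ * y₂ = -1 := by rw [hw₂]; field_simp
  have i₁ := eq_inf W hy₁ e₁ zy₁ wy₁
  have i₂ := eq_inf W hy₂ e₂ zy₂ wy₂
  obtain ⟨u, hu⟩ : ∃ u, u = W.a₁ * z₂ + W.a₂ * z₂ ^ 2 + W.a₃ * (w₁ + w₂) + W.a₄ * (z₂ * (w₁ + w₂))
    + W.a₆ * (w₁ ^ 2 + w₁ * w₂ + w₂ ^ 2) := ⟨_, rfl⟩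
  obtain ⟨V, hV⟩ : ∃ V, V = z₁ ^ 2 + z₁ * z₂ + z₂ ^ 2 + W.a₁ * w₁ + W.a₂ * ((z₁ + z₂) * w₁) + W.a₄ * w₁ ^ 2 := ⟨_, rfl⟩
  have vu : v u < 1 := by
    rw [hu]
    refine lt_add v (lt_add v (lt_add v (lt_add v ?_ ?_) ?_) ?_) ?_
    · exact lt_mul_right v h1 vz₂
    · exact lt_mul_right v h2 (le_pow v vz₂ 2)
    · exact lt_mul_right v h3 (le_add v vw₁ vw₂)
    · exact lt_mul_right v h4 (le_mul v vz₂ (le_add v vw₁ vw₂))
    · exact lt_mul_right v h6 (le_add v (le_add v (le_pow v vw₁ 2) (le_mul v vw₁ vw₂)) (le_pow v vw₂ 2))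
  have vV : v V ≤ 1 := by
    rw [hV]
    refine le_add v (le_add v (le_add v (le_add v (le_add v ?_ ?_) ?_) ?_) ?_) ?_
    · exact le_pow v vz₁ 2
    · exact le_mul v vz₁ vz₂
    · exact le_pow v vz₂ 2
    · exact le_mul v h1.le vw₁
    · exact le_mul v h2.le (le_mul v (le_add v vz₁ vz₂) vw₁)
    · exact le_mul v h4.le (le_pow v vw₁ 2)
  have vU : v (1 - u) = 1 := eq_one_sub v vu
  have hU := ne_zero_of_eq_one v vU
  have key : (w₂ - w₁) * (1 - u) = (z₂ - z₁) * V := by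
    rw [hu, hV]
    linear_combination i₂ - i₁
  by_cases hx : x₁ = x₂
  · -- tangent case
    have hy : y₁ ≠ W.toAffine.negY x₂ y₂ := fun h => hxy ⟨hx, h⟩
    obtain rfl := hx
    obtain rfl := Affine.Y_eq_of_Y_ne e₁ e₂ rfl hy
    obtain rfl : z₁ = z₂ := by rw [hz₁, hz₂]
    obtain rfl : w₁ = w₂ := by rw [hw₁, hw₂]
    have hD : y₁ - W.toAffine.negY x₁ y₁ ≠ 0 := sub_ne_zero.mpr hy
    have hs : W.toAffine.slope x₁ x₁ y₁ y₁ * (y₁ - W.toAffine.negY x₁ y₁)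
        = 3 * x₁ ^ 2 + 2 * W.a₂ * x₁ + W.a₄ - W.a₁ * y₁ := by
      rw [Affine.slope_of_Y_ne rfl hy, div_mul_cancel₀ _ hD]
    obtain ⟨ℓ, hℓ⟩ : ∃ ℓ, ℓ = W.toAffine.slope x₁ x₁ y₁ y₁ := ⟨_, rfl⟩
    rw [← hℓ] at hs ⊢
    simp only [Affine.negY] at hs hD
    rw [Affine.equation_iff'] at e₁
    have hVy : V * y₁ ^ 2 = 3 * x₁ ^ 2 + 2 * W.a₂ * x₁ + W.a₄ - W.a₁ * y₁ := by
      rw [hV, hz₁, hw₁]; field_simp; ring
    have hUy : (1 - u) * y₁ ^ 2 = x₁ * (3 * x₁ ^ 2 + 2 * W.a₂ * x₁ + W.a₄ - W.a₁ * y₁)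
        - y₁ * (2 * y₁ + W.a₁ * x₁ + W.a₃) := by
      rw [hu, hz₁, hw₁]; field_simp; linear_combination 3 * e₁
    refine ⟨V / (1 - u), w₁ - V / (1 - u) * z₁, ?_, le_div v vV vU, le_sub v vw₁ (le_mul v (le_div v vV vU) vz₁),
      ?_, ?_, ?_⟩
    · intro h0
      have : y₁ * ((1 - u) * y₁ ^ 2) * (w₁ - V / (1 - u) * z₁) = (2 * y₁ + W.a₁ * x₁ + W.a₃) * y₁ := by
        have e5 : y₁ * ((1 - u) * y₁ ^ 2) * (w₁ - V / (1 - u) * z₁)
          = ((1 - u) * y₁ ^ 2) * (w₁ * y₁) - (V * y₁ ^ 2) * (z₁ * y₁) := by field_simp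
        rw [e5, wy₁, zy₁, hVy, hUy]; ring
      rw [h0, mul_zero] at this
      have h8 := (mul_eq_zero.mp this.symm).resolve_right hy₁
      exact hD (by linear_combination h8)
    · have hy2 : y₁ ^ 3 ≠ 0 := pow_ne_zero 3 hy₁
      apply mul_left_cancel₀ (mul_ne_zero hU hy2)
      have e5 : (1 - u) * y₁ ^ 3 * ((w₁ - V / (1 - u) * z₁) * ℓ)
          = ((1 - u) * y₁ ^ 2 * (w₁ * y₁) - (V * y₁ ^ 2) * (z₁ * y₁)) * ℓ := by field_simp
      have e6 : (1 - u) * y₁ ^ 3 * (V / (1 - u)) = (V * y₁ ^ 2) * y₁ := by field_simp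
      rw [e5, e6, wy₁, zy₁, hVy, hUy]
      linear_combination y₁ * hs
    · field_simp
      linear_combination (1 - u) * wy₁ - V * zy₁
    · field_simp
      linear_combination (1 - u) * wy₁ - V * zy₁
  · -- secant case
    have hzz : z₂ - z₁ ≠ 0 := by
      intro h0
      rw [h0, zero_mul] at key
      have hww : w₂ - w₁ = 0 := (mul_eq_zero.mp key).resolve_right hU
      have hyy : y₁ = y₂ := by
        have e5 : (w₂ - w₁) * (y₁ * y₂) = y₂ - y₁ := by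
          linear_combination y₁ * wy₂ - y₂ * wy₁
        rw [hww, zero_mul] at e5
        linear_combination e5
      apply hx
      have e6 : z₂ = z₁ := by linear_combination h0
      rw [e6, ← hyy] at zy₂
      linear_combination zy₁ - zy₂
    have hl : w₂ - w₁ = V / (1 - u) * (z₂ - z₁) := by
      field_simp
      linear_combination key
    have r₁ : (w₁ - V / (1 - u) * z₁) * y₁ = V / (1 - u) * x₁ - 1 := by
      linear_combination wy₁ - V / (1 - u) * zy₁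
    have r₂ : (w₁ - V / (1 - u) * z₁) * y₂ = V / (1 - u) * x₂ - 1 := by
      linear_combination wy₂ - V / (1 - u) * zy₂ - y₂ * hl
    have hxx : x₁ - x₂ ≠ 0 := sub_ne_zero.mpr hx
    refine ⟨V / (1 - u), w₁ - V / (1 - u) * z₁, ?_, le_div v vV vU, le_sub v vw₁ (le_mul v (le_div v vV vU) vz₁),
      ?_, r₁, r₂⟩
    · intro h0
      rw [h0, zero_mul] at r₁ r₂
      have h5 : V / (1 - u) * (x₁ - x₂) = 0 := by linear_combination r₂ - r₁
      have h6' := (mul_eq_zero.mp h5).resolve_right hxx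
      rw [h6'] at r₁
      simp at r₁
    · rw [Affine.slope_of_X_ne hx, mul_div_assoc', div_eq_iff hxx]
      linear_combination r₁ - r₂

include h1 h2 h3 h4 h6 in
/-- The function `z` is additive modulo the maximal ideal. -/
theorem good_add (P Q : W.toAffine.Point) (hP : Good v P) (hQ : Good v Q) :
    Good v (P + Q) ∧ v (zf (P + Q) - (zf P + zf Q)) < 1 := by
  rcases P with _ | ⟨x₁, y₁, n₁⟩
  · have : (Affine.Point.zero : W.toAffine.Point) = 0 := rfl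
    rw [this, zero_add]
    refine ⟨hQ, ?_⟩
    have h0 : zf (0 : W.toAffine.Point) = 0 := rfl
    rw [h0, zero_add, sub_self, map_zero]; exact zero_lt_one
  rcases Q with _ | ⟨x₂, y₂, n₂⟩
  · have : (Affine.Point.zero : W.toAffine.Point) = 0 := rfl
    rw [this, add_zero]
    refine ⟨hP, ?_⟩
    have h0 : zf (0 : W.toAffine.Point) = 0 := rfl
    rw [h0, add_zero, sub_self, map_zero]; exact zero_lt_one
  have hP' : v x₁ ≤ v y₁ ∧ 1 ≤ v y₁ := hP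
  have hQ' : v x₂ ≤ v y₂ ∧ 1 ≤ v y₂ := hQ
  have hy₁ := good_ne v hP'
  have hy₂ := good_ne v hQ'
  have vz₁ := good_z v hP'
  have vw₁ := good_w v hP'
  by_cases hxy : x₁ = x₂ ∧ y₁ = W.toAffine.negY x₂ y₂
  · rw [Affine.Point.add_of_Y_eq hxy.1 hxy.2]
    refine ⟨trivial, ?_⟩
    have h0 : zf (0 : W.toAffine.Point) = 0 := rfl
    rw [h0, zero_sub, Valuation.map_neg]
    change v (-x₁ / y₁ + -x₂ / y₂) < 1
    have hx := hxy.1
    have hy := hxy.2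
    simp only [Affine.negY] at hy
    have vz₂ := good_z v hQ'
    have vw₂ := good_w v hQ'
    have vu : v (W.a₁ * (-x₂ / y₂) + W.a₃ * (-1 / y₂)) < 1 := lt_add v (lt_mul_right v h1 vz₂) (lt_mul_right v h3 vw₂)
    have vU : v (1 - (W.a₁ * (-x₂ / y₂) + W.a₃ * (-1 / y₂))) = 1 := eq_one_sub v vu
    have hU := ne_zero_of_eq_one v vU
    have e1 : -x₁ / y₁ + -x₂ / y₂ = (-x₂ / y₂) * -(W.a₁ * (-x₂ / y₂) + W.a₃ * (-1 / y₂))
        / (1 - (W.a₁ * (-x₂ / y₂) + W.a₃ * (-1 / y₂))) := by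
      rw [eq_div_iff hU]
      have e2 : y₁ = -y₂ * (1 - (W.a₁ * (-x₂ / y₂) + W.a₃ * (-1 / y₂))) := by
        rw [hy]; field_simp; ring
      have e3 : (1 - (W.a₁ * (-x₂ / y₂) + W.a₃ * (-1 / y₂))) = -y₁ / y₂ := by
        rw [e2]; field_simp
      have e4 : (W.a₁ * (-x₂ / y₂) + W.a₃ * (-1 / y₂)) = 1 + y₁ / y₂ := by
        linear_combination -e3
      rw [e3, e4, hx]
      field_simp
      ring
    rw [e1]
    exact lt_div v (lt_mul_left v vz₂ (by rwa [Valuation.map_neg])) vU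
  · obtain ⟨l, n, hn, vl, vn, hs, r₁, r₂⟩ := exists_line v W h1 h2 h3 h4 h6 n₁.1 n₂.1 hxy hP' hQ'
    rw [Affine.Point.add_some hxy]
    obtain ⟨x₃, hx₃⟩ : ∃ x₃, x₃ = W.toAffine.addX x₁ x₂ (W.toAffine.slope x₁ x₂ y₁ y₂) := ⟨_, rfl⟩
    obtain ⟨E1, E2, E3⟩ := symm_identities W n₁.1 n₂.1 hxy hs r₁ hx₃
    obtain ⟨y₃, hy₃⟩ : ∃ y₃, y₃ = W.toAffine.negAddY x₁ x₂ y₁ (W.toAffine.slope x₁ x₂ y₁ y₂) := ⟨_, rfl⟩
    have r₃ : n * y₃ = l * x₃ - 1 := by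
      have e1 : y₃ = W.toAffine.slope x₁ x₂ y₁ y₂ * (x₃ - x₁) + y₁ := by rw [hy₃, Affine.negAddY, hx₃]
      rw [e1]
      linear_combination r₁ + (x₃ - x₁) * hs
    obtain ⟨p1, p2⟩ := prod_identity W hn r₁ r₂ r₃ E1 E2 E3
    have hn3 : n ^ 3 ≠ 0 := pow_ne_zero 3 hn
    -- the unit `U'`
    have vU' : v (1 + (W.a₂ * l + W.a₄ * l ^ 2 + W.a₆ * l ^ 3)) = 1 :=
      eq_one_add v (lt_add v (lt_add v (lt_mul_right v h2 vl) (lt_mul_right v h4 (le_pow v vl 2)))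
        (lt_mul_right v h6 (le_pow v vl 3)))
    have hU' := ne_zero_of_eq_one v vU'
    have hy3 : y₃ ≠ 0 := by
      rintro h0
      rw [h0] at p1
      apply hU'
      linear_combination p1
    have vS : v (W.a₁ * l + W.a₂ * n + W.a₃ * l ^ 2 + 2 * W.a₄ * l * n + 3 * W.a₆ * l ^ 2 * n) < 1 := by
      have e1 : W.a₁ * l + W.a₂ * n + W.a₃ * l ^ 2 + 2 * W.a₄ * l * n + 3 * W.a₆ * l ^ 2 * n =
        W.a₁ * l + W.a₂ * n + W.a₃ * l ^ 2 + W.a₄ * (((2 : ℕ) : K) * (l * n)) + W.a₆ * (((3 : ℕ) : K) * (l ^ 2 * n)) := by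
        push_cast; ring
      rw [e1]
      refine lt_add v (lt_add v (lt_add v (lt_add v ?_ ?_) ?_) ?_) ?_
      · exact lt_mul_right v h1 vl
      · exact lt_mul_right v h2 vn
      · exact lt_mul_right v h3 (le_pow v vl 2)
      · exact lt_mul_right v h4 (le_mul v (le_natCast v 2) (le_mul v vl vn))
      · exact lt_mul_right v h6 (le_mul v (le_natCast v 3) (le_mul v (le_pow v vl 2) vn))
    -- the third point
    have hsum : -x₃ / y₃ = -(-x₁ / y₁) - (-x₂ / y₂) - (W.a₁ * l + W.a₂ * n + W.a₃ * l ^ 2 + 2 * W.a₄ * l * n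
        + 3 * W.a₆ * l ^ 2 * n) / (1 + (W.a₂ * l + W.a₄ * l ^ 2 + W.a₆ * l ^ 3)) := by
      have e1 : (1 + (W.a₂ * l + W.a₄ * l ^ 2 + W.a₆ * l ^ 3)) = -(n ^ 3 * (y₁ * y₂ * y₃)) := by
        linear_combination p1
      have e2 : (W.a₁ * l + W.a₂ * n + W.a₃ * l ^ 2 + 2 * W.a₄ * l * n + 3 * W.a₆ * l ^ 2 * n) =
        -(n ^ 3 * (x₁ * y₂ * y₃ + x₂ * y₁ * y₃ + x₃ * y₁ * y₂)) := by
        linear_combination p2
      rw [e1, e2]
      field_simp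
      ring
    have vz₂ := good_z v hQ'
    have vz₃ : v (-x₃ / y₃) ≤ 1 := by
      rw [hsum]
      exact le_sub v (le_sub v (by rwa [Valuation.map_neg]) vz₂) (le_div v vS.le vU')
    have hw₃ : -1 / y₃ = l * (-x₃ / y₃) + n := by
      field_simp
      linear_combination -r₃
    have vw₃ : v (-1 / y₃) ≤ 1 := by
      rw [hw₃]
      exact le_add v (le_mul v vl vz₃) vn
    -- its negative
    have hY : W.toAffine.addY x₁ x₂ y₁ (W.toAffine.slope x₁ x₂ y₁ y₂)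
        = -y₃ * (1 - (W.a₁ * (-x₃ / y₃) + W.a₃ * (-1 / y₃))) := by
      rw [Affine.addY, ← hx₃, ← hy₃, Affine.negY]
      field_simp
      ring
    have vu : v (W.a₁ * (-x₃ / y₃) + W.a₃ * (-1 / y₃)) < 1 := lt_add v (lt_mul_right v h1 vz₃) (lt_mul_right v h3 vw₃)
    have vU : v (1 - (W.a₁ * (-x₃ / y₃) + W.a₃ * (-1 / y₃))) = 1 := eq_one_sub v vu
    have hU := ne_zero_of_eq_one v vU
    have hy3' : 0 < v y₃ := by rw [zero_lt_iff, ne_eq, map_eq_zero]; exact hy3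
    have vY : v (W.toAffine.addY x₁ x₂ y₁ (W.toAffine.slope x₁ x₂ y₁ y₂)) = v y₃ := by
      rw [hY, map_mul, vU, mul_one, Valuation.map_neg]
    have hgood : Good v (Affine.Point.some _ _ (Affine.nonsingular_add n₁ n₂ hxy)) := by
      refine ⟨?_, ?_⟩
      · rw [vY, ← hx₃]
        rwa [map_div₀, Valuation.map_neg, div_le_one₀ hy3'] at vz₃
      · rw [vY]
        rwa [map_div₀, Valuation.map_neg, map_one, div_le_one₀ hy3'] at vw₃
    refine ⟨hgood, ?_⟩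
    change v (-(W.toAffine.addX x₁ x₂ (W.toAffine.slope x₁ x₂ y₁ y₂)) /
      (W.toAffine.addY x₁ x₂ y₁ (W.toAffine.slope x₁ x₂ y₁ y₂)) - (-x₁ / y₁ + -x₂ / y₂)) < 1
    rw [← hx₃, hY]
    obtain ⟨ε, hε⟩ : ∃ ε, ε = W.a₁ * (-x₃ / y₃) + W.a₃ * (-1 / y₃) := ⟨_, rfl⟩
    obtain ⟨z₃, hz₃⟩ : ∃ z, z = -x₃ / y₃ := ⟨_, rfl⟩
    rw [← hε] at hU vU vu ⊢
    have e5 : -x₃ / (-y₃ * (1 - ε)) = -z₃ / (1 - ε) := by
      rw [hz₃]; field_simp
    have e6 : -x₃ / (-y₃ * (1 - ε)) - (-x₁ / y₁ + -x₂ / y₂) =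
      -(z₃ * (ε / (1 - ε))) + (W.a₁ * l + W.a₂ * n + W.a₃ * l ^ 2 + 2 * W.a₄ * l * n
        + 3 * W.a₆ * l ^ 2 * n) / (1 + (W.a₂ * l + W.a₄ * l ^ 2 + W.a₆ * l ^ 3)) := by
      rw [e5]
      rw [← hz₃] at hsum
      have e7 : -z₃ / (1 - ε) = -(z₃ * (ε / (1 - ε))) - z₃ := by field_simp; ring
      rw [e7]
      linear_combination -hsum
    rw [e6]
    rw [← hz₃] at vz₃
    exact lt_add v (by rw [Valuation.map_neg]; exact lt_mul_left v vz₃ (lt_div v vu vU)) (lt_div v vS vU')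

include h1 h2 h3 h4 h6 in
theorem good_nsmul (P : W.toAffine.Point) (hP : Good v P) (j : ℕ) :
    Good v (j • P) ∧ v (zf (j • P) - (j : K) * zf P) < 1 := by
  induction j with
  | zero =>
    rw [zero_smul]
    refine ⟨trivial, ?_⟩
    have h0 : zf (0 : W.toAffine.Point) = 0 := rfl
    rw [h0, Nat.cast_zero, zero_mul, sub_self, map_zero]; exact zero_lt_one
  | succ j ih =>
    rw [succ_nsmul]
    obtain ⟨a, b⟩ := good_add v W h1 h2 h3 h4 h6 _ _ ih.1 hP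
    refine ⟨a, ?_⟩
    have e : zf (j • P + P) - ((j + 1 : ℕ) : K) * zf P = (zf (j • P + P) - (zf (j • P) + zf P))
        + (zf (j • P) - (j : K) * zf P) := by push_cast; ring
    rw [e]
    exact lt_add v b ih.2

end valued

end K820.Cusp
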