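import Groth.Agent.EllLift.K820.Cusp

/-!
# Torsion points and cuspidal reduction

* `lt_one_of_nsmul_eq_zero`: for a Weierstrass equation with all coefficients in the maximal ideal, a nonzero torsion
  point of order prime to the residue characteristic reduces to the cusp.
* `exists_small`: if `P, 2P, 3P, 4P` are nonzero and reduce to the cusp, the equation is not minimal.
-/

set_option autoImplicit false

universe u v

namespace K820.Cusp

open WeierstrassCurve K820.PtVC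

variable {K : Type u} [Field K] {Γ : Type v} [LinearOrderedCommGroupWithZero Γ] (v : Valuation K Γ)

/-- The point is nonzero and reduces to the origin. -/
def Red {W : WeierstrassCurve K} : W.toAffine.Point → Prop
  | .zero => False
  | .some x y _ => v x < 1 ∧ v y < 1

/-- if `v (ν² + a ν - b) < 1` with `v a < 1` and `v b < 1` then `v ν < 1` -/
theorem lt_one_of_quadratic {a b n : K} (ha : v a < 1) (hb : v b < 1) (h : v (n ^ 2 + a * n - b) < 1) : v n < 1 := by
  by_contra hcon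
  push Not at hcon
  have hn : 0 < v n := lt_of_lt_of_le zero_lt_one hcon
  have h1 : v (a * n) < v (n ^ 2) := by
    rw [map_mul, map_pow, pow_two]
    have : v a < v n := lt_of_lt_of_le ha hcon
    exact mul_lt_mul_of_pos_right this hn
  have h2 : v b < v (n ^ 2) := by
    rw [map_pow]
    exact lt_of_lt_of_le hb (one_le_pow_of_one_le' hcon 2)
  have h3 : v (n ^ 2 + a * n - b) = v (n ^ 2) := by
    have e : n ^ 2 + a * n - b = n ^ 2 + (a * n - b) := by ring
    rw [e, Valuation.map_add_eq_of_lt_left]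
    rw [sub_eq_add_neg]
    exact Valuation.map_add_lt v h1 (by rwa [Valuation.map_neg])
  rw [h3, map_pow] at h
  exact absurd (one_le_pow_of_one_le' hcon 2) (not_le_of_gt h)

variable [DecidableEq K] (W : WeierstrassCurve K) (h1 : v W.a₁ < 1) (h2 : v W.a₂ < 1) (h3 : v W.a₃ < 1)
  (h4 : v W.a₄ < 1) (h6 : v W.a₆ < 1)

include h1 h2 h3 h4 h6 in
omit [DecidableEq K] in
theorem one_le_of_one_le {x y : K} (h : W.toAffine.Equation x y) (hxy : ¬ (v x < 1 ∧ v y < 1)) :
    1 ≤ v x ∧ v y ^ 2 = v x ^ 3 := by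
  rw [Affine.equation_iff] at h
  have hx : 1 ≤ v x := by
    by_contra hcon
    push Not at hcon
    have hy : 1 ≤ v y := by
      by_contra hc
      push Not at hc
      exact hxy ⟨hcon, hc⟩
    have hR : v (x ^ 3 + W.a₂ * x ^ 2 + W.a₄ * x + W.a₆) < 1 := by
      refine lt_add v (lt_add v (lt_add v ?_ ?_) ?_) h6
      · rw [map_pow]; exact pow_lt_one' hcon (by norm_num)
      · exact lt_mul_right v h2 (le_pow v hcon.le 2)
      · exact lt_mul_right v h4 hcon.le
    rw [← h] at hR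
    have e : y ^ 2 + W.a₁ * x * y + W.a₃ * y = y ^ 2 + (W.a₁ * x + W.a₃) * y - 0 := by ring
    rw [e] at hR
    have := lt_one_of_quadratic v (a := W.a₁ * x + W.a₃) (b := 0) (n := y)
      (lt_add v (lt_mul_right v h1 hcon.le) h3) (by rw [map_zero]; exact zero_lt_one) hR
    exact absurd hy (not_le_of_gt this)
  refine ⟨hx, ?_⟩
  have hx0 : 0 < v x := lt_of_lt_of_le zero_lt_one hx
  -- the right-hand side has valuation `v x ^ 3`
  have hR : v (x ^ 3 + W.a₂ * x ^ 2 + W.a₄ * x + W.a₆) = v x ^ 3 := by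
    have e : x ^ 3 + W.a₂ * x ^ 2 + W.a₄ * x + W.a₆ = x ^ 3 + (W.a₂ * x ^ 2 + W.a₄ * x + W.a₆) := by ring
    have hx3 : v x ^ 3 = v (x ^ 3) := (map_pow v x 3).symm
    rw [e, Valuation.map_add_eq_of_lt_left, map_pow]
    have g1 : v (W.a₂ * x ^ 2) < v (x ^ 3) := by
      rw [map_mul, map_pow, map_pow]
      calc v W.a₂ * v x ^ 2 < 1 * v x ^ 2 := mul_lt_mul_of_pos_right h2 (pow_pos hx0 2)
        _ = v x ^ 2 := one_mul _
        _ ≤ v x ^ 3 := pow_le_pow_right' hx (by norm_num)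
    have g2 : v (W.a₄ * x) < v (x ^ 3) := by
      rw [map_mul, map_pow]
      calc v W.a₄ * v x < 1 * v x := mul_lt_mul_of_pos_right h4 hx0
        _ = v x ^ 1 := by rw [one_mul, pow_one]
        _ ≤ v x ^ 3 := pow_le_pow_right' hx (by norm_num)
    have g3 : v W.a₆ < v (x ^ 3) := by
      rw [map_pow]
      exact lt_of_lt_of_le h6 (one_le_pow_of_one_le' hx 3)
    exact Valuation.map_add_lt v (Valuation.map_add_lt v g1 g2) g3
  -- now the left-hand side
  have hxy' : v y ≥ v x := by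
    by_contra hcon
    push Not at hcon
    have : v (y ^ 2 + W.a₁ * x * y + W.a₃ * y) < v x ^ 3 := by
      have g1 : v (y ^ 2) < v (x ^ 3) := by
        rw [map_pow, map_pow]
        calc v y ^ 2 < v x ^ 2 := pow_lt_pow_left₀ hcon zero_le (by norm_num)
          _ ≤ v x ^ 3 := pow_le_pow_right' hx (by norm_num)
      have g2 : v (W.a₁ * x * y) < v (x ^ 3) := by
        rw [map_mul, map_mul, map_pow]
        calc v W.a₁ * v x * v y ≤ 1 * v x * v y := by gcongr
          _ = v x * v y := by rw [one_mul]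
          _ < v x * v x := mul_lt_mul_of_pos_left hcon hx0
          _ = v x ^ 2 := (pow_two _).symm
          _ ≤ v x ^ 3 := pow_le_pow_right' hx (by norm_num)
      have g3 : v (W.a₃ * y) < v (x ^ 3) := by
        rw [map_mul, map_pow]
        calc v W.a₃ * v y ≤ 1 * v y := by gcongr
          _ = v y := by rw [one_mul]
          _ < v x := hcon
          _ = v x ^ 1 := (pow_one _).symm
          _ ≤ v x ^ 3 := pow_le_pow_right' hx (by norm_num)
      rw [map_pow] at g1 g2 g3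
      rw [map_pow] at g1
      exact Valuation.map_add_lt v (Valuation.map_add_lt v (by rwa [map_pow]) g2) g3
    rw [h, hR] at this
    exact lt_irrefl _ this
  have hy0 : 0 < v y := lt_of_lt_of_le hx0 hxy'
  have hL : v (y ^ 2 + W.a₁ * x * y + W.a₃ * y) = v y ^ 2 := by
    have e : y ^ 2 + W.a₁ * x * y + W.a₃ * y = y ^ 2 + (W.a₁ * x * y + W.a₃ * y) := by ring
    rw [e, Valuation.map_add_eq_of_lt_left, map_pow]
    have g2 : v (W.a₁ * x * y) < v (y ^ 2) := by
      rw [map_mul, map_mul, map_pow]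
      calc v W.a₁ * v x * v y < 1 * v x * v y := by
            have : 0 < v x * v y := mul_pos hx0 hy0
            rw [mul_assoc, mul_assoc]
            exact mul_lt_mul_of_pos_right h1 this
        _ = v x * v y := by rw [one_mul]
        _ ≤ v y * v y := by gcongr
        _ = v y ^ 2 := (pow_two _).symm
    have g3 : v (W.a₃ * y) < v (y ^ 2) := by
      rw [map_mul, map_pow]
      calc v W.a₃ * v y < 1 * v y := mul_lt_mul_of_pos_right h3 hy0
        _ = v y ^ 1 := by rw [one_mul, pow_one]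
        _ ≤ v y ^ 2 := pow_le_pow_right' (hx.trans hxy') (by norm_num)
    exact Valuation.map_add_lt v g2 g3
  rw [← hL, h, hR]

include h1 h2 h3 h4 h6 in
/-- A nonzero point killed by an integer which is a unit for `v` reduces to the cusp. -/
theorem red_of_nsmul_eq_zero (P : W.toAffine.Point) (hP : P ≠ 0) (N : ℕ) (hN : v (N : K) = 1) (hNP : N • P = 0) :
    Red v P := by
  rcases P with _ | ⟨x, y, hns⟩
  · exact absurd rfl hP
  by_contra hcon
  obtain ⟨hx, hxy⟩ := one_le_of_one_le v W h1 h2 h3 h4 h6 hns.1 hcon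
  have hx0 : x ≠ 0 := by rintro rfl; simp at hx
  have hvx : 0 < v x := lt_of_lt_of_le zero_lt_one hx
  have hy0 : y ≠ 0 := by
    rintro rfl
    rw [map_zero, zero_pow two_ne_zero] at hxy
    exact (pow_pos hvx 3).ne hxy
  have hvy : 0 < v y := by rw [zero_lt_iff, ne_eq, map_eq_zero]; exact hy0
  -- rescale
  let u : Kˣ := Units.mk0 (y / x) (div_ne_zero hy0 hx0)
  have hu : (u : K) = y / x := rfl
  have hvu : v (u : K) ^ 2 = v x := by
    rw [hu, map_div₀, div_pow, hxy]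
    rw [div_eq_iff (pow_pos hvx 2).ne']
    exact pow_succ' (v x) 2
  have hvu1 : 1 ≤ v (u : K) := by
    by_contra hc
    push Not at hc
    have : v (u : K) ^ 2 < 1 := pow_lt_one' hc (by norm_num)
    rw [hvu] at this
    exact absurd hx (not_le_of_gt this)
  have hvui : v (↑u⁻¹ : K) ≤ 1 := by
    rw [Units.val_inv_eq_inv_val, map_inv₀]
    exact inv_le_one_of_one_le₀ hvu1
  let C : VariableChange K := ⟨u, 0, 0, 0⟩
  have k1 : v (C • W).a₁ < 1 := by
    have : (C • W).a₁ = (↑u⁻¹ : K) * W.a₁ := by simp [variableChange_a₁, C]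
    rw [this]; exact lt_mul_left v hvui h1
  have k2 : v (C • W).a₂ < 1 := by
    have : (C • W).a₂ = (↑u⁻¹ : K) ^ 2 * W.a₂ := by simp [variableChange_a₂, C]
    rw [this]; exact lt_mul_left v (le_pow v hvui _) h2
  have k3 : v (C • W).a₃ < 1 := by
    have : (C • W).a₃ = (↑u⁻¹ : K) ^ 3 * W.a₃ := by simp [variableChange_a₃, C]
    rw [this]; exact lt_mul_left v (le_pow v hvui _) h3
  have k4 : v (C • W).a₄ < 1 := by
    have : (C • W).a₄ = (↑u⁻¹ : K) ^ 4 * W.a₄ := by simp [variableChange_a₄, C]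
    rw [this]; exact lt_mul_left v (le_pow v hvui _) h4
  have k6 : v (C • W).a₆ < 1 := by
    have : (C • W).a₆ = (↑u⁻¹ : K) ^ 6 * W.a₆ := by simp [variableChange_a₆, C]
    rw [this]; exact lt_mul_left v (le_pow v hvui _) h6
  have hnx : nx C x = (↑u⁻¹ : K) ^ 2 * x := by simp [nx, C]
  have hny : ny C x y = (↑u⁻¹ : K) ^ 3 * y := by simp [ny, C]
  have hvu0 : v (u : K) ≠ 0 := (lt_of_lt_of_le zero_lt_one hvu1).ne'
  have vnx : v (nx C x) = 1 := by
    rw [hnx, map_mul, map_pow, Units.val_inv_eq_inv_val, map_inv₀, inv_pow, hvu]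
    exact inv_mul_cancel₀ hvx.ne'
  have vny : v (ny C x y) = 1 := by
    rw [hny, map_mul, map_pow, Units.val_inv_eq_inv_val, map_inv₀, inv_pow]
    have : v (u : K) ^ 3 = v y := by
      rw [hu, map_div₀, div_pow, ← hxy, div_eq_iff (pow_pos hvy 2).ne']
      exact pow_succ' (v y) 2
    rw [this]
    exact inv_mul_cancel₀ hvy.ne'
  obtain ⟨-, hg⟩ := good_nsmul v (C • W) k1 k2 k3 k4 k6 (ptMap C W (.some x y hns)) ⟨by rw [vnx, vny], vny.ge⟩ N
  rw [← map_nsmul, hNP, map_zero] at hg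
  have h0 : zf (0 : (C • W).toAffine.Point) = 0 := rfl
  rw [h0, zero_sub, Valuation.map_neg, map_mul, hN, one_mul, ptMap_some] at hg
  change v (-(nx C x) / (ny C x y)) < 1 at hg
  rw [map_div₀, Valuation.map_neg, vnx, vny, div_one] at hg
  exact lt_irrefl _ hg

/-- Translation of a point reducing to the origin. -/
theorem red_ptMap (C : VariableChange K) (hu : v (C.u : K) = 1) (hr : v C.r < 1) (hs : v C.s ≤ 1) (ht : v C.t < 1)
    (P : W.toAffine.Point) (hP : Red v P) : Red v (ptMap C W P) := by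
  rcases P with _ | ⟨x, y, hns⟩
  · exact hP
  · rw [ptMap_some]
    have hui : v (↑C.u⁻¹ : K) ≤ 1 := by rw [Units.val_inv_eq_inv_val, map_inv₀, hu, inv_one]
    refine ⟨lt_mul_left v (le_pow v hui _) (lt_sub v hP.1 hr), lt_mul_left v (le_pow v hui _) ?_⟩
    exact lt_sub v (lt_sub v hP.2 (lt_mul_left v hs (lt_sub v hP.1 hr))) ht

/-- Computation in the normal form `y² + a₁ x y + a₃ y = x³ + a₂ x²`. -/
theorem normal_form (ha₄ : W.a₄ = 0) (ha₆ : W.a₆ = 0) (hns : W.toAffine.Nonsingular 0 0)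
    (h1 : v W.a₁ < 1) (h2 : v W.a₂ < 1)
    (hP : ∀ j ∈ ({1, 2, 3, 4} : Set ℕ), Red v (j • (Affine.Point.some 0 0 hns : W.toAffine.Point))) :
    ∃ e g w : K, v e < 1 ∧ v g < 1 ∧ v w < 1 ∧ W.a₁ = e - g ∧ W.a₂ = w * g ∧ W.a₃ = e * w * g := by
  obtain ⟨P, hPdef⟩ : ∃ P : W.toAffine.Point, P = Affine.Point.some 0 0 hns := ⟨_, rfl⟩
  rw [← hPdef] at hP
  have ne_of_red : ∀ {Q : W.toAffine.Point}, Red v Q → Q ≠ 0 := by
    rintro Q hQ rfl; exact hQ
  have r2 := hP 2 (by simp)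
  have r3 := hP 3 (by simp)
  have r4 := hP 4 (by simp)
  have a₃ne : W.a₃ ≠ 0 := by
    rcases (Affine.nonsingular_zero (W := W.toAffine)).mp hns |>.2 with h | h
    · exact h
    · exact absurd ha₄ h
  -- the double
  have hy0 : (0 : K) ≠ W.toAffine.negY 0 0 := by
    simp only [Affine.negY]
    intro h
    apply a₃ne
    linear_combination h
  have hneg : -P = Affine.Point.some 0 (-W.a₃) (by
      have := (Affine.nonsingular_neg (W' := W.toAffine) 0 0).mpr hns
      simpa [Affine.negY] using this) := by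
    rw [hPdef, Affine.Point.neg_some]
    simp only [Affine.negY]
    congr 1
    ring
  have hslope : W.toAffine.slope 0 0 0 0 = 0 := by
    rw [Affine.slope_of_Y_ne rfl hy0, ha₄]; simp
  have h2P : ∃ h, 2 • P = Affine.Point.some (-W.a₂) (W.a₁ * W.a₂ - W.a₃) h := by
    have hxy : ¬((0 : K) = 0 ∧ (0 : K) = W.toAffine.negY 0 0) := fun h => hy0 h.2
    have e1 : W.toAffine.addX 0 0 (W.toAffine.slope 0 0 0 0) = -W.a₂ := by
      rw [hslope]; simp only [Affine.addX]; ring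
    have e2 : W.toAffine.addY 0 0 0 (W.toAffine.slope 0 0 0 0) = W.a₁ * W.a₂ - W.a₃ := by
      rw [hslope]; simp only [Affine.addX, Affine.addY, Affine.negAddY, Affine.negY]; ring
    have e3 := Affine.Point.add_some hxy (h₁ := hns) (h₂ := hns)
    rw [two_nsmul, hPdef, e3]
    refine ⟨by rw [← e1, ← e2]; exact Affine.nonsingular_add hns hns hxy, ?_⟩
    rw [Affine.Point.some.injEq]
    exact ⟨e1, e2⟩
  obtain ⟨n2, h2P⟩ := h2P
  have a₂ne : W.a₂ ≠ 0 := by
    intro h0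
    apply ne_of_red r3
    have : 2 • P = -P := by
      rw [h2P, hneg, Affine.Point.some.injEq, h0]
      constructor <;> ring
    rw [succ_nsmul, this]
    exact neg_add_cancel P
  obtain ⟨e, he⟩ : ∃ e, e = W.a₃ / W.a₂ := ⟨_, rfl⟩
  have hea : W.a₃ = e * W.a₂ := by rw [he]; field_simp
  obtain ⟨g, hg⟩ : ∃ g, g = e - W.a₁ := ⟨_, rfl⟩
  -- the triple
  have hx2 : -W.a₂ ≠ 0 := neg_ne_zero.mpr a₂ne
  have hs2 : W.toAffine.slope (-W.a₂) 0 (W.a₁ * W.a₂ - W.a₃) 0 = g := by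
    rw [Affine.slope_of_X_ne hx2, hg, sub_zero, sub_zero, hea, div_eq_iff hx2]
    ring
  have h3P : ∃ h, 3 • P = Affine.Point.some (g * e) (-e * (g * e) - W.a₃) h := by
    have hxy : ¬(-W.a₂ = 0 ∧ W.a₁ * W.a₂ - W.a₃ = W.toAffine.negY 0 0) := fun h => hx2 h.1
    have e1 : W.toAffine.addX (-W.a₂) 0 (W.toAffine.slope (-W.a₂) 0 (W.a₁ * W.a₂ - W.a₃) 0) = g * e := by
      rw [hs2]; simp only [Affine.addX]; rw [hg]; ring
    have e2 : W.toAffine.addY (-W.a₂) 0 (W.a₁ * W.a₂ - W.a₃) (W.toAffine.slope (-W.a₂) 0 (W.a₁ * W.a₂ - W.a₃) 0)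
        = -e * (g * e) - W.a₃ := by
      rw [hs2]; simp only [Affine.addX, Affine.addY, Affine.negAddY, Affine.negY]; rw [hg, hea]; ring
    have e3 := Affine.Point.add_some hxy (h₁ := n2) (h₂ := hns)
    rw [succ_nsmul, h2P, hPdef, e3]
    refine ⟨by rw [← e2, ← e1]; exact Affine.nonsingular_add n2 hns hxy, ?_⟩
    rw [Affine.Point.some.injEq]
    exact ⟨e1, e2⟩
  obtain ⟨n3, h3P⟩ := h3P
  have hx3ne : g * e ≠ 0 := by
    intro h0
    apply ne_of_red r4
    have : 3 • P = -P := by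
      rw [h3P, hneg, Affine.Point.some.injEq, h0]
      constructor <;> ring
    rw [succ_nsmul, this]
    exact neg_add_cancel P
  have vx3 : v (g * e) < 1 := by rw [h3P] at r3; exact r3.1
  have vg : v g < 1 := by
    refine lt_one_of_quadratic v (a := W.a₁) (b := 0) h1 (by rw [map_zero]; exact zero_lt_one) ?_
    have : g ^ 2 + W.a₁ * g - 0 = g * e := by rw [hg]; ring
    rwa [this]
  have ve : v e < 1 := by
    have : e = g + W.a₁ := by rw [hg]; ring
    rw [this]; exact lt_add v vg h1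
  -- the quadruple
  obtain ⟨w, hw⟩ : ∃ w, w = W.a₂ / g := ⟨_, rfl⟩
  have hgne : g ≠ 0 := left_ne_zero_of_mul hx3ne
  have hene : e ≠ 0 := right_ne_zero_of_mul hx3ne
  have hwa : W.a₂ = w * g := by rw [hw]; field_simp
  have hs3 : W.toAffine.slope (g * e) 0 (-e * (g * e) - W.a₃) 0 = -e - w := by
    rw [Affine.slope_of_X_ne hx3ne, sub_zero, sub_zero, div_eq_iff hx3ne, hea, hwa]
    ring
  have h4P : ∃ y h, 4 • P = Affine.Point.some ((-e - w) ^ 2 + W.a₁ * (-e - w) - W.a₂ - g * e) y h := by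
    have hxy : ¬(g * e = 0 ∧ -e * (g * e) - W.a₃ = W.toAffine.negY 0 0) := fun h => hx3ne h.1
    have e1 : W.toAffine.addX (g * e) 0 (W.toAffine.slope (g * e) 0 (-e * (g * e) - W.a₃) 0)
        = (-e - w) ^ 2 + W.a₁ * (-e - w) - W.a₂ - g * e := by
      rw [hs3]; simp only [Affine.addX]; ring
    have e3 := Affine.Point.add_some hxy (h₁ := n3) (h₂ := hns)
    refine ⟨W.toAffine.addY (g * e) 0 (-e * (g * e) - W.a₃) (W.toAffine.slope (g * e) 0 (-e * (g * e) - W.a₃) 0), ?_⟩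
    rw [succ_nsmul, h3P, hPdef, e3]
    refine ⟨by rw [← e1]; exact Affine.nonsingular_add n3 hns hxy, ?_⟩
    rw [Affine.Point.some.injEq]
    exact ⟨e1, rfl⟩
  obtain ⟨y4, n4, h4P⟩ := h4P
  have vx4 : v ((-e - w) ^ 2 + W.a₁ * (-e - w) - W.a₂ - g * e) < 1 := by rw [h4P] at r4; exact r4.1
  have vew : v (-e - w) < 1 := by
    refine lt_one_of_quadratic v (a := W.a₁) (b := W.a₂ + g * e) h1 (lt_add v h2 vx3) ?_
    have : (-e - w) ^ 2 + W.a₁ * (-e - w) - (W.a₂ + g * e) = (-e - w) ^ 2 + W.a₁ * (-e - w) - W.a₂ - g * e := by ring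
    rwa [this]
  have vw : v w < 1 := by
    have : w = -(-e - w) - e := by ring
    rw [this]
    exact lt_sub v (by rwa [Valuation.map_neg]) ve
  exact ⟨e, g, w, ve, vg, vw, by rw [hg]; ring, hwa, by rw [hea, hwa]; ring⟩

include h1 h2 h3 h4 in
/-- If `P, 2P, 3P, 4P` are nonzero and reduce to the cusp then, after a change of variables, the equation can be
divided by the square, cube, ... of the uniformizer. -/
theorem exists_small (P : W.toAffine.Point) (hP : ∀ j ∈ ({1, 2, 3, 4} : Set ℕ), Red v (j • P)) :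
    ∃ C : VariableChange K, C.u = 1 ∧ ∃ e g w : K, v e < 1 ∧ v g < 1 ∧ v w < 1 ∧ (C • W).a₁ = e - g ∧
      (C • W).a₂ = w * g ∧ (C • W).a₃ = e * w * g ∧ (C • W).a₄ = 0 ∧ (C • W).a₆ = 0 := by
  rcases P with _ | ⟨x₀, y₀, hns⟩
  · have := hP 1 (by simp)
    rw [one_smul] at this
    exact this.elim
  have r1 := hP 1 (by simp)
  rw [one_smul] at r1
  obtain ⟨vx, vy⟩ : v x₀ < 1 ∧ v y₀ < 1 := r1
  -- translate the point to the origin
  let C₁ : VariableChange K := ⟨1, x₀, 0, y₀⟩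
  let W₁ := C₁ • W
  have f1 : W₁.a₁ = W.a₁ := by simp [W₁, C₁, variableChange_a₁]
  have f2 : W₁.a₂ = W.a₂ + ((3 : ℕ) : K) * x₀ := by simp [W₁, C₁, variableChange_a₂]
  have f3 : W₁.a₃ = W.a₃ + x₀ * W.a₁ + ((2 : ℕ) : K) * y₀ := by simp [W₁, C₁, variableChange_a₃]
  have f4 : W₁.a₄ = W.a₄ + ((2 : ℕ) : K) * (x₀ * W.a₂) - y₀ * W.a₁ + ((3 : ℕ) : K) * x₀ ^ 2 := by
    simp [W₁, C₁, variableChange_a₄]; ring
  have k1 : v W₁.a₁ < 1 := by rw [f1]; exact h1
  have k2 : v W₁.a₂ < 1 := by rw [f2]; exact lt_add v h2 (lt_mul_left v (le_natCast v _) vx)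
  have k3 : v W₁.a₃ < 1 := by
    rw [f3]; exact lt_add v (lt_add v h3 (lt_mul_left v vx.le h1)) (lt_mul_left v (le_natCast v _) vy)
  have k4 : v W₁.a₄ < 1 := by
    rw [f4]
    exact lt_add v (lt_sub v (lt_add v h4 (lt_mul_left v (le_natCast v _) (lt_mul_left v vx.le h2)))
      (lt_mul_left v vy.le h1)) (lt_mul_left v (le_natCast v _) (by rw [map_pow]; exact pow_lt_one' vx (by norm_num)))
  have c1 : nx C₁ x₀ = 0 := by simp [nx, C₁]
  have c2 : ny C₁ x₀ y₀ = 0 := by simp [ny, C₁]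
  have ns1 : W₁.toAffine.Nonsingular 0 0 := by
    have := (nonsingular_iff' C₁ W x₀ y₀).mpr hns
    rwa [c1, c2] at this
  have hP1 : ptMap C₁ W (.some x₀ y₀ hns) = .some 0 0 ns1 := by
    rw [ptMap_some, Affine.Point.some.injEq]
    exact ⟨c1, c2⟩
  have red1 : ∀ j ∈ ({1, 2, 3, 4} : Set ℕ), Red v (j • (Affine.Point.some 0 0 ns1 : W₁.toAffine.Point)) := by
    intro j hj
    rw [← hP1, ← map_nsmul]
    exact red_ptMap v W C₁ (by simp [C₁]) vx (by simp [C₁]) vy _ (hP j hj)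
  have a6 : W₁.a₆ = 0 := ((Affine.nonsingular_zero (W := W₁.toAffine)).mp ns1).1
  -- make the tangent horizontal
  have hy0 : (0 : K) ≠ W₁.toAffine.negY 0 0 := by
    intro h
    have r2 := red1 2 (by simp)
    rw [two_nsmul, Affine.Point.add_of_Y_eq rfl h] at r2
    exact r2
  have a₃ne : W₁.a₃ ≠ 0 := by
    intro h; apply hy0; simp only [Affine.negY]
    change (0 : K) = -0 - W₁.a₁ * 0 - W₁.a₃
    rw [h]; ring
  obtain ⟨ℓ, hℓ⟩ : ∃ ℓ, ℓ = W₁.a₄ / W₁.a₃ := ⟨_, rfl⟩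
  have hℓa : W₁.a₄ = ℓ * W₁.a₃ := by rw [hℓ]; field_simp
  have hslope : W₁.toAffine.slope 0 0 0 0 = ℓ := by
    rw [Affine.slope_of_Y_ne rfl hy0, hℓ]
    simp only [Affine.negY]
    congr 1 <;> ring
  have vℓ : v ℓ < 1 := by
    have hxy : ¬((0 : K) = 0 ∧ (0 : K) = W₁.toAffine.negY 0 0) := fun h => hy0 h.2
    have r2 := red1 2 (by simp)
    rw [two_nsmul, Affine.Point.add_some hxy] at r2
    have r2' := r2.1
    rw [hslope] at r2'
    refine lt_one_of_quadratic v (a := W₁.a₁) (b := W₁.a₂) k1 k2 ?_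
    have : ℓ ^ 2 + W₁.a₁ * ℓ - W₁.a₂ = W₁.toAffine.addX 0 0 ℓ := by simp only [Affine.addX]; ring
    rw [this]; exact r2'
  let C₂ : VariableChange K := ⟨1, 0, ℓ, 0⟩
  let W₂ := C₂ • W₁
  have g1 : W₂.a₁ = W₁.a₁ + ((2 : ℕ) : K) * ℓ := by simp [W₂, C₂, variableChange_a₁]
  have g2 : W₂.a₂ = W₁.a₂ - ℓ * W₁.a₁ - ℓ ^ 2 := by simp [W₂, C₂, variableChange_a₂]
  have g4 : W₂.a₄ = 0 := by
    have : W₂.a₄ = W₁.a₄ - ℓ * W₁.a₃ := by simp [W₂, C₂, variableChange_a₄]
    rw [this, hℓa]; ring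
  have g6 : W₂.a₆ = 0 := by
    have : W₂.a₆ = W₁.a₆ := by simp [W₂, C₂, variableChange_a₆]
    rw [this, a6]
  have m1 : v W₂.a₁ < 1 := by rw [g1]; exact lt_add v k1 (lt_mul_left v (le_natCast v _) vℓ)
  have m2 : v W₂.a₂ < 1 := by
    rw [g2]
    exact lt_sub v (lt_sub v k2 (lt_mul_left v vℓ.le k1)) (by rw [map_pow]; exact pow_lt_one' vℓ (by norm_num))
  have d1 : nx C₂ 0 = 0 := by simp [nx, C₂]
  have d2 : ny C₂ 0 0 = 0 := by simp [ny, C₂]
  have ns2 : W₂.toAffine.Nonsingular 0 0 := by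
    have := (nonsingular_iff' C₂ W₁ 0 0).mpr ns1
    rwa [d1, d2] at this
  have hP2 : ptMap C₂ W₁ (.some 0 0 ns1) = .some 0 0 ns2 := by
    rw [ptMap_some, Affine.Point.some.injEq]
    exact ⟨d1, d2⟩
  have red2 : ∀ j ∈ ({1, 2, 3, 4} : Set ℕ), Red v (j • (Affine.Point.some 0 0 ns2 : W₂.toAffine.Point)) := by
    intro j hj
    rw [← hP2, ← map_nsmul]
    exact red_ptMap v W₁ C₂ (by simp [C₂]) (by simp [C₂]) vℓ.le (by simp [C₂]) _ (red1 j hj)
  obtain ⟨e, g, w, ve, vg, vw, q1, q2, q3⟩ := normal_form v W₂ g4 g6 ns2 m1 m2 red2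
  have hmul : (C₂ * C₁) • W = W₂ := mul_smul _ _ _
  refine ⟨C₂ * C₁, ?_, e, g, w, ve, vg, vw, ?_⟩
  · simp [VariableChange.mul_def, C₁, C₂]
  · rw [hmul]
    exact ⟨q1, q2, q3, g4, g6⟩

end K820.Cusp
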