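import Groth.Agent.EllLift.K820.Rigid
import Mathlib.FieldTheory.IsAlgClosed.Basic

/-!
# Normal form of cuspidal Weierstrass equations

Over an algebraically closed field a Weierstrass equation with `Δ = c₄ = 0` becomes `y² = x³` after a change of
variables.
-/

set_option autoImplicit false

universe u

namespace K820.CuspNF

open WeierstrassCurve

variable {k : Type u} [Field k] [IsAlgClosed k] (W : WeierstrassCurve k)

theorem exists_cusp (hΔ : W.Δ = 0) (h4 : W.c₄ = 0) : ∃ C : VariableChange k, C.u = 1 ∧ (C • W).a₁ = 0 ∧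
    (C • W).a₂ = 0 ∧ (C • W).a₃ = 0 ∧ (C • W).a₄ = 0 ∧ (C • W).a₆ = 0 := by
  by_cases h2 : (2 : k) = 0
  · have ha1 : W.a₁ = 0 := by
      have : W.a₁ ^ 4 = 0 := by
        have e : W.a₁ ^ 4 = W.c₄ + 2 * (-4 * W.a₁ ^ 2 * W.a₂ - 8 * W.a₂ ^ 2 + 12 * W.b₄) := by
          simp only [c₄, b₂]; ring
        rw [e, h4, h2]; ring
      exact pow_eq_zero_iff (by norm_num) |>.mp this
    have ha3 : W.a₃ = 0 := by
      have : W.a₃ ^ 4 = 0 := by
        have e : W.a₃ ^ 4 = W.Δ + 2 * (14 * W.a₃ ^ 4 + 4 * 27 * W.a₃ ^ 2 * W.a₆ + 8 * 27 * W.a₆ ^ 2 + 4 * W.b₄ ^ 3)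
            + W.b₂ ^ 2 * W.b₈ - 9 * W.b₂ * W.b₄ * W.b₆ := by
          simp only [Δ, b₆]; ring
        have hb2 : W.b₂ = 0 := by
          have : W.b₂ = W.a₁ ^ 2 + 2 * (2 * W.a₂) := by simp only [b₂]; ring
          rw [this, ha1, h2]; ring
        rw [e, hΔ, h2, hb2]; ring
      exact pow_eq_zero_iff (by norm_num) |>.mp this
    obtain ⟨r, hr⟩ := IsAlgClosed.exists_pow_nat_eq W.a₄ (n := 2) (by norm_num)
    obtain ⟨s, hs⟩ := IsAlgClosed.exists_pow_nat_eq (W.a₂ + 3 * r) (n := 2) (by norm_num)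
    obtain ⟨t, ht⟩ := IsAlgClosed.exists_pow_nat_eq (W.a₆ + r * W.a₄ + r ^ 2 * W.a₂ + r ^ 3) (n := 2) (by norm_num)
    refine ⟨⟨1, r, s, t⟩, rfl, ?_, ?_, ?_, ?_, ?_⟩
    · simp [variableChange_a₁, ha1, h2]
    · simp only [variableChange_a₂, inv_one, Units.val_one, one_pow, one_mul]
      rw [ha1]
      linear_combination -hs
    · simp [variableChange_a₃, ha1, ha3, h2]
    · simp only [variableChange_a₄, inv_one, Units.val_one, one_pow, one_mul]
      rw [ha1, ha3]
      linear_combination 3 * hr + (2 * W.a₄ + r * W.a₂ - s * t) * h2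
    · simp only [variableChange_a₆, inv_one, Units.val_one, one_pow, one_mul]
      rw [ha1, ha3]
      linear_combination -ht
  · have key : ∀ r : k, W.b₂ + 12 * r = 0 → W.b₄ + r * W.b₂ + 6 * r ^ 2 = 0 →
        W.b₆ + 2 * r * W.b₄ + r ^ 2 * W.b₂ + 4 * r ^ 3 = 0 → ∃ C : VariableChange k, C.u = 1 ∧ (C • W).a₁ = 0 ∧
        (C • W).a₂ = 0 ∧ (C • W).a₃ = 0 ∧ (C • W).a₄ = 0 ∧ (C • W).a₆ = 0 := by
      intro r hb2 hb4 hb6
      let C : VariableChange k := ⟨1, r, -W.a₁ / 2, -(W.a₃ + r * W.a₁) / 2⟩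
      have c2 := variableChange_b₂ W C
      have c4 := variableChange_b₄ W C
      have c6 := variableChange_b₆ W C
      simp only [C, inv_one, Units.val_one, one_pow, one_mul] at c2 c4 c6
      rw [hb2] at c2
      rw [hb4] at c4
      rw [hb6] at c6
      have e1 : (C • W).a₁ = 0 := by
        simp only [C, variableChange_a₁, inv_one, Units.val_one, one_mul]
        field_simp
        ring
      have e3 : (C • W).a₃ = 0 := by
        simp only [C, variableChange_a₃, inv_one, Units.val_one, one_pow, one_mul]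
        field_simp
        ring
      have h22 : (4 : k) ≠ 0 := by
        have : (4 : k) = 2 * 2 := by norm_num
        rw [this]; exact mul_ne_zero h2 h2
      refine ⟨C, rfl, e1, ?_, e3, ?_, ?_⟩
      · change (C • W).b₂ = 0 at c2
        rw [b₂, e1] at c2
        apply mul_left_cancel₀ h22
        linear_combination c2
      · change (C • W).b₄ = 0 at c4
        rw [b₄, e1] at c4
        apply mul_left_cancel₀ h2
        linear_combination c4
      · change (C • W).b₆ = 0 at c6
        rw [b₆, e3] at c6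
        apply mul_left_cancel₀ h22
        linear_combination c6
    by_cases h3 : (3 : k) = 0
    · have hb2 : W.b₂ = 0 := by
        have : W.b₂ ^ 2 = 0 := by
          have e : W.b₂ ^ 2 = W.c₄ + 3 * (8 * W.b₄) := by simp only [c₄]; ring
          rw [e, h4, h3]; ring
        exact pow_eq_zero_iff (by norm_num) |>.mp this
      have hb4 : W.b₄ = 0 := by
        have : W.b₄ ^ 3 = 0 := by
          have e : W.b₄ ^ 3 = W.Δ + 3 * (3 * W.b₄ ^ 3 + 9 * W.b₆ ^ 2) + W.b₂ ^ 2 * W.b₈ - 9 * W.b₂ * W.b₄ * W.b₆ := by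
            simp only [Δ]; ring
          rw [e, hΔ, h3, hb2]; ring
        exact pow_eq_zero_iff (by norm_num) |>.mp this
      obtain ⟨r, hr⟩ := IsAlgClosed.exists_pow_nat_eq (-W.b₆) (n := 3) (by norm_num)
      refine key r ?_ ?_ ?_
      · rw [hb2]; linear_combination 4 * r * h3
      · rw [hb2, hb4]; linear_combination 2 * r ^ 2 * h3
      · rw [hb2, hb4]; linear_combination hr + r ^ 3 * h3
    · have h12 : (12 : k) ≠ 0 := by
        have : (12 : k) = 2 * (2 * 3) := by norm_num
        rw [this]; exact mul_ne_zero h2 (mul_ne_zero h2 h3)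
      obtain ⟨r, hr⟩ : ∃ r, r = -W.b₂ / 12 := ⟨_, rfl⟩
      have hr12 : 12 * r = -W.b₂ := by rw [hr]; field_simp
      have hb24 : 24 * (W.b₄ + r * W.b₂ + 6 * r ^ 2) = 0 := by
        have : W.b₂ ^ 2 - 24 * W.b₄ = 0 := h4
        linear_combination (12 * r + W.b₂) * hr12 - this
      have hb4 : W.b₄ + r * W.b₂ + 6 * r ^ 2 = 0 := by
        have h24 : (24 : k) ≠ 0 := by
          have : (24 : k) = 2 * 12 := by norm_num
          rw [this]; exact mul_ne_zero h2 h12
        exact (mul_eq_zero.mp hb24).resolve_left h24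
      refine key r (by linear_combination hr12) hb4 ?_
      -- `Δ` of the transformed curve
      let C : VariableChange k := ⟨1, r, 0, 0⟩
      have c2 := variableChange_b₂ W C
      have c4 := variableChange_b₄ W C
      have c6 := variableChange_b₆ W C
      have cΔ := variableChange_Δ W C
      simp only [C, inv_one, Units.val_one, one_pow, one_mul] at c2 c4 c6 cΔ
      rw [hΔ] at cΔ
      rw [hb4] at c4
      have c2' : ((⟨1, r, 0, 0⟩ : VariableChange k) • W).b₂ = 0 := by rw [c2]; linear_combination hr12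
      rw [Δ, c2', c4] at cΔ
      have h27 : (27 : k) ≠ 0 := by
        have : (27 : k) = 3 * (3 * 3) := by norm_num
        rw [this]; exact mul_ne_zero h3 (mul_ne_zero h3 h3)
      have h0 : 27 * ((⟨1, r, 0, 0⟩ : VariableChange k) • W).b₆ ^ 2 = 0 := by linear_combination -cΔ
      have h1 := (mul_eq_zero.mp h0).resolve_left h27
      rw [← c6]
      exact pow_eq_zero_iff (by norm_num) |>.mp h1

end K820.CuspNF
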