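import Groth.Agent.EllLift.K820.FamJ

/-!
# Fibrewise conditions for the normal form
-/

set_option autoImplicit false
universe u

open CategoryTheory CategoryTheory.Limits MonoidalCategory CartesianMonoidalCategory AlgebraicGeometry Opposite
open scoped MonObj

namespace K820.EW

open Groth.Agent.VarietyA.Ell (WEq WEqInf sc)
open Groth.Agent

section PullField

variable {A Ω : Type u} [CommRing A] [Field Ω] (φ : A →+* Ω) {X X' : Scheme.{u}} {g : X' ⟶ X}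
  {q' : X' ⟶ Spec (CommRingCat.of Ω)} {q : X ⟶ Spec (CommRingCat.of A)}
  (hP : IsPullback g q' q (Spec.map (CommRingCat.ofHom φ)))
  {e : Spec (CommRingCat.of A) ⟶ X} {U : X.Opens} (he : e ≫ q = 𝟙 _)
  {e' : Spec (CommRingCat.of Ω) ⟶ X'} (he' : e' ≫ q' = 𝟙 _)
  (hc : e' ≫ g = Spec.map (CommRingCat.ofHom φ) ≫ e)

include hP he he' hc in
/-- Base change of coordinates to a field. -/
theorem exists_pullField [IsIntegral X'] {W : WeierstrassCurve A} (c : Co W q e U)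
    (hne : Nonempty (g ⁻¹ᵁ U)) : ∃ c' : Co (W.map φ) q' e' (g ⁻¹ᵁ U),
      c'.c.x = g.app U c.c.x ∧ c'.c.y = g.app U c.c.y := by
  let d : WCo (W.map φ) q' (g ⁻¹ᵁ U) (g ⁻¹ᵁ c.V) := c.c.pull φ g q' hP.w
  have heV' := top_le_pull φ hc c.heV
  have hw0 : ev e' (g ⁻¹ᵁ c.V) heV' (g.app c.V c.c.w) = 0 := by
    rw [ev_app e hc c.V c.heV, c.hw0, map_zero]
  have hz0 : ev e' (g ⁻¹ᵁ c.V) heV' (g.app c.V c.c.z) = 0 := by
    rw [ev_app e hc c.V c.heV, c.hz0, map_zero]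
  obtain ⟨p⟩ : Nonempty (Spec (CommRingCat.of Ω)) := inferInstanceAs (Nonempty (PrimeSpectrum Ω))
  have hneV : Nonempty (g ⁻¹ᵁ c.V) := ⟨⟨e' p, heV' (x := p) trivial⟩⟩
  have hreg : g.app c.V c.c.z ∈ nonZeroDivisors Γ(X', g ⁻¹ᵁ c.V) := by
    apply mem_nonZeroDivisors_of_ne_zero
    intro h0
    have h1 := d.eqV
    have h2 : d.z = 0 := h0
    unfold WEqInf at h1
    rw [h2] at h1
    have h3 : d.w * (1 + sc q' (g ⁻¹ᵁ c.V) (W.map φ).a₃ * d.w - sc q' (g ⁻¹ᵁ c.V) (W.map φ).a₆ * d.w ^ 2) = 0 := by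
      linear_combination h1
    rcases mul_eq_zero.mp h3 with h4 | h4
    · have h5 := d.rel_w
      rw [h4, map_zero, zero_mul] at h5
      obtain ⟨⟨y, hy⟩⟩ := hne
      obtain ⟨⟨y', hy'⟩⟩ := hneV
      have hgU : genericPoint X' ∈ g ⁻¹ᵁ U :=
        ((genericPoint_spec X').mem_open_set_iff (g ⁻¹ᵁ U).2).mpr ⟨y, trivial, hy⟩
      have hgV : genericPoint X' ∈ g ⁻¹ᵁ c.V :=
        ((genericPoint_spec X').mem_open_set_iff (g ⁻¹ᵁ c.V).2).mpr ⟨y', trivial, hy'⟩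
      have hneUV : Nonempty ((g ⁻¹ᵁ U) ⊓ (g ⁻¹ᵁ c.V) : X'.Opens) := ⟨⟨_, hgU, hgV⟩⟩
      exact zero_ne_one h5
    · have h5 := congrArg (ev e' (g ⁻¹ᵁ c.V) heV') h4
      have h6 : ev e' (g ⁻¹ᵁ c.V) heV' d.w = 0 := hw0
      simp only [map_sub, map_add, map_mul, map_pow, map_one, map_zero, h6] at h5
      norm_num at h5
  exact ⟨⟨g ⁻¹ᵁ c.V, isAffineOpen_preimage hP c.hV, heV', compl_pull φ hP he he' hc c.hU, d,
    fun b hb => dvd_of_ev_eq_zero hP e he e' he' hc c.hV c.heV heV' c.c.z c.hz b hb, hz0, hw0, hreg⟩, rfl, rfl⟩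

end PullField

set_option linter.unusedSectionVars false

variable {S : Scheme.{u}} (J : Over S) [GrpObj J]

/-- The unit section of a base change. -/
theorem one_left {Ω : Type u} [Field Ω] (t : Spec (CommRingCat.of Ω) ⟶ S) :
    (show Spec (CommRingCat.of Ω) ⟶ XJ J t from (η[Red.bc t J] : 𝟙_ (Over (Spec (CommRingCat.of Ω))) ⟶ Red.bc t J).left) =
      secJ J t η[J] := by
  have h0 : (η[Red.bc t J] : 𝟙_ (Over (Spec (CommRingCat.of Ω))) ⟶ Red.bc t J) = 1 := MonObj.one_eq_one _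
  apply secJ_unique
  · exact Over.w η[Red.bc t J]
  · have h1 := Sga3B.RadOpen.ptEquiv_left t (1 : 𝟙_ (Over (Spec (CommRingCat.of Ω))) ⟶ Red.bc t J)
    have h2 : Sga3B.RadOpen.ptEquiv t J 1 = 1 := (Sga3B.RadOpen.ptMulEquiv t J).map_one
    rw [h2] at h1
    rw [h0]
    refine h1.symm.trans ?_
    rfl

/-- A section of the base change to a field, as a point. -/
noncomputable def ptJ {Ω : Type u} [Field Ω] (t : Spec (CommRingCat.of Ω) ⟶ S) (σ : 𝟙_ (Over S) ⟶ J) :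
    𝟙_ (Over (Spec (CommRingCat.of Ω))) ⟶ Red.bc t J :=
  Over.homMk (secJ J t σ) (secJ_q J t σ)

theorem ptJ_comp {Ω : Type u} [Field Ω] (t : Spec (CommRingCat.of Ω) ⟶ S) (σ : 𝟙_ (Over S) ⟶ J) :
    (ptJ J t σ).left ≫ pullback.fst J.hom t = t ≫ (show S ⟶ J.left from σ.left) := secJ_g J t σ

theorem exists_field_point {A : Type u} [CommRing A] (s : PrimeSpectrum A) :
    ∃ (Ω : Type u) (_ : Field Ω) (_ : IsAlgClosed Ω) (φ : A →+* Ω), RingHom.ker φ = s.asIdeal := by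
  refine ⟨AlgebraicClosure s.asIdeal.ResidueField, inferInstance, inferInstance,
    (algebraMap s.asIdeal.ResidueField (AlgebraicClosure s.asIdeal.ResidueField)).comp
      (algebraMap A s.asIdeal.ResidueField), ?_⟩
  ext a
  rw [RingHom.mem_ker, RingHom.comp_apply, map_eq_zero]
  exact Ideal.algebraMap_residueField_eq_zero

variable (hJ : AgPol.IsAbSch J 1) {σ₀ σ₁ : 𝟙_ (Over S) ⟶ J}

include hJ in
/-- A section which is nontrivial on geometric fibres does not meet the unit section. -/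
theorem top_le_of_ne {A : Type u} [CommRing A] (j : Spec (CommRingCat.of A) ⟶ S) (σ : 𝟙_ (Over S) ⟶ J)
    (hσ : ∀ (Ω : Type u) [Field Ω] [IsAlgClosed Ω] (t : Spec (CommRingCat.of Ω) ⟶ S), ptJ J t σ ≠ 1) :
    ⊤ ≤ secJ J j σ ⁻¹ᵁ cU (secJ J j η[J]) := by
  have h1 := hJ.proper
  intro s _
  change secJ J j σ s ∈ cU _
  rw [mem_cU]
  rintro ⟨s', hs'⟩
  have hss : s' = s := by
    have e1 : qJ J j (secJ J j η[J] s') = s' := by
      rw [← Scheme.Hom.comp_apply, secJ_q]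
      rfl
    have e2 : qJ J j (secJ J j σ s) = s := by
      rw [← Scheme.Hom.comp_apply, secJ_q]
      rfl
    rw [← e1, hs', e2]
  subst hss
  obtain ⟨Ω, _, _, φ, hφ⟩ := exists_field_point s'
  let t : Spec (CommRingCat.of Ω) ⟶ S := Spec.map (CommRingCat.ofHom φ) ≫ j
  have hpt : Spec.map (CommRingCat.ofHom φ) (IsLocalRing.closedPoint Ω) = s' := by
    apply PrimeSpectrum.ext
    change Ideal.comap φ (IsLocalRing.maximalIdeal Ω) = s'.asIdeal
    rw [← hφ, IsLocalRing.maximalIdeal_eq_bot]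
    rfl
  apply hσ Ω t
  have hlft : LocallyOfFiniteType (Red.bc t J).hom :=
    MorphismProperty.of_isPullback (P := @LocallyOfFiniteType) (IsPullback.of_hasPullback J.hom t) inferInstance
  have hone : (1 : 𝟙_ (Over (Spec (CommRingCat.of Ω))) ⟶ Red.bc t J) = η[Red.bc t J] :=
    (MonObj.one_eq_one _).symm
  rw [hone]
  apply FieldGrp.point_ext
  change secJ J t σ _ = (show Spec (CommRingCat.of Ω) ⟶ XJ J t from
    (η[Red.bc t J] : 𝟙_ (Over (Spec (CommRingCat.of Ω))) ⟶ Red.bc t J).left) _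
  rw [one_left]
  have hmem' : ∀ z : Spec (CommRingCat.of Ω), Spec.map (CommRingCat.ofHom φ) z = s' →
      ¬ (secJ J t σ z) ∈ mapJ J φ j t rfl ⁻¹ᵁ cU (secJ J j η[J]) := by
    intro z hz
    change ¬ mapJ J φ j t rfl (secJ J t σ z) ∈ cU _
    rw [← Scheme.Hom.comp_apply, secJ_map, Scheme.Hom.comp_apply, hz, mem_cU, not_not]
    exact ⟨_, hs'⟩
  have hmem := hmem' _ hpt
  rw [compl_pull φ (isPullback_mapJ J φ j t rfl) (secJ_q J j η[J]) (secJ_q J t η[J])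
    (secJ_map J φ j t rfl η[J]) (mem_cU _), not_not] at hmem
  obtain ⟨p', hp'⟩ := hmem
  rw [← hp']
  congr 1
  exact Subsingleton.elim (α := PrimeSpectrum Ω) _ _

include hJ in
/-- **The fibrewise conditions for the normal form.** -/
theorem isUnit_of_good (hgood : LevelGrp.Good J σ₀ σ₁) {A : Type u} [CommRing A] (j : Spec (CommRingCat.of A) ⟶ S)
    {W : WeierstrassCurve A} (c : Co W (qJ J j) (secJ J j η[J]) (cU (secJ J j η[J])))
    (h0 : ⊤ ≤ secJ J j σ₀ ⁻¹ᵁ cU (secJ J j η[J])) (h1 : ⊤ ≤ secJ J j σ₁ ⁻¹ᵁ cU (secJ J j η[J])) :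
    IsUnit (2 * ev (secJ J j σ₀) _ h0 c.c.y + W.a₁ * ev (secJ J j σ₀) _ h0 c.c.x + W.a₃) ∧
      IsUnit (ev (secJ J j σ₁) _ h1 c.c.x - ev (secJ J j σ₀) _ h0 c.c.x) := by
  have hJp := hJ.proper
  -- reduction to geometric fibres
  have key : ∀ (Ω : Type u) [Field Ω] [IsAlgClosed Ω] (φ : A →+* Ω),
      φ (2 * ev (secJ J j σ₀) _ h0 c.c.y + W.a₁ * ev (secJ J j σ₀) _ h0 c.c.x + W.a₃) ≠ 0 ∧
      φ (ev (secJ J j σ₁) _ h1 c.c.x - ev (secJ J j σ₀) _ h0 c.c.x) ≠ 0 := by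
    intro Ω _ _ φ
    let t : Spec (CommRingCat.of Ω) ⟶ S := Spec.map (CommRingCat.ofHom φ) ≫ j
    let G := Red.bc t J
    have hG : AgPol.IsAbSch G 1 := isAbSch_bc J hJ t
    have hint : IsIntegral (XJ J t) := (FieldGrp.isIntegral_left G hG).1
    obtain ⟨g1, g2, g3, g4, g5⟩ := hgood Ω t (ptJ J t σ₀) (ptJ J t σ₁) (ptJ_comp J t σ₀) (ptJ_comp J t σ₁)
    have hP := isPullback_mapJ J φ j t rfl
    have hp0 : ⊤ ≤ secJ J t σ₀ ⁻¹ᵁ (mapJ J φ j t rfl ⁻¹ᵁ cU (secJ J j η[J])) :=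
      top_le_pull φ (secJ_map J φ j t rfl σ₀) h0
    have hp1 : ⊤ ≤ secJ J t σ₁ ⁻¹ᵁ (mapJ J φ j t rfl ⁻¹ᵁ cU (secJ J j η[J])) :=
      top_le_pull φ (secJ_map J φ j t rfl σ₁) h1
    have hne : Nonempty (mapJ J φ j t rfl ⁻¹ᵁ cU (secJ J j η[J])) :=
      ⟨⟨secJ J t σ₀ (IsLocalRing.closedPoint Ω), hp0 (x := _) trivial⟩⟩
    have hex := exists_pullField φ hP (secJ_q J j η[J]) (secJ_q J t η[J]) (secJ_map J φ j t rfl η[J]) c hne
    rw [← one_left] at hex
    obtain ⟨c', hx, hy⟩ := hex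
    have e0x : ev (ptJ J t σ₀).left _ hp0 c'.c.x = φ (ev (secJ J j σ₀) _ h0 c.c.x) := by
      rw [hx]
      exact ev_app (secJ J j σ₀) (secJ_map J φ j t rfl σ₀) _ h0 hp0 _
    have e0y : ev (ptJ J t σ₀).left _ hp0 c'.c.y = φ (ev (secJ J j σ₀) _ h0 c.c.y) := by
      rw [hy]
      exact ev_app (secJ J j σ₀) (secJ_map J φ j t rfl σ₀) _ h0 hp0 _
    have e1x : ev (ptJ J t σ₁).left _ hp1 c'.c.x = φ (ev (secJ J j σ₁) _ h1 c.c.x) := by
      rw [hx]
      exact ev_app (secJ J j σ₁) (secJ_map J φ j t rfl σ₁) _ h1 hp1 _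
    have hq := Genus.ellFib G hG
    have hs : Smooth (qJ J t) := hG.smooth
    have hpr : IsProper (qJ J t) := hG.proper
    have hiso : IsIso c'.hom := c'.isIso_hom hq (Over.w η[G])
    obtain ⟨hP', i1, i2⟩ := FieldGrp.exists_inv G hG c' (ptJ J t σ₀) hp0
    constructor
    · intro h
      apply g3
      have e3 : (ptJ J t σ₀)⁻¹ = ptJ J t σ₀ := by
        apply Over.OverMorphism.ext
        refine eq_of_coords c' _ _ (Over.w _) (Over.w _) hP' hp0 i1 ?_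
        rw [i2]
        have h2 : (W.map φ).a₁ = φ W.a₁ := rfl
        have h3 : (W.map φ).a₃ = φ W.a₃ := rfl
        simp only [map_add, map_mul, map_ofNat] at h
        rw [e0x, e0y, h2, h3]
        linear_combination -h
      have e4 : (ptJ J t σ₀) * (ptJ J t σ₀) = (ptJ J t σ₀) * (ptJ J t σ₀)⁻¹ := by rw [e3]
      rw [e4, mul_inv_cancel]
    · intro h
      rw [map_sub, sub_eq_zero] at h
      have hw0 := wEq_ev c'.c (ptJ J t σ₀).left (Over.w _) hp0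
      have hw1 := wEq_ev c'.c (ptJ J t σ₁).left (Over.w _) hp1
      have hxx : ev (ptJ J t σ₁).left _ hp1 c'.c.x = ev (ptJ J t σ₀).left _ hp0 c'.c.x := by
        rw [e1x, e0x, h]
      unfold WEq at hw0 hw1
      simp only [RingHom.id_apply] at hw0 hw1
      rw [hxx] at hw1
      have hprod : (ev (ptJ J t σ₁).left _ hp1 c'.c.y - ev (ptJ J t σ₀).left _ hp0 c'.c.y) *
          (ev (ptJ J t σ₁).left _ hp1 c'.c.y + ev (ptJ J t σ₀).left _ hp0 c'.c.y +
            (W.map φ).a₁ * ev (ptJ J t σ₀).left _ hp0 c'.c.x + (W.map φ).a₃) = 0 := by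
        linear_combination hw1 - hw0
      rcases mul_eq_zero.mp hprod with h2 | h2
      · apply g4
        apply Over.OverMorphism.ext
        exact eq_of_coords c' _ _ (Over.w _) (Over.w _) hp1 hp0 hxx (sub_eq_zero.mp h2)
      · apply g5
        have e3 : ptJ J t σ₁ = (ptJ J t σ₀)⁻¹ := by
          apply Over.OverMorphism.ext
          refine eq_of_coords c' _ _ (Over.w _) (Over.w _) hp1 hP' (hxx.trans i1.symm) ?_
          rw [i2]
          linear_combination h2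
        rw [e3, inv_mul_cancel]
  have main : ∀ a : A, (∀ (Ω : Type u) [Field Ω] [IsAlgClosed Ω] (φ : A →+* Ω), φ a ≠ 0) → IsUnit a := by
    intro a ha
    by_contra hcon
    obtain ⟨m, hm, ham⟩ := exists_max_ideal_of_mem_nonunits hcon
    obtain ⟨Ω, _, _, φ, hφ⟩ := exists_field_point (⟨m, hm.isPrime⟩ : PrimeSpectrum A)
    apply ha Ω φ
    rw [← RingHom.mem_ker, hφ]
    exact ham
  exact ⟨main _ fun Ω _ _ φ => (key Ω φ).1, main _ fun Ω _ _ φ => (key Ω φ).2⟩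

end K820.EW
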