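import Groth.Agent.EllLift.K820.FamNorm
import Groth.Agent.EllLift.K820.BcComp

/-!
# The global Weierstrass model of a family with level structure
-/

set_option autoImplicit false
universe u

open CategoryTheory CategoryTheory.Limits MonoidalCategory CartesianMonoidalCategory AlgebraicGeometry Opposite
open scoped MonObj

namespace K820.EW

open Groth.Agent.VarietyA.Ell (WEq WEqInf sc)
open Groth.Agent

/-- The inclusion of an affine open. -/
noncomputable abbrev jT {S : Scheme.{u}} {T : S.Opens} (hT : IsAffineOpen T) : Spec (CommRingCat.of Γ(S, T)) ⟶ S :=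
  hT.fromSpec

/-- The restriction map. -/
noncomputable abbrev rT {S : Scheme.{u}} {T T' : S.Opens} (h : T' ≤ T) : Γ(S, T) →+* Γ(S, T') :=
  (S.presheaf.map (homOfLE h).op).hom

theorem rT_jT {S : Scheme.{u}} {T T' : S.Opens} (h : T' ≤ T) (hT : IsAffineOpen T) (hT' : IsAffineOpen T') :
    Spec.map (CommRingCat.ofHom (rT h)) ≫ jT hT = jT hT' := hT.map_fromSpec hT' (homOfLE h).op

theorem rT_comp {S : Scheme.{u}} {T T' T'' : S.Opens} (h : T' ≤ T) (h' : T'' ≤ T') :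
    (rT h').comp (rT h) = rT (h'.trans h) := by
  have h1 : S.presheaf.map (homOfLE h).op ≫ S.presheaf.map (homOfLE h').op =
    S.presheaf.map (homOfLE (h'.trans h)).op := by
    rw [← S.presheaf.map_comp]
    rfl
  exact congrArg CommRingCat.Hom.hom h1

theorem rT_flat {S : Scheme.{u}} {T T' : S.Opens} (h : T' ≤ T) (hT : IsAffineOpen T) (hT' : IsAffineOpen T') :
    (rT h).Flat := by
  have h3 : Flat (Spec.map (CommRingCat.ofHom (rT h))) := by
    have h4 : IsOpenImmersion (Spec.map (CommRingCat.ofHom (rT h)) ≫ jT hT) := by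
      rw [rT_jT h hT hT']
      exact inferInstanceAs (IsOpenImmersion hT'.fromSpec)
    have h6 : IsOpenImmersion (jT hT) := inferInstanceAs (IsOpenImmersion hT.fromSpec)
    have h5 : IsOpenImmersion (Spec.map (CommRingCat.ofHom (rT h))) := IsOpenImmersion.of_comp _ (jT hT)
    infer_instance
  rwa [Flat.SpecMap_iff] at h3

theorem jT_toSpecΓ {S : Scheme.{u}} {T : S.Opens} (hT : IsAffineOpen T) :
    jT hT ≫ S.toSpecΓ = Spec.map (CommRingCat.ofHom (rT (le_top : T ≤ ⊤))) := hT.fromSpec_toSpecΓ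

variable {S : Scheme.{u}} {J : Over S} [GrpObj J] {σ₀ σ₁ : 𝟙_ (Over S) ⟶ J}

/-- The basis of affine opens over which there are normalised coordinates. -/
def nBasis (hJ : AgPol.IsAbSch J 1) (hgood : LevelGrp.Good J σ₀ σ₁) : ABasis S where
  P T := ∃ (hT : IsAffineOpen T) (W : WeierstrassCurve Γ(S, T)) (c : CoJ J (jT hT) W),
    Norm c (secJ J (jT hT) σ₀) (secJ J (jT hT) σ₁)
  aff := fun ⟨hT, _⟩ => hT
  mono := by
    rintro T T' ⟨hT, W, c, n⟩ hT' hle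
    have := hJ.proper
    obtain ⟨c', n', -⟩ := exists_map J σ₀ σ₁ (rT hle) (jT hT) (jT hT') (rT_jT hle hT hT') (rT_flat hle hT hT') c n
    exact ⟨hT', _, c', n'⟩
  ex := by
    intro s
    obtain ⟨T, hT, hs, W, c, n⟩ := exists_norm_local hJ hgood s
    exact ⟨T, ⟨hT, W, c, n⟩, hs⟩

section Map

theorem W_ext {A : Type u} [CommRing A] {W W' : WeierstrassCurve A} (h1 : W.a₁ = W'.a₁) (h2 : W.a₂ = W'.a₂)
    (h3 : W.a₃ = W'.a₃) (h4 : W.a₄ = W'.a₄) (h6 : W.a₆ = W'.a₆) : W = W' :=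
  WeierstrassCurve.ext h1 h2 h3 h4 h6

end Map

theorem exists_W (hJ : AgPol.IsAbSch J 1) (hgood : LevelGrp.Good J σ₀ σ₁) :
    ∃ W : WeierstrassCurve Γ(S, ⊤), ∀ (T : S.Opens) (hT : (nBasis hJ hgood).P T),
      ∃ c : CoJ J (jT ((nBasis hJ hgood).aff hT)) (W.map (rT (le_top : T ≤ ⊤))),
        Norm c (secJ J (jT ((nBasis hJ hgood).aff hT)) σ₀) (secJ J (jT ((nBasis hJ hgood).aff hT)) σ₁) := by
  have hJp := hJ.proper
  set b := nBasis hJ hgood with hb
  have hch : ∀ (T : S.Opens) (hT : b.P T), ∃ (W : WeierstrassCurve Γ(S, T)) (c : CoJ J (jT (b.aff hT)) W),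
    Norm c (secJ J (jT (b.aff hT)) σ₀) (secJ J (jT (b.aff hT)) σ₁) := by
    rintro T ⟨hT, W, c, n⟩
    exact ⟨W, c, n⟩
  choose w c n using hch
  have hw : ∀ (T T' : S.Opens) (hT : b.P T) (hT' : b.P T') (h : T' ≤ T), w T' hT' = (w T hT).map (rT h) := by
    intro T T' hT hT' h
    obtain ⟨c', n', -⟩ := exists_map J σ₀ σ₁ (rT h) (jT (b.aff hT)) (jT (b.aff hT'))
      (rT_jT h (b.aff hT) (b.aff hT')) (rT_flat h (b.aff hT) (b.aff hT')) (c T hT) (n T hT)
    exact (norm_unique hJ (n T' hT') n').1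
  obtain ⟨a1, h1⟩ := b.exists_section (fun T hT => (w T hT).a₁)
    (fun T T' hT hT' h => congrArg WeierstrassCurve.a₁ (hw T T' hT hT' h).symm)
  obtain ⟨a2, h2⟩ := b.exists_section (fun T hT => (w T hT).a₂)
    (fun T T' hT hT' h => congrArg WeierstrassCurve.a₂ (hw T T' hT hT' h).symm)
  obtain ⟨a3, h3⟩ := b.exists_section (fun T hT => (w T hT).a₃)
    (fun T T' hT hT' h => congrArg WeierstrassCurve.a₃ (hw T T' hT hT' h).symm)
  obtain ⟨a4, h4⟩ := b.exists_section (fun T hT => (w T hT).a₄)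
    (fun T T' hT hT' h => congrArg WeierstrassCurve.a₄ (hw T T' hT hT' h).symm)
  obtain ⟨a6, h6⟩ := b.exists_section (fun T hT => (w T hT).a₆)
    (fun T T' hT hT' h => congrArg WeierstrassCurve.a₆ (hw T T' hT hT' h).symm)
  refine ⟨⟨a1, a2, a3, a4, a6⟩, fun T hT => ?_⟩
  have hW : (⟨a1, a2, a3, a4, a6⟩ : WeierstrassCurve Γ(S, ⊤)).map (rT (le_top : T ≤ ⊤)) = w T hT :=
    W_ext (h1 T hT) (h2 T hT) (h3 T hT) (h4 T hT) (h6 T hT)
  rw [hW]
  exact ⟨c T hT, n T hT⟩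

/-- **The global Weierstrass model.** -/
theorem exists_model (hJ : AgPol.IsAbSch J 1) (hgood : LevelGrp.Good J σ₀ σ₁) :
    ∃ (W : WeierstrassCurve Γ(S, ⊤)) (Ψ : J.left ⟶ E W), IsPullback Ψ J.hom (str W) S.toSpecΓ ∧
      (show S ⟶ J.left from (η[J] : 𝟙_ (Over S) ⟶ J).left) ≫ Ψ = S.toSpecΓ ≫ zero W ∧
      ∀ (T : S.Opens) (hT : (nBasis hJ hgood).P T),
        ∃ c : CoJ J (jT ((nBasis hJ hgood).aff hT)) (W.map (rT (le_top : T ≤ ⊤))),
        Norm c (secJ J (jT ((nBasis hJ hgood).aff hT)) σ₀) (secJ J (jT ((nBasis hJ hgood).aff hT)) σ₁) ∧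
        gJ J (jT ((nBasis hJ hgood).aff hT)) ≫ Ψ = c.hom ≫ bc W (rT (le_top : T ≤ ⊤)) := by
  have hJp := hJ.proper
  obtain ⟨W, hW⟩ := exists_W hJ hgood
  set b := nBasis hJ hgood with hb
  choose c n using hW
  let ψ : ∀ (T : S.Opens) (hT : b.P T), (XJ J (jT (b.aff hT)) ⟶ E W) := fun T hT =>
    (c T hT).hom ≫ bc W (rT (le_top : T ≤ ⊤))
  have hψ : ∀ (T T' : S.Opens) (hT : b.P T) (hT' : b.P T') (_ : T' ≤ T)
      (m : XJ J (jT (b.aff hT')) ⟶ XJ J (jT (b.aff hT)))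
      (_ : m ≫ pullback.fst _ _ = pullback.fst _ _), m ≫ ψ T hT = ψ T' hT' := by
    intro T T' hT hT' h m hm
    have hm' : m = mapJ J (rT h) (jT (b.aff hT)) (jT (b.aff hT')) (rT_jT h (b.aff hT) (b.aff hT')) := by
      have h6 : IsOpenImmersion (jT (b.aff hT)) := inferInstanceAs (IsOpenImmersion (b.aff hT).fromSpec)
      rw [← cancel_mono (pullback.fst J.hom (jT (b.aff hT))), hm]
      exact (mapJ_g J (rT h) (jT (b.aff hT)) (jT (b.aff hT')) (rT_jT h (b.aff hT) (b.aff hT'))).symm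
    rw [hm']
    obtain ⟨c', n', h'⟩ := exists_map J σ₀ σ₁ (rT h) (jT (b.aff hT)) (jT (b.aff hT'))
      (rT_jT h (b.aff hT) (b.aff hT')) (rT_flat h (b.aff hT) (b.aff hT')) (c T hT) (n T hT)
    have key : ∀ (ρ : Γ(S, ⊤) →+* Γ(S, T')) (_ : ρ = (rT h).comp (rT (le_top : T ≤ ⊤)))
        (d : CoJ J (jT (b.aff hT')) (W.map ρ)) (_ : Norm d (secJ J (jT (b.aff hT')) σ₀) (secJ J (jT (b.aff hT')) σ₁)),
        mapJ J (rT h) (jT (b.aff hT)) (jT (b.aff hT')) (rT_jT h (b.aff hT) (b.aff hT')) ≫ (c T hT).hom ≫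
          bc W (rT (le_top : T ≤ ⊤)) = d.hom ≫ bc W ρ := by
      rintro _ rfl d nd
      rw [← Category.assoc, ← h', Category.assoc]
      have h1 := bc_comp W (rT (le_top : T ≤ ⊤)) (rT h)
      have h2 : c'.hom = d.hom := eq_of_heq (norm_unique hJ n' nd).2
      rw [← h1, h2]
      rfl
    exact key _ (rT_comp (le_top : T ≤ ⊤) h).symm (c T' hT') (n T' hT')
  obtain ⟨Ψ, hΨ⟩ := b.exists_hom J.hom ψ hψ
  have hΨ' : ∀ (T : S.Opens) (hT : b.P T), gJ J (jT (b.aff hT)) ≫ Ψ = ψ T hT := hΨ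
  refine ⟨W, Ψ, ?_, ?_, fun T hT => ⟨c T hT, n T hT, hΨ' T hT⟩⟩
  · refine IsPullback.flip (Scheme.isPullback_of_openCover J.hom Ψ S.toSpecΓ (str W) b.cover ?_)
    rintro ⟨T, hT⟩
    change IsPullback (qJ J (jT (b.aff hT))) (gJ J (jT (b.aff hT)) ≫ Ψ) (jT (b.aff hT) ≫ S.toSpecΓ) (str W)
    rw [hΨ', jT_toSpecΓ]
    have h1 := proper_qJ J (jT (b.aff hT)) hJ
    have h2 := smooth_qJ J (jT (b.aff hT)) hJ
    have h3 : IsIso (c T hT).hom := (c T hT).isIso_hom (ellFib_qJ J (jT (b.aff hT)) hJ) (secJ_q J _ η[J])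
    have h4 := (isPullback_bc W (rT (le_top : T ≤ ⊤))).flip
    refine IsPullback.of_iso h4 (asIso (c T hT).hom).symm (Iso.refl _) (Iso.refl _) (Iso.refl _) ?_ ?_ ?_ ?_
    · rw [Iso.refl_hom, Category.comp_id, Iso.symm_hom, asIso_inv, IsIso.eq_inv_comp]
      exact (c T hT).hom_str
    · rw [Iso.refl_hom, Category.comp_id, Iso.symm_hom, asIso_inv, IsIso.eq_inv_comp]
    · rw [Iso.refl_hom, Iso.refl_hom, Category.comp_id, Category.id_comp]
    · rw [Iso.refl_hom, Iso.refl_hom, Category.comp_id, Category.id_comp]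
  · apply b.cover.hom_ext
    rintro ⟨T, hT⟩
    change jT (b.aff hT) ≫ _ = jT (b.aff hT) ≫ _
    have h1 : jT (b.aff hT) ≫ (show S ⟶ J.left from (η[J] : 𝟙_ (Over S) ⟶ J).left) =
      secJ J (jT (b.aff hT)) η[J] ≫ gJ J (jT (b.aff hT)) := (secJ_g J _ η[J]).symm
    rw [← Category.assoc, h1, Category.assoc, hΨ', ← Category.assoc (jT _), jT_toSpecΓ, ← zero_bc]
    change _ ≫ (c T hT).hom ≫ _ = _
    rw [← Category.assoc, (c T hT).comp_hom (secJ_q J _ η[J])]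

end K820.EW
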