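import Groth.Agent.EllLift.K820.FieldGrp
import Groth.Agent.EllLift.K820.AbSchBC
import Groth.Agent.Sga3B.RadOpen.KPts

/-!
# Points of a level structure on geometric fibres
-/

set_option autoImplicit false
universe u

open CategoryTheory CategoryTheory.Limits MonoidalCategory CartesianMonoidalCategory AlgebraicGeometry Opposite
open scoped MonObj

namespace K820.LevelGrp

open Groth.Agent K820.EW

/-- Two elements of order dividing `n ≥ 3` in a commutative group generating a subgroup of order `n ^ 2`. -/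
theorem grp {A : Type u} [CommGroup A] {p r : A} {n : ℕ} (hn : 3 ≤ n) (hp : p ^ n = 1) (hr : r ^ n = 1)
    (hcard : Nat.card (Subgroup.closure {p, r}) = n ^ 2) :
    p ≠ 1 ∧ r ≠ 1 ∧ p * p ≠ 1 ∧ r ≠ p ∧ r * p ≠ 1 := by
  have hn0 : 0 < n := by omega
  -- the general bound
  have key : ∀ (a b : A) (k : ℕ), 0 < k → a ^ k = 1 → b ^ n = 1 →
      Nat.card (Subgroup.closure {a, b}) ≤ k * n := by
    intro a b k hk ha hb
    let f : Fin k × Fin n → A := fun z => a ^ (z.1 : ℕ) * b ^ (z.2 : ℕ)
    have h1 : (Subgroup.closure {a, b} : Set A) ⊆ Set.range f := by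
      intro z hz
      obtain ⟨i, j, rfl⟩ := Subgroup.mem_closure_pair.mp hz
      have hi : a ^ i = a ^ (i % k).toNat := by
        conv_lhs => rw [← Int.mul_ediv_add_emod i k]
        rw [zpow_add, zpow_mul, zpow_natCast, ha, one_zpow, one_mul, ← zpow_natCast,
          Int.toNat_of_nonneg (Int.emod_nonneg _ (by omega))]
      have hj : b ^ j = b ^ (j % n).toNat := by
        conv_lhs => rw [← Int.mul_ediv_add_emod j n]
        rw [zpow_add, zpow_mul, zpow_natCast, hb, one_zpow, one_mul, ← zpow_natCast,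
          Int.toNat_of_nonneg (Int.emod_nonneg _ (by omega))]
      have hi2 : (i % k).toNat < k := by
        have := Int.emod_lt_of_pos i (by omega : (0 : ℤ) < k)
        omega
      have hj2 : (j % n).toNat < n := by
        have := Int.emod_lt_of_pos j (by omega : (0 : ℤ) < n)
        omega
      exact ⟨(⟨_, hi2⟩, ⟨_, hj2⟩), by simp only [f]; rw [hi, hj]⟩
    have h2 : (Set.range f).ncard ≤ k * n := by
      have := Set.ncard_image_le (s := (Set.univ : Set (Fin k × Fin n))) (f := f) Set.finite_univ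
      rw [Set.image_univ, Set.ncard_univ, Nat.card_eq_fintype_card] at this
      simpa using this
    have h3 : (Subgroup.closure {a, b} : Set A).ncard ≤ (Set.range f).ncard :=
      Set.ncard_le_ncard h1 (Set.finite_range f)
    exact h3.trans h2
  have hlt : ∀ k, k < n → ¬ n ^ 2 ≤ k * n := by
    intro k hk h
    have : k * n < n * n := Nat.mul_lt_mul_of_pos_right hk hn0
    rw [pow_two] at h
    omega
  -- the second generator is redundant
  have key2 : ∀ r' : A, r' ∈ Subgroup.closure {p} → Nat.card (Subgroup.closure {p, r'}) ≤ 1 * n := by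
    intro r' h
    have h1 : Subgroup.closure {p, r'} = Subgroup.closure {(1 : A), p} := by
      apply le_antisymm
      · rw [Subgroup.closure_le]
        have hp1 : p ∈ Subgroup.closure {(1 : A), p} := Subgroup.subset_closure (by simp)
        rintro z (rfl | rfl)
        · exact hp1
        · exact (Subgroup.closure_mono (by simp) : Subgroup.closure {p} ≤ Subgroup.closure {(1 : A), p}) h
      · rw [Subgroup.closure_le]
        rintro z (rfl | rfl)
        · exact Subgroup.one_mem _
        · exact Subgroup.subset_closure (by simp)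
    rw [h1]
    exact key 1 p 1 one_pos (one_pow _) hp
  refine ⟨?_, ?_, ?_, ?_, ?_⟩
  · rintro rfl
    have := key 1 r 1 one_pos (one_pow _) hr
    rw [hcard] at this
    exact hlt 1 (by omega) this
  · rintro rfl
    have := key2 1 (Subgroup.one_mem _)
    rw [hcard] at this
    exact hlt 1 (by omega) this
  · intro h
    have := key p r 2 two_pos (by rw [pow_two, h]) hr
    rw [hcard] at this
    exact hlt 2 (by omega) this
  · rintro rfl
    have := key2 r (Subgroup.subset_closure (by simp))
    rw [hcard] at this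
    exact hlt 1 (by omega) this
  · intro h
    have h2 : r = p⁻¹ := eq_inv_of_mul_eq_one_left h
    have := key2 r (by rw [h2]; exact Subgroup.inv_mem _ (Subgroup.subset_closure (by simp)))
    rw [hcard] at this
    exact hlt 1 (by omega) this

/-- A pair of sections which on every geometric fibre is as independent as a basis of the torsion of level at least
three. -/
def Good {S : Scheme.{u}} (J : Over S) [GrpObj J] (σ₀ σ₁ : 𝟙_ (Over S) ⟶ J) : Prop :=
  ∀ (Ω : Type u) [Field Ω] [IsAlgClosed Ω] (t : Spec (CommRingCat.of Ω) ⟶ S)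
    (p r : 𝟙_ (Over (Spec (CommRingCat.of Ω))) ⟶ Red.bc t J),
    p.left ≫ pullback.fst J.hom t = t ≫ σ₀.left → r.left ≫ pullback.fst J.hom t = t ≫ σ₁.left →
    p ≠ 1 ∧ r ≠ 1 ∧ p * p ≠ 1 ∧ r ≠ p ∧ r * p ≠ 1

theorem good_of_isLevelStr {S : Scheme.{u}} (J : Over S) [GrpObj J] (hJ : AgPol.IsAbSch J 1) {n : ℕ} (hn : 3 ≤ n)
    (σ : Fin (2 * 1) → (𝟙_ (Over S) ⟶ J)) (hσ : AgPol.IsLevelStr J 1 n σ) : Good J (σ 0) (σ 1) := by
  intro Ω _ _ t p r hp hr
  have hbc : AgPol.IsAbSch (Red.bc t J) 1 := isAbSch_bc J hJ t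
  have hcomm := FieldGrp.isCommMonObj (Red.bc t J) hbc
  let E := Sga3B.RadOpen.ptMulEquiv t J
  have hE : ∀ (i : Fin (2 * 1)) (x : 𝟙_ (Over (Spec (CommRingCat.of Ω))) ⟶ Red.bc t J),
      x.left ≫ pullback.fst J.hom t = t ≫ (σ i).left → E x = toUnit (Over.mk t) ≫ σ i := by
    intro i x hx
    apply Over.OverMorphism.ext
    have h1 : (E x).left = x.left ≫ pullback.fst J.hom t := Sga3B.RadOpen.ptEquiv_left t x
    rw [h1, hx]
    rfl
  obtain ⟨h1, h2⟩ := hσ
  obtain ⟨h3, h4⟩ := h2 Ω t
  have hcl : Subgroup.closure (Set.range fun i => toUnit (Over.mk t) ≫ σ i) =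
      (Subgroup.closure {p, r}).map E.toMonoidHom := by
    rw [MonoidHom.map_closure]
    congr 1
    ext z
    constructor
    · rintro ⟨i, rfl⟩
      fin_cases i
      · exact ⟨p, by simp, hE 0 p hp⟩
      · exact ⟨r, by simp, hE 1 r hr⟩
    · rintro ⟨x, (rfl | rfl), rfl⟩
      · exact ⟨0, (hE 0 x hp).symm⟩
      · exact ⟨1, (hE 1 x hr).symm⟩
  have hcard : Nat.card (Subgroup.closure {p, r}) = n ^ 2 := by
    have e1 : Nat.card ((Subgroup.closure {p, r}).map E.toMonoidHom) = Nat.card (Subgroup.closure {p, r}) :=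
      Subgroup.card_map_of_injective E.injective
    rw [← e1, ← hcl]
    have e2 : Nat.card (Subgroup.closure (Set.range fun i => toUnit (Over.mk t) ≫ σ i)) =
        Nat.card (AgPol.torsSet J n (Over.mk t)) := by
      rw [← h3]
      rfl
    rw [e2, h4]
  have hpn : ∀ (i : Fin (2 * 1)) (x : 𝟙_ (Over (Spec (CommRingCat.of Ω))) ⟶ Red.bc t J),
      x.left ≫ pullback.fst J.hom t = t ≫ (σ i).left → x ^ n = 1 := by
    intro i x hx
    apply E.injective
    rw [map_pow, map_one, hE i x hx]
    have e3 : (toUnit (Over.mk t) ≫ σ i) ^ n = toUnit (Over.mk t) ≫ (σ i ^ n) :=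
      (MonObj.comp_pow _ _ _).symm
    rw [e3, h1 i, MonObj.comp_one]
  exact grp hn (hpn 0 p hp) (hpn 1 r hr) hcard

end K820.LevelGrp
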