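import Groth.Agent.EllLift.K820.Norm
import Groth.Agent.EllLift.K820.LevelGrp

/-!
# Base changes of a pointed family to affine schemes
-/

set_option autoImplicit false
universe u

open CategoryTheory CategoryTheory.Limits MonoidalCategory CartesianMonoidalCategory AlgebraicGeometry Opposite
open scoped MonObj

namespace K820.EW

open Groth.Agent.VarietyA.Ell (WEq WEqInf sc)
open Groth.Agent

/-- The complement of the image of a morphism (made open). -/
def cU {X T : Scheme.{u}} (e : T ⟶ X) : X.Opens :=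
  ⟨(closure (Set.range e))ᶜ, isClosed_closure.isOpen_compl⟩

theorem mem_cU {X T : Scheme.{u}} (e : T ⟶ X) [IsClosedImmersion e] (y : X) : y ∈ cU e ↔ y ∉ Set.range e := by
  change y ∈ (closure (Set.range e))ᶜ ↔ _
  rw [e.isClosedEmbedding.isClosed_range.closure_eq]
  rfl

variable {S : Scheme.{u}} (J : Over S)

section

variable {A : Type u} [CommRing A] (j : Spec (CommRingCat.of A) ⟶ S)

/-- The base change of `J` to an affine scheme. -/
noncomputable abbrev XJ : Scheme.{u} := pullback J.hom j

/-- The structure morphism. -/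
noncomputable abbrev qJ : XJ J j ⟶ Spec (CommRingCat.of A) := pullback.snd J.hom j

/-- The projection to `J`. -/
noncomputable abbrev gJ : XJ J j ⟶ J.left := pullback.fst J.hom j

/-- The base change of a section. -/
noncomputable def secJ (σ : 𝟙_ (Over S) ⟶ J) : Spec (CommRingCat.of A) ⟶ XJ J j :=
  pullback.lift (j ≫ (show S ⟶ J.left from σ.left)) (𝟙 _) (by
    have h : (show S ⟶ J.left from σ.left) ≫ J.hom = 𝟙 S := Over.w σ
    rw [Category.assoc, h, Category.comp_id, Category.id_comp])

variable (σ : 𝟙_ (Over S) ⟶ J)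

@[reassoc]
theorem secJ_q : secJ J j σ ≫ qJ J j = 𝟙 _ := pullback.lift_snd _ _ _

@[reassoc]
theorem secJ_g : secJ J j σ ≫ gJ J j = j ≫ (show S ⟶ J.left from σ.left) := pullback.lift_fst _ _ _

instance [IsSeparated J.hom] : IsClosedImmersion (secJ J j σ) := by
  have : IsClosedImmersion (secJ J j σ ≫ qJ J j) := by rw [secJ_q]; infer_instance
  exact IsClosedImmersion.of_comp _ (qJ J j)

theorem secJ_unique {s : Spec (CommRingCat.of A) ⟶ XJ J j} (h1 : s ≫ qJ J j = 𝟙 _)
    (h2 : s ≫ gJ J j = j ≫ (show S ⟶ J.left from σ.left)) : s = secJ J j σ := by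
  apply pullback.hom_ext
  · exact h2.trans (secJ_g J j σ).symm
  · exact h1.trans (secJ_q J j σ).symm

end

section Map

variable {A B : Type u} [CommRing A] [CommRing B] (φ : A →+* B) (j : Spec (CommRingCat.of A) ⟶ S)
  (j' : Spec (CommRingCat.of B) ⟶ S) (h : Spec.map (CommRingCat.ofHom φ) ≫ j = j')

/-- The projection between base changes. -/
noncomputable def mapJ : XJ J j' ⟶ XJ J j :=
  pullback.lift (gJ J j') (qJ J j' ≫ Spec.map (CommRingCat.ofHom φ)) (by
    rw [Category.assoc, h]; exact pullback.condition)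

@[reassoc]
theorem mapJ_g : mapJ J φ j j' h ≫ gJ J j = gJ J j' := pullback.lift_fst _ _ _

@[reassoc]
theorem mapJ_q : mapJ J φ j j' h ≫ qJ J j = qJ J j' ≫ Spec.map (CommRingCat.ofHom φ) := pullback.lift_snd _ _ _

theorem isPullback_mapJ : IsPullback (mapJ J φ j j' h) (qJ J j') (qJ J j) (Spec.map (CommRingCat.ofHom φ)) := by
  refine IsPullback.of_right (h₁₂ := gJ J j) (h₂₂ := j) (v₁₃ := J.hom) ?_ (mapJ_q J φ j j' h)
    (IsPullback.of_hasPullback J.hom j)
  rw [mapJ_g, h]
  exact IsPullback.of_hasPullback J.hom j'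

theorem secJ_map (σ : 𝟙_ (Over S) ⟶ J) :
    secJ J j' σ ≫ mapJ J φ j j' h = Spec.map (CommRingCat.ofHom φ) ≫ secJ J j σ := by
  apply pullback.hom_ext
  · rw [Category.assoc, Category.assoc]
    refine (congrArg (fun t => secJ J j' σ ≫ t) (mapJ_g J φ j j' h)).trans ?_
    refine (secJ_g J j' σ).trans ?_
    rw [← h, Category.assoc]
    exact (congrArg (fun t => Spec.map (CommRingCat.ofHom φ) ≫ t) (secJ_g J j σ)).symm
  · rw [Category.assoc, Category.assoc]
    refine (congrArg (fun t => secJ J j' σ ≫ t) (mapJ_q J φ j j' h)).trans ?_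
    rw [secJ_q_assoc]
    refine Eq.trans ?_ (congrArg (fun t => Spec.map (CommRingCat.ofHom φ) ≫ t) (secJ_q J j σ)).symm
    rw [Category.comp_id]

end Map

end K820.EW
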