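import Groth.Agent.EllLift.K820.Zar
import Groth.Agent.EllLift.K820.FamFib
import Groth.Agent.AgPol.K814.RelDim

/-!
# Normalised Weierstrass coordinates for the base changes of a family
-/

set_option autoImplicit false
universe u

open CategoryTheory CategoryTheory.Limits MonoidalCategory CartesianMonoidalCategory AlgebraicGeometry Opposite
open scoped MonObj

namespace K820.EW

open Groth.Agent.VarietyA.Ell (WEq WEqInf sc)
open Groth.Agent

variable {S : Scheme.{u}} (J : Over S) [GrpObj J] (σ₀ σ₁ : 𝟙_ (Over S) ⟶ J)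

section

variable {A : Type u} [CommRing A] (j : Spec (CommRingCat.of A) ⟶ S)

/-- Weierstrass coordinates on the base change of `J`. -/
abbrev CoJ (W : WeierstrassCurve A) := Co W (qJ J j) (secJ J j η[J]) (cU (secJ J j η[J]))

variable (hJ : AgPol.IsAbSch J 1)

include hJ in
theorem proper_qJ : IsProper (qJ J j) := by
  have := hJ.proper
  exact MorphismProperty.of_isPullback (P := @IsProper) (IsPullback.of_hasPullback J.hom j) inferInstance

include hJ in
theorem smooth_qJ : Smooth (qJ J j) := by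
  have := hJ.smooth
  exact MorphismProperty.of_isPullback (P := @Smooth) (IsPullback.of_hasPullback J.hom j) inferInstance

include hJ in
theorem rel_qJ : SmoothOfRelativeDimension 1 (qJ J j) := by
  have hJr := K814.RelDim.of_isAbSch J 1 hJ
  have := smoothOfRelativeDimension_isStableUnderBaseChange (n := 1)
  exact MorphismProperty.of_isPullback (P := @SmoothOfRelativeDimension 1) (IsPullback.of_hasPullback J.hom j) hJr

include hJ in
theorem ellFib_qJ : EllFib (qJ J j) :=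
  EllFib.of_isPullback (IsPullback.of_hasPullback J.hom j) (Genus.ellFib J hJ)

end

section Map

variable {A B : Type u} [CommRing A] [CommRing B] (φ : A →+* B) (j : Spec (CommRingCat.of A) ⟶ S)
  (j' : Spec (CommRingCat.of B) ⟶ S) (h : Spec.map (CommRingCat.ofHom φ) ≫ j = j')

theorem cU_map [IsSeparated J.hom] : mapJ J φ j j' h ⁻¹ᵁ cU (secJ J j η[J]) = cU (secJ J j' η[J]) := by
  ext y
  change y ∈ mapJ J φ j j' h ⁻¹ᵁ cU (secJ J j η[J]) ↔ y ∈ cU (secJ J j' η[J])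
  rw [mem_cU, compl_pull φ (isPullback_mapJ J φ j j' h) (secJ_q J j η[J]) (secJ_q J j' η[J])
    (secJ_map J φ j j' h η[J]) (mem_cU _)]

/-- Normalised coordinates base change (flat case). -/
theorem exists_map [IsSeparated J.hom] (hφ : φ.Flat) {W : WeierstrassCurve A} (c : CoJ J j W)
    (n : Norm c (secJ J j σ₀) (secJ J j σ₁)) :
    ∃ c' : CoJ J j' (W.map φ), Norm c' (secJ J j' σ₀) (secJ J j' σ₁) ∧
      c'.hom ≫ bc W φ = mapJ J φ j j' h ≫ c.hom := by
  have key : ∀ U' : (XJ J j').Opens, U' = mapJ J φ j j' h ⁻¹ᵁ cU (secJ J j η[J]) →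
      ∃ c' : Co (W.map φ) (qJ J j') (secJ J j' η[J]) U', Norm c' (secJ J j' σ₀) (secJ J j' σ₁) ∧
      c'.hom ≫ bc W φ = mapJ J φ j j' h ≫ c.hom := by
    rintro _ rfl
    exact ⟨c.pull φ (isPullback_mapJ J φ j j' h) (secJ_q J j η[J]) (secJ_q J j' η[J])
      (secJ_map J φ j j' h η[J]) hφ,
      n.pull φ (isPullback_mapJ J φ j j' h) (secJ_q J j η[J]) (secJ_q J j' η[J])
      (secJ_map J φ j j' h η[J]) hφ (secJ_map J φ j j' h σ₀) (secJ_map J φ j j' h σ₁),
      Co.pull_hom φ _ _ _ _ c hφ⟩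
  exact key _ (cU_map J φ j j' h).symm

end Map

variable {J σ₀ σ₁}

/-- Uniqueness of normalised coordinates. -/
theorem norm_unique (hJ : AgPol.IsAbSch J 1) {A : Type u} [CommRing A] {j : Spec (CommRingCat.of A) ⟶ S}
    {W W' : WeierstrassCurve A} {c : CoJ J j W} {c' : CoJ J j W'} (n : Norm c (secJ J j σ₀) (secJ J j σ₁))
    (n' : Norm c' (secJ J j σ₀) (secJ J j σ₁)) : W = W' ∧ HEq c.hom c'.hom := by
  have := proper_qJ J j hJ
  have := smooth_qJ J j hJ
  exact Norm.unique (ellFib_qJ J j hJ) (secJ_q J j η[J]) (secJ_q J j σ₀) (secJ_q J j σ₁) n n'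

/-- Existence of normalised coordinates, locally on the base. -/
theorem exists_norm_local (hJ : AgPol.IsAbSch J 1) (hgood : LevelGrp.Good J σ₀ σ₁) (s : S) :
    ∃ (T : S.Opens) (hT : IsAffineOpen T), s ∈ T ∧
      ∃ (W : WeierstrassCurve Γ(S, T)) (c : CoJ J (show Spec (CommRingCat.of Γ(S, T)) ⟶ S from hT.fromSpec) W),
        Norm c (secJ J _ σ₀) (secJ J _ σ₁) := by
  obtain ⟨T₀, hT₀, hs, -⟩ := TopologicalSpace.Opens.isBasis_iff_nbhd.mp S.isBasis_affineOpens
    (show s ∈ (⊤ : S.Opens) from trivial)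
  have hT₀ : IsAffineOpen T₀ := hT₀
  let j₀ : Spec (CommRingCat.of Γ(S, T₀)) ⟶ S := hT₀.fromSpec
  have h1 := proper_qJ J j₀ hJ
  have h2 := rel_qJ J j₀ hJ
  obtain ⟨b, hb, hex⟩ := exists_secData (qJ J j₀) (secJ J j₀ η[J]) (secJ_q J j₀ η[J]) (hT₀.primeIdealOf ⟨s, hs⟩)
  have hT : IsAffineOpen (S.basicOpen b) := hT₀.basicOpen b
  have hle : S.basicOpen b ≤ T₀ := S.basicOpen_le b
  let j : Spec (CommRingCat.of Γ(S, S.basicOpen b)) ⟶ S := hT.fromSpec
  let φ : Γ(S, T₀) →+* Γ(S, S.basicOpen b) := (S.presheaf.map (homOfLE hle).op).hom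
  have hj : Spec.map (CommRingCat.ofHom φ) ≫ j₀ = j := hT₀.map_fromSpec hT (homOfLE hle).op
  have hφ : φ.Flat := by
    have h3 : Flat (Spec.map (CommRingCat.ofHom φ)) := by
      have h4 : IsOpenImmersion (Spec.map (CommRingCat.ofHom φ) ≫ j₀) := by
        rw [hj]
        exact inferInstanceAs (IsOpenImmersion hT.fromSpec)
      have h6 : IsOpenImmersion j₀ := inferInstanceAs (IsOpenImmersion hT₀.fromSpec)
      have h5 : IsOpenImmersion (Spec.map (CommRingCat.ofHom φ)) := IsOpenImmersion.of_comp _ j₀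
      infer_instance
    rwa [Flat.SpecMap_iff] at h3
  have hbu : IsUnit (φ b) := RingedSpace.isUnit_res_basicOpen _ b
  have h3 := hJ.proper
  obtain ⟨D⟩ := hex φ hφ hbu (isPullback_mapJ J φ j₀ j hj) (secJ J j η[J]) (secJ_q J j η[J])
    (secJ_map J φ j₀ j hj η[J]) (cU (secJ J j η[J])) (mem_cU _)
  have h4 := proper_qJ J j hJ
  have h5 := smooth_qJ J j hJ
  obtain ⟨W, ⟨c⟩⟩ := D.exists_co' (ellFib_qJ J j hJ)
  have hne0 : ⊤ ≤ secJ J j σ₀ ⁻¹ᵁ cU (secJ J j η[J]) := by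
    apply top_le_of_ne J hJ
    intro Ω _ _ t
    exact (hgood Ω t (ptJ J t σ₀) (ptJ J t σ₁) (ptJ_comp J t σ₀) (ptJ_comp J t σ₁)).1
  have hne1 : ⊤ ≤ secJ J j σ₁ ⁻¹ᵁ cU (secJ J j η[J]) := by
    apply top_le_of_ne J hJ
    intro Ω _ _ t
    exact (hgood Ω t (ptJ J t σ₀) (ptJ J t σ₁) (ptJ_comp J t σ₀) (ptJ_comp J t σ₁)).2.1
  obtain ⟨u1, u2⟩ := isUnit_of_good J hJ hgood j c hne0 hne1
  obtain ⟨W', c', hn⟩ := exists_norm (secJ_q J j η[J]) (secJ_q J j σ₀) (secJ_q J j σ₁) c hne0 hne1 u1 u2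
  refine ⟨S.basicOpen b, hT, ?_, W', c', hn⟩
  have h7 : s = hT₀.fromSpec (hT₀.primeIdealOf ⟨s, hs⟩) := (hT₀.fromSpec_primeIdealOf ⟨s, hs⟩).symm
  rw [h7]
  change hT₀.primeIdealOf ⟨s, hs⟩ ∈ hT₀.fromSpec ⁻¹ᵁ S.basicOpen b
  rw [hT₀.fromSpec_preimage_basicOpen]
  exact hb

end K820.EW
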