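import Groth.Agent.EllLift.K820.Model

/-!
# Weierstrass coordinates and morphisms to the Weierstrass model
-/

set_option autoImplicit false
universe u

open CategoryTheory CategoryTheory.Limits AlgebraicGeometry

namespace K820.EW

open Groth.Agent.VarietyA.Ell (WEq WEqInf sc)

variable {A : Type u} [CommRing A]

section Sc

variable {X : Scheme.{u}} (q : X ⟶ Spec (CommRingCat.of A))

theorem sc_res {U V : X.Opens} (i : V ≤ U) :
    (X.presheaf.map (homOfLE i).op).hom.comp (sc q U) = sc q V := by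
  have h := Scheme.Hom.appLE_map q (U := ⊤) (e := (le_top : U ≤ q ⁻¹ᵁ ⊤)) (homOfLE i).op
  rw [sc, sc, ← h, CommRingCat.hom_comp, ← RingHom.comp_assoc]

theorem sc_res_apply {U V : X.Opens} (i : V ≤ U) (c : A) :
    X.presheaf.map (homOfLE i).op (sc q U c) = sc q V c :=
  congrArg (fun t : A →+* Γ(X, V) => t c) (sc_res q i)

theorem le_pre (U : X.Opens) {Y : Scheme.{u}} (f : X ⟶ Y) : U ≤ f ⁻¹ᵁ ⊤ := le_top

@[reassoc]
theorem toSpecΓ_sc (U : X.Opens) : U.toSpecΓ ≫ Spec.map (CommRingCat.ofHom (sc q U)) = U.ι ≫ q := by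
  have h1 : CommRingCat.ofHom (sc q U) =
    (Scheme.ΓSpecIso (CommRingCat.of A)).inv ≫ q.appLE ⊤ U (le_pre U q) := rfl
  rw [h1, Spec.map_comp, Scheme.Opens.toSpecΓ_SpecMap_appLE_assoc, Scheme.Opens.toSpecΓ_top, Category.assoc,
    Scheme.Hom.resLE_comp_ι_assoc, toSpecΓ_SpecMap_ΓSpecIso_inv, Category.comp_id]

theorem appLE_sc {X' : Scheme.{u}} (g : X' ⟶ X) (U : X.Opens) (U' : X'.Opens) (h : U' ≤ g ⁻¹ᵁ U) :
    (g.appLE U U' h).hom.comp (sc q U) = sc (g ≫ q) U' := by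
  have h1 : q.appLE ⊤ U le_top ≫ g.appLE U U' h = (g ≫ q).appLE ⊤ U' le_top :=
    Scheme.Hom.appLE_comp_appLE _ _ _ _ _ _ _
  rw [sc, sc, ← h1]
  rfl

theorem sc_comp_SpecMap {B : Type u} [CommRing B] (φ : A →+* B) {X' : Scheme.{u}}
    (q' : X' ⟶ Spec (CommRingCat.of B)) (U' : X'.Opens) :
    sc (q' ≫ Spec.map (CommRingCat.ofHom φ)) U' = (sc q' U').comp φ := by
  have h1 : (Spec.map (CommRingCat.ofHom φ)).appLE ⊤ ⊤ le_top ≫ q'.appLE ⊤ U' le_top =
      (q' ≫ Spec.map (CommRingCat.ofHom φ)).appLE ⊤ U' le_top :=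
    Scheme.Hom.appLE_comp_appLE _ _ _ _ _ _ _
  have h2 : (Scheme.ΓSpecIso (CommRingCat.of A)).inv ≫ (Spec.map (CommRingCat.ofHom φ)).appLE ⊤ ⊤ le_top =
      CommRingCat.ofHom φ ≫ (Scheme.ΓSpecIso (CommRingCat.of B)).inv := by
    rw [Scheme.ΓSpecIso_inv_naturality, Scheme.Hom.appTop, Scheme.Hom.app_eq_appLE]
    rfl
  have h3 := h2 =≫ q'.appLE ⊤ U' le_top
  rw [Category.assoc, h1, Category.assoc] at h3
  exact congrArg CommRingCat.Hom.hom h3

end Sc

/-- Weierstrass coordinates on a scheme over `Spec A`, with respect to two opens. -/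
structure WCo (W : WeierstrassCurve A) {X : Scheme.{u}} (q : X ⟶ Spec (CommRingCat.of A)) (U V : X.Opens) where
  /-- the coordinate `x` -/
  x : Γ(X, U)
  /-- the coordinate `y` -/
  y : Γ(X, U)
  /-- the coordinate `x / y` -/
  z : Γ(X, V)
  /-- the coordinate `1 / y` -/
  w : Γ(X, V)
  eqU : WEq W (sc q U) x y
  eqV : WEqInf W (sc q V) z w
  rel_w : X.presheaf.map (homOfLE (inf_le_right : U ⊓ V ≤ V)).op w *
    X.presheaf.map (homOfLE (inf_le_left : U ⊓ V ≤ U)).op y = 1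
  rel_z : X.presheaf.map (homOfLE (inf_le_right : U ⊓ V ≤ V)).op z *
    X.presheaf.map (homOfLE (inf_le_left : U ⊓ V ≤ U)).op y =
      X.presheaf.map (homOfLE (inf_le_left : U ⊓ V ≤ U)).op x

namespace WCo

variable {W : WeierstrassCurve A} {X : Scheme.{u}} {q : X ⟶ Spec (CommRingCat.of A)} {U V : X.Opens}
  (c : WCo W q U V)

/-- the map on the affine chart -/
noncomputable def homU : U.toScheme ⟶ Spec (CommRingCat.of (RU W)) :=
  U.toSpecΓ ≫ Spec.map (CommRingCat.ofHom (liftU (sc q U) c.x c.y c.eqU))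

/-- the map on the chart at infinity -/
noncomputable def homV : V.toScheme ⟶ Spec (CommRingCat.of (RC W)) :=
  V.toSpecΓ ≫ Spec.map (CommRingCat.ofHom (liftC (sc q V) c.z c.w c.eqV))

theorem compat : X.homOfLE (inf_le_left : U ⊓ V ≤ U) ≫ c.homU ≫ ιU W =
    X.homOfLE (inf_le_right : U ⊓ V ≤ V) ≫ c.homV ≫ ιC W := by
  have hEq : WEq W (sc q (U ⊓ V)) (X.presheaf.map (homOfLE (inf_le_left : U ⊓ V ≤ U)).op c.x)
      (X.presheaf.map (homOfLE (inf_le_left : U ⊓ V ≤ U)).op c.y) := by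
    rw [← sc_res q (inf_le_left : U ⊓ V ≤ U)]
    exact wEq_map c.eqU (X.presheaf.map (homOfLE (inf_le_left : U ⊓ V ≤ U)).op).hom
  have h1 : CommRingCat.ofHom (liftU (sc q U) c.x c.y c.eqU) ≫
      X.presheaf.map (homOfLE (inf_le_left : U ⊓ V ≤ U)).op =
      CommRingCat.ofHom (algebraMap (RU W) (RL W)) ≫ CommRingCat.ofHom (liftL W _ _ _ _ hEq c.rel_w) := by
    ext1
    apply hom_ext_U
    · ext a
      change X.presheaf.map (homOfLE (inf_le_left : U ⊓ V ≤ U)).op (liftU (sc q U) c.x c.y c.eqU (iU W a)) =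
        liftL W _ _ _ _ hEq c.rel_w (iL W a)
      rw [liftU_iU, liftL_i, sc_res_apply]
    · change X.presheaf.map (homOfLE (inf_le_left : U ⊓ V ≤ U)).op (liftU (sc q U) c.x c.y c.eqU (xU W)) =
        liftL W _ _ _ _ hEq c.rel_w (xL W)
      rw [liftU_x, liftL_x]
    · change X.presheaf.map (homOfLE (inf_le_left : U ⊓ V ≤ U)).op (liftU (sc q U) c.x c.y c.eqU (yU W)) =
        liftL W _ _ _ _ hEq c.rel_w (yL W)
      rw [liftU_y, liftL_y]
  have h2 : CommRingCat.ofHom (liftC (sc q V) c.z c.w c.eqV) ≫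
      X.presheaf.map (homOfLE (inf_le_right : U ⊓ V ≤ V)).op =
      CommRingCat.ofHom (resC W) ≫ CommRingCat.ofHom (liftL W _ _ _ _ hEq c.rel_w) := by
    ext1
    apply hom_ext_C
    · ext a
      change X.presheaf.map (homOfLE (inf_le_right : U ⊓ V ≤ V)).op (liftC (sc q V) c.z c.w c.eqV (iC W a)) =
        liftL W _ _ _ _ hEq c.rel_w (resC W (iC W a))
      rw [liftC_iC, resC, liftC_iC, liftL_i, sc_res_apply]
    · change X.presheaf.map (homOfLE (inf_le_right : U ⊓ V ≤ V)).op (liftC (sc q V) c.z c.w c.eqV (zC W)) =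
        liftL W _ _ _ _ hEq c.rel_w (resC W (zC W))
      rw [liftC_z, resC, liftC_z]
      exact (liftL_z _ _ _ _ hEq c.rel_w c.rel_z).symm
    · change X.presheaf.map (homOfLE (inf_le_right : U ⊓ V ≤ V)).op (liftC (sc q V) c.z c.w c.eqV (wC W)) =
        liftL W _ _ _ _ hEq c.rel_w (resC W (wC W))
      rw [liftC_w, resC, liftC_w, liftL_w]
  rw [homU, homV, Category.assoc, Category.assoc, ← Scheme.Opens.toSpecΓ_SpecMap_presheaf_map_assoc,
    ← Scheme.Opens.toSpecΓ_SpecMap_presheaf_map_assoc, ← Spec.map_comp_assoc, ← Spec.map_comp_assoc, h1, h2,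
    Spec.map_comp_assoc, Spec.map_comp_assoc]
  have := jU_ιU W
  rw [jU, jC] at this
  rw [this]

end WCo

/-- two morphisms agreeing on two opens covering the source are equal -/
theorem hom_ext_sup {X Y : Scheme.{u}} {U V : X.Opens} (h : U ⊔ V = ⊤) {f g : X ⟶ Y}
    (hU : U.ι ≫ f = U.ι ≫ g) (hV : V.ι ≫ f = V.ι ≫ g) : f = g := by
  let 𝒰 := Groth.Agent.Ega4late.H542.GlueSup.cov U.ι V.ι (fun x => by
    have : x ∈ (U ⊔ V : X.Opens) := by rw [h]; trivial
    rcases this with hx | hx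
    · exact Or.inl ⟨⟨x, hx⟩, rfl⟩
    · exact Or.inr ⟨⟨x, hx⟩, rfl⟩)
  refine Scheme.Cover.hom_ext 𝒰 _ _ ?_
  rintro (_ | _)
  · exact hU
  · exact hV

/-- glueing of morphisms given on two opens covering the source -/
theorem exists_glue_top {X Y : Scheme.{u}} {U V : X.Opens} (h : U ⊔ V = ⊤) (f : U.toScheme ⟶ Y)
    (g : V.toScheme ⟶ Y)
    (hfg : X.homOfLE (inf_le_left : U ⊓ V ≤ U) ≫ f = X.homOfLE (inf_le_right : U ⊓ V ≤ V) ≫ g) :
    ∃ k : X ⟶ Y, U.ι ≫ k = f ∧ V.ι ≫ k = g := by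
  obtain ⟨k, hk₁, hk₂⟩ := Groth.Agent.Ega4late.H542.GlueSup.exists_glue_sup U V f g hfg
  have hX : Set.range (𝟙 X) ⊆ Set.range (U ⊔ V : X.Opens).ι := by
    rw [Scheme.Opens.range_ι, h]
    intro x _
    trivial
  refine ⟨IsOpenImmersion.lift (U ⊔ V : X.Opens).ι (𝟙 X) hX ≫ k, ?_, ?_⟩
  · rw [← hk₁, ← Category.assoc]
    congr 1
    rw [← cancel_mono (U ⊔ V : X.Opens).ι, Category.assoc, IsOpenImmersion.lift_fac, Category.comp_id,
      Scheme.homOfLE_ι]
  · rw [← hk₂, ← Category.assoc]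
    congr 1
    rw [← cancel_mono (U ⊔ V : X.Opens).ι, Category.assoc, IsOpenImmersion.lift_fac, Category.comp_id,
      Scheme.homOfLE_ι]

namespace WCo

variable {W : WeierstrassCurve A} {X : Scheme.{u}} {q : X ⟶ Spec (CommRingCat.of A)} {U V : X.Opens}
  (c : WCo W q U V)

/-- The morphism to the Weierstrass model. -/
noncomputable def hom (h : U ⊔ V = ⊤) : X ⟶ E W :=
  (exists_glue_top h _ _ c.compat).choose

theorem ι_homU (h : U ⊔ V = ⊤) : U.ι ≫ c.hom h = c.homU ≫ ιU W := (exists_glue_top h _ _ c.compat).choose_spec.1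

theorem ι_homV (h : U ⊔ V = ⊤) : V.ι ≫ c.hom h = c.homV ≫ ιC W := (exists_glue_top h _ _ c.compat).choose_spec.2

theorem homU_comp : c.homU ≫ Spec.map (CommRingCat.ofHom (iU W)) = U.ι ≫ q := by
  rw [homU, Category.assoc, ← Spec.map_comp, ← CommRingCat.ofHom_comp, liftU_comp, toSpecΓ_sc]

theorem homV_comp : c.homV ≫ Spec.map (CommRingCat.ofHom (iC W)) = V.ι ≫ q := by
  rw [homV, Category.assoc, ← Spec.map_comp, ← CommRingCat.ofHom_comp, liftC_comp, toSpecΓ_sc]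

@[reassoc]
theorem hom_str (h : U ⊔ V = ⊤) : c.hom h ≫ str W = q := by
  apply hom_ext_sup h
  · rw [← Category.assoc, ι_homU, Category.assoc, ιU_str, homU_comp]
  · rw [← Category.assoc, ι_homV, Category.assoc, ιC_str, homV_comp]

end WCo

end K820.EW
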