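import Groth.Agent.VarietyA.EllForm
import Groth.Agent.VarietyA.EllInf
import Groth.Agent.EllLift.K820.ModelHom

/-!
# Given Weierstrass coordinates on a curve of genus one over a field are Weierstrass coordinates in the sense of `WCoord`
-/

set_option autoImplicit false
universe u v

open CategoryTheory CategoryTheory.Limits AlgebraicGeometry
open Groth.Agent.Dix Groth.Agent.VarietyA.Ell Groth.Agent.Picfga.RegLocus Groth.Agent.Picfga.CurvePts Polynomial

namespace K820.FieldCoord

section Alg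

open Groth.Agent.Dix.EllPole

variable {K : Type u} {F : Type v} [Field K] [Field F] [Algebra K F]

/-- Change of the uniformizer in pole data. -/
def changeT (D : PoleData K F) (t' v v' : F) (hv : v ∈ D.O) (hv' : v' ∈ D.O) (hvv : v * v' = 1)
    (ht : t' = D.t * v) : PoleData K F where
  P := D.P
  O := D.O
  t := t'
  t_mem := by rw [ht]; exact D.O.mul_mem D.t_mem hv
  inv_t_notMem := by
    intro h
    apply D.inv_t_notMem
    have hv0 : v ≠ 0 := left_ne_zero_of_mul_eq_one hvv
    have h1 : D.t⁻¹ = v * t'⁻¹ := by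
      rw [ht, mul_inv]
      field_simp
    rw [h1]
    exact D.O.mul_mem hv h
  exists_pow := by
    intro f
    obtain ⟨n, hn⟩ := D.exists_pow f
    refine ⟨n, ?_⟩
    rw [ht, mul_pow]
    have := D.O.mul_mem (D.O.pow_mem hv n) hn
    rwa [← mul_assoc, mul_comm (v ^ n)] at this
  residue := by
    intro g hg
    obtain ⟨c, h, hh, e⟩ := D.residue g hg
    refine ⟨c, v' * h, D.O.mul_mem hv' hh, ?_⟩
    rw [e, ht]
    linear_combination (-(D.t * h)) * hvv
  inter := D.inter
  exists_notMem := D.exists_notMem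
  dim_le := D.dim_le
  exists_frac := D.exists_frac

end Alg

attribute [local instance] EllPoleData.algK

variable {K : Type u} [Field K] {X : Scheme.{u}} [IsIntegral X] [X.Over (Spec (CommRingCat.of K))]

open K820.EW (WCo)

omit [X.Over (Spec (CommRingCat.of K))] in
theorem tau_eq {f : X ⟶ Spec (CommRingCat.of K)} {x : X} (E : WCoord f x)
    (τ : X.presheaf.stalk x →+* X.presheaf.stalk x) (h1 : τ.comp (scS f x) = scS f x)
    (h2 : τ (zO E) = zO E) (h3 : τ (wO E) = wO E) : τ = RingHom.id _ := by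
  have h4 : τ.comp (EllPole.infHom E.W (scS f x) (zO E) (wO E) (wEqInf_O E)) =
      EllPole.infHom E.W (scS f x) (zO E) (wO E) (wEqInf_O E) := by
    apply EllPole.infRing_hom_ext
    · ext k
      refine (congrArg τ (EllPole.infHom_k _ _ _ (wEqInf_O E) k)).trans
        (Eq.trans ?_ (EllPole.infHom_k _ _ _ (wEqInf_O E) k).symm)
      exact congrArg (fun t : K →+* _ => t k) h1
    · exact (congrArg τ (EllPole.infHom_x _ _ _ (wEqInf_O E))).trans
        (h2.trans (EllPole.infHom_x _ _ _ (wEqInf_O E)).symm)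
    · exact (congrArg τ (EllPole.infHom_z _ _ _ (wEqInf_O E))).trans
        (h3.trans (EllPole.infHom_z _ _ _ (wEqInf_O E)).symm)
  ext o
  obtain ⟨p, q, hq, hqo⟩ := hfrac_O E o
  have h5 := congrArg τ hqo
  have h6 : ∀ r, τ (EllPole.infHom E.W (scS f x) (zO E) (wO E) (wEqInf_O E) r) =
      EllPole.infHom E.W (scS f x) (zO E) (wO E) (wEqInf_O E) r :=
    fun r => congrArg (fun t : _ →+* _ => t r) h4
  rw [map_mul, h6, h6] at h5
  exact mul_left_cancel₀ hq (h5.trans hqo.symm)

theorem exists_wCoord {x : X} {U : X.Opens} [Nonempty U] (D : EllPole.PoleData K X.functionField)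
    (hP : D.P = EllPoleData.pole K U) (hO : D.O = EllPoleData.regAt K x)
    (hUa : IsAffineOpen U) (hU : ∀ y : X, y ∈ U ↔ y ≠ x)
    (ht : ∃ t : X.presheaf.stalk x, t ∈ IsLocalRing.maximalIdeal (X.presheaf.stalk x) ∧
        D.t = algebraMap _ X.functionField t)
    {W : WeierstrassCurve K} {V : X.Opens} (hxV : x ∈ V) (c : WCo W (X ↘ Spec (CommRingCat.of K)) U V)
    (hz : IsLocalRing.maximalIdeal (X.presheaf.stalk x) ≤ Ideal.span {X.presheaf.germ V x hxV c.z})
    (hz' : X.presheaf.germ V x hxV c.z ∈ IsLocalRing.maximalIdeal (X.presheaf.stalk x))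
    (hw : X.presheaf.germ V x hxV c.w ∈ IsLocalRing.maximalIdeal (X.presheaf.stalk x)) :
    Function.Bijective (K820.EW.liftU (sc (X ↘ Spec (CommRingCat.of K)) U) c.x c.y c.eqU) ∧
    (∀ {A : Type u} [CommRing A] [IsLocalRing A] (r : K →+* A) {a b : A}
      (_ : a ∈ IsLocalRing.maximalIdeal A) (_ : b ∈ IsLocalRing.maximalIdeal A) (_ : WEqInf W r a b),
      ∃ φ : X.presheaf.stalk x →+* A, IsLocalHom φ ∧ φ.comp (scS (X ↘ Spec (CommRingCat.of K)) x) = r ∧
        φ (X.presheaf.germ V x hxV c.z) = a ∧ φ (X.presheaf.germ V x hxV c.w) = b) ∧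
    (∀ τ : X.presheaf.stalk x →+* X.presheaf.stalk x,
      τ.comp (scS (X ↘ Spec (CommRingCat.of K)) x) = scS (X ↘ Spec (CommRingCat.of K)) x →
      τ (X.presheaf.germ V x hxV c.z) = X.presheaf.germ V x hxV c.z →
      τ (X.presheaf.germ V x hxV c.w) = X.presheaf.germ V x hxV c.w → τ = RingHom.id _) := by
  obtain ⟨t, ht, htD⟩ := ht
  have : Nonempty V := ⟨⟨x, hxV⟩⟩
  let Z : X.functionField := X.germToFunctionField V c.z
  let Wf : X.functionField := X.germToFunctionField V c.w
  let xf : X.functionField := X.germToFunctionField U c.x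
  let yf : X.functionField := X.germToFunctionField U c.y
  have hZ : algebraMap (X.presheaf.stalk x) X.functionField (X.presheaf.germ V x hxV c.z) = Z :=
    X.algebraMap_germ_eq_germToFunctionField hxV c.z
  have hWf : algebraMap (X.presheaf.stalk x) X.functionField (X.presheaf.germ V x hxV c.w) = Wf :=
    X.algebraMap_germ_eq_germToFunctionField hxV c.w
  have hDt0 : D.t ≠ 0 := D.t_ne_zero
  -- `D.t = a Z`
  obtain ⟨a, ha⟩ := Ideal.mem_span_singleton'.mp (hz ht)
  have ha' : D.t = algebraMap _ X.functionField a * Z := by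
    rw [htD, ← ha, map_mul, hZ]
  -- `Z = D.t h`
  have hZO : Z ∈ D.O := by rw [hO]; exact ⟨_, hZ⟩
  obtain ⟨c₀, h, hh, hZh⟩ := D.residue Z hZO
  have hh' := hh
  rw [hO] at hh'
  obtain ⟨h₀, hh₀⟩ := hh'
  have hc₀ : c₀ = 0 := by
    by_contra hne
    have h1 : X.presheaf.germ V x hxV c.z =
        X.presheaf.germ ⊤ x (TopologicalSpace.Opens.mem_top _) (EllCech.str ⊤ c₀) + t * h₀ := by
      apply IsFractionRing.injective (X.presheaf.stalk x) X.functionField
      rw [hZ, map_add, map_mul, EllPoleData.algebraMap_str, ← htD]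
      refine hZh.trans ?_
      rw [← hh₀]
    have h2 : X.presheaf.germ ⊤ x (TopologicalSpace.Opens.mem_top _) (EllCech.str ⊤ c₀) ∈
        IsLocalRing.maximalIdeal (X.presheaf.stalk x) := by
      have := Ideal.sub_mem _ hz' (Ideal.mul_mem_right h₀ _ ht)
      rwa [h1, add_sub_cancel_right] at this
    apply h2
    exact ((IsUnit.mk0 c₀ hne).map (EllCech.str ⊤)).map (X.presheaf.germ ⊤ x
      (TopologicalSpace.Opens.mem_top _)).hom
  rw [hc₀, map_zero, zero_add] at hZh
  have hha : h * algebraMap _ X.functionField a = 1 := by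
    have h1 : D.t * (h * algebraMap _ X.functionField a) = D.t * 1 := by
      rw [mul_one]
      calc D.t * (h * algebraMap _ X.functionField a) = algebraMap _ X.functionField a * (D.t * h) := by ring
        _ = D.t := by rw [← hZh, ← ha']
    exact mul_left_cancel₀ hDt0 h1
  let D' := changeT D Z h (algebraMap _ X.functionField a) hh (by rw [hO]; exact ⟨a, rfl⟩) hha hZh
  have hP' : D'.P = EllPoleData.pole K U := hP
  have hO' : D'.O = EllPoleData.regAt K x := hO
  have hne' : Nonempty (U ⊓ V : X.Opens) := ⟨⟨_, genericPoint_mem U, genericPoint_mem V⟩⟩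
  have hwy : Wf * yf = 1 := by
    have := congrArg (X.germToFunctionField (U ⊓ V)) c.rel_w
    rw [map_mul, map_one] at this
    rw [← this]
    congr 1
    · exact (EllPoleData.germ_res inf_le_right _).symm
    · exact (EllPoleData.germ_res inf_le_left _).symm
  have hzy : Z * yf = xf := by
    have := congrArg (X.germToFunctionField (U ⊓ V)) c.rel_z
    rw [map_mul] at this
    refine Eq.trans ?_ (this.trans (EllPoleData.germ_res inf_le_left _))
    congr 1
    · exact (EllPoleData.germ_res inf_le_right _).symm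
    · exact (EllPoleData.germ_res inf_le_left _).symm
  let s : K →+* X.functionField := algebraMap K X.functionField
  have hinf : Wf + s W.a₁ * Z * Wf + s W.a₃ * Wf ^ 2 =
      Z ^ 3 + s W.a₂ * Z ^ 2 * Wf + s W.a₄ * Z * Wf ^ 2 + s W.a₆ * Wf ^ 3 := by
    have h1 := congrArg (X.germToFunctionField V) c.eqV
    simp only [sc_eq_str, map_add, map_mul, map_pow, EllPoleData.germ_str] at h1
    exact h1
  have heq : yf ^ 2 + s W.a₁ * xf * yf + s W.a₃ * yf =
      xf ^ 3 + s W.a₂ * xf ^ 2 + s W.a₄ * xf + s W.a₆ := by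
    have h1 := congrArg (X.germToFunctionField U) c.eqU
    simp only [sc_eq_str, map_add, map_mul, map_pow, EllPoleData.germ_str] at h1
    exact h1
  -- `Z ^ 3 * y = 1 + Z h'`
  obtain ⟨b, hb⟩ := Ideal.mem_span_singleton'.mp (hz hw)
  have hb' : Wf = algebraMap _ X.functionField b * Z := by
    rw [← hWf, ← hb, map_mul, hZ]
  let β : X.functionField := algebraMap _ X.functionField b
  have hβ : β ∈ D'.O := by rw [hO']; exact ⟨b, rfl⟩
  have hZO' : Z ∈ D'.O := hZO
  have hWO' : Wf ∈ D'.O := by rw [hO']; exact ⟨_, hWf⟩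
  have hsO : ∀ k : K, s k ∈ D'.O := fun k => D'.O.algebraMap_mem k
  let h' : X.functionField := s W.a₁ + s W.a₃ * β - s W.a₂ * Z - s W.a₄ * Wf - s W.a₆ * Wf * β
  have hh'' : h' ∈ D'.O := by
    refine D'.O.sub_mem (D'.O.sub_mem (D'.O.sub_mem (D'.O.add_mem (hsO _) (D'.O.mul_mem (hsO _) hβ))
      (D'.O.mul_mem (hsO _) hZO')) (D'.O.mul_mem (hsO _) hWO'))
      (D'.O.mul_mem (D'.O.mul_mem (hsO _) hWO') hβ)
  have hZ3 : Z ^ 3 * yf = 1 + Z * h' := by
    have e1 : Z * h' = s W.a₁ * Z + s W.a₃ * Wf - s W.a₂ * Z ^ 2 - s W.a₄ * Z * Wf - s W.a₆ * Wf ^ 2 := by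
      simp only [h', β]
      linear_combination (-s W.a₃ + s W.a₆ * Wf) * hb'
    rw [e1]
    linear_combination (-yf) * hinf + (1 + s W.a₁ * Z + s W.a₃ * Wf - s W.a₂ * Z ^ 2 - s W.a₄ * Z * Wf
      - s W.a₆ * Wf ^ 2) * hwy
  have hZ2 : Z ^ 2 * xf = 1 + Z * h' := by
    rw [← hZ3, ← hzy]; ring
  let S : EllPole.PoleData.XY D' :=
    { x := xf
      y := yf
      x_mem := by rw [hP']; exact ⟨_, rfl⟩
      y_mem := by rw [hP']; exact ⟨_, rfl⟩
      lead_x := ⟨h', hh'', by rw [map_one]; exact hZ2⟩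
      lead_y := ⟨h', hh'', by rw [map_one]; exact hZ3⟩ }
  have hx₀ : toP D' hP' c.x = ⟨S.x, S.x_mem⟩ := Subtype.ext rfl
  have hy₀ : toP D' hP' c.y = ⟨S.y, S.y_mem⟩ := Subtype.ext rfl
  have huniv : ∀ {B : Type u} [CommRing B] (s : K →+* B) (a b : B), WEq W s a b →
      ∃ φ : Γ(X, U) →+* B, φ.comp (sc (X ↘ Spec (CommRingCat.of K)) U) = s ∧ φ c.x = a ∧ φ c.y = b := by
    intro B _ r a b hab
    obtain ⟨φ, h1, h2, h3⟩ := S.exists_hom heq r a b hab
    refine ⟨φ.comp (toP D' hP'), ?_, ?_, ?_⟩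
    · rw [RingHom.comp_assoc, toP_sc, h1]
    · rw [RingHom.comp_apply, hx₀, h2]
    · rw [RingHom.comp_apply, hy₀, h3]
  have hext : ∀ {B : Type u} [CommRing B] (φ ψ : Γ(X, U) →+* B),
      φ.comp (sc (X ↘ Spec (CommRingCat.of K)) U) = ψ.comp (sc (X ↘ Spec (CommRingCat.of K)) U) →
      φ c.x = ψ c.x → φ c.y = ψ c.y → φ = ψ := by
    intro B _ φ ψ h1 h2 h3
    let e := RingEquiv.ofBijective (toP D' hP') (toP_bijective D' hP')
    have he : e.toRingHom = toP D' hP' := rfl
    have he' : ∀ χ : Γ(X, U) →+* B, (χ.comp e.symm.toRingHom).comp (toP D' hP') = χ := by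
      intro χ
      ext a
      change χ (e.symm (e a)) = χ a
      rw [e.symm_apply_apply]
    rw [← he' φ, ← he' ψ]
    congr 1
    apply S.hom_ext
    · rw [← toP_sc D' hP', ← RingHom.comp_assoc, ← RingHom.comp_assoc, he', he', h1]
    · rw [← hx₀]
      change φ (e.symm (e c.x)) = ψ (e.symm (e c.x))
      rw [e.symm_apply_apply, h2]
    · rw [← hy₀]
      change φ (e.symm (e c.y)) = ψ (e.symm (e c.y))
      rw [e.symm_apply_apply, h3]
  let E : WCoord (X ↘ Spec (CommRingCat.of K)) x :=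
    { W := W, U := U, affU := hUa, memU := hU, x := c.x, y := c.y, eqn := c.eqU, univ := huniv, ext := hext,
      V := V, memV := hxV, z := c.z, w := c.w, germ_z := hz', germ_w := hw, rel_w := c.rel_w,
      rel_z := c.rel_z }
  refine ⟨?_, ?_, ?_⟩
  · obtain ⟨φ, h1, h2, h3⟩ := huniv _ _ _ (K820.EW.wEq_U W)
    have e1 : (K820.EW.liftU (sc (X ↘ Spec (CommRingCat.of K)) U) c.x c.y c.eqU).comp φ = RingHom.id _ := by
      apply hext
      · rw [RingHom.comp_assoc, h1, K820.EW.liftU_comp]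
        rfl
      · rw [RingHom.comp_apply, h2, K820.EW.liftU_x]
        rfl
      · rw [RingHom.comp_apply, h3, K820.EW.liftU_y]
        rfl
    have e2 : φ.comp (K820.EW.liftU (sc (X ↘ Spec (CommRingCat.of K)) U) c.x c.y c.eqU) = RingHom.id _ := by
      apply K820.EW.hom_ext_U
      · rw [RingHom.comp_assoc, K820.EW.liftU_comp, h1]
        rfl
      · rw [RingHom.comp_apply, K820.EW.liftU_x, h2]
        rfl
      · rw [RingHom.comp_apply, K820.EW.liftU_y, h3]
        rfl
    exact Function.bijective_iff_has_inverse.mpr ⟨φ, fun r => congrArg (fun t : _ →+* _ => t r) e2,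
      fun r => congrArg (fun t : _ →+* _ => t r) e1⟩
  · intro A _ _ r a b ha hb hab
    exact exists_stalkHom E r ha hb hab
  · intro τ h1 h2 h3
    exact tau_eq E τ h1 h2 h3

end K820.FieldCoord
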