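import Groth.Agent.EllLift.K820.FieldPt
import Groth.Agent.VarietyA.EllNonsing
import Groth.Agent.S7784
import Groth.Agent.CurvesA.CurveDvr
import Mathlib.AlgebraicGeometry.Group.Abelian

/-!
# Negation on an elliptic curve in Weierstrass coordinates
-/

set_option autoImplicit false
universe u

open CategoryTheory CategoryTheory.Limits MonoidalCategory CartesianMonoidalCategory AlgebraicGeometry Opposite
open scoped MonObj

namespace K820.FieldGrp

open Groth.Agent.VarietyA.Ell (WEq WEqInf sc)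
open Groth.Agent K820.EW

/-- An endomorphism of a proper curve is constant or surjective on closed points. -/
theorem dichotomy {X : Scheme.{u}} [IsIntegral X] {K : Type u} [Field K] (q : X ⟶ Spec (CommRingCat.of K))
    [IsProper q] (hdim : topologicalKrullDim X = 1) (θ : X ⟶ X) (hθ : IsClosedMap θ) :
    (∀ y, θ y = θ (genericPoint X)) ∨
      (∀ x, x ≠ genericPoint X → ∃ y, y ≠ genericPoint X ∧ θ y = x) := by
  have key : ∀ Z : Set X, IsClosed Z → genericPoint X ∈ Z → Z = Set.univ := by
    intro Z hZ h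
    rw [Set.eq_univ_iff_forall]
    intro y
    have h1 : closure {genericPoint X} ⊆ Z := hZ.closure_subset_iff.mpr (Set.singleton_subset_iff.mpr h)
    apply h1
    have h2 : closure ({genericPoint X} : Set X) = Set.univ := genericPoint_spec X
    rw [h2]
    trivial
  by_cases h : θ (genericPoint X) = genericPoint X
  · right
    intro x hx
    have h1 := key (Set.range θ) hθ.isClosed_range ⟨_, h⟩
    have h2 : x ∈ Set.range θ := by rw [h1]; trivial
    obtain ⟨y, rfl⟩ := h2
    exact ⟨y, fun hy => hx (by rw [hy, h]), rfl⟩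
  · left
    intro y
    have h1 : IsClosed ({θ (genericPoint X)} : Set X) := (CurvesA.CurveDvr.isClosed_singleton_iff hdim _).mpr h
    have h2 := key (θ ⁻¹' {θ (genericPoint X)}) (h1.preimage θ.continuous) rfl
    have h3 : y ∈ θ ⁻¹' {θ (genericPoint X)} := by rw [h2]; trivial
    exact h3

/-- Not all points of a smooth affine Weierstrass curve are fixed by negation. -/
theorem exists_ne_neg {K : Type u} [Field K] [IsAlgClosed K] (W : WeierstrassCurve K)
    (hsm : (iU W).FormallySmooth) (hall : ∀ a b : K, WEq W (RingHom.id K) a b → 2 * b + W.a₁ * a + W.a₃ = 0) :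
    False := by
  have hroot : ∀ a : K, ∃ b : K, WEq W (RingHom.id K) a b := by
    intro a
    let p : Polynomial K := Polynomial.X ^ 2 + Polynomial.C (W.a₁ * a + W.a₃) * Polynomial.X +
      Polynomial.C (-(a ^ 3 + W.a₂ * a ^ 2 + W.a₄ * a + W.a₆))
    have hp : p.degree = 2 := by
      have : p = Polynomial.C 1 * Polynomial.X ^ 2 + Polynomial.C (W.a₁ * a + W.a₃) * Polynomial.X +
        Polynomial.C (-(a ^ 3 + W.a₂ * a ^ 2 + W.a₄ * a + W.a₆)) := by simp [p]
      rw [this]
      exact Polynomial.degree_quadratic one_ne_zero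
    obtain ⟨b, hb⟩ := IsAlgClosed.exists_root p (by rw [hp]; norm_num)
    refine ⟨b, ?_⟩
    unfold WEq
    simp only [Polynomial.IsRoot, p, Polynomial.eval_add, Polynomial.eval_pow, Polynomial.eval_X,
      Polynomial.eval_mul, Polynomial.eval_C] at hb
    simp only [RingHom.id_apply]
    linear_combination hb
  by_cases h2 : (2 : K) = 0
  · obtain ⟨b0, hb0⟩ := hroot 0
    obtain ⟨b1, hb1⟩ := hroot 1
    have ha3 : W.a₃ = 0 := by
      have := hall 0 b0 hb0
      rw [h2] at this
      linear_combination this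
    have ha1 : W.a₁ = 0 := by
      have := hall 1 b1 hb1
      rw [h2, ha3] at this
      linear_combination this
    obtain ⟨a, ha⟩ := IsAlgClosed.exists_eq_mul_self (-W.a₄)
    obtain ⟨b, hb⟩ := hroot a
    let _ : Algebra K (RU W) := (iU W).toAlgebra
    have hs : Algebra.FormallySmooth K (RU W) := hsm
    refine VarietyA.EllNonsing.partial_ne_zero W (xU W) (yU W) (wEq_U W) ?_ (RingHom.id K) a b hb ?_ ?_
    · intro B _ s a b h
      exact ⟨liftU s a b h, liftU_comp s a b h, liftU_x s a b h, liftU_y s a b h⟩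
    · simp only [RingHom.id_apply]
      rw [ha1]
      linear_combination (-3) * ha * (-1) + (W.a₄ - W.a₂ * a) * h2
    · exact hall a b hb
  · let p : Polynomial K := Polynomial.C 4 * Polynomial.X ^ 3 + Polynomial.C (W.a₁ ^ 2 + 4 * W.a₂) * Polynomial.X ^ 2 +
      Polynomial.C (2 * W.a₁ * W.a₃ + 4 * W.a₄) * Polynomial.X + Polynomial.C (W.a₃ ^ 2 + 4 * W.a₆)
    have h4 : (4 : K) ≠ 0 := by
      have : (4 : K) = 2 * 2 := by norm_num
      rw [this]
      exact mul_ne_zero h2 h2
    have hp : p.degree = 3 := Polynomial.degree_cubic h4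
    have hp0 : p = 0 := by
      apply Polynomial.funext
      intro a
      obtain ⟨b, hb⟩ := hroot a
      have h5 := hall a b hb
      unfold WEq at hb
      simp only [RingHom.id_apply] at hb
      simp only [p, Polynomial.eval_add, Polynomial.eval_pow, Polynomial.eval_X,
        Polynomial.eval_mul, Polynomial.eval_C, Polynomial.eval_zero]
      linear_combination (-4) * hb + (2 * b + W.a₁ * a + W.a₃) * h5
    rw [hp0, Polynomial.degree_zero] at hp
    cases hp

set_option linter.unusedSectionVars false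

section Main

variable {K : Type u} [Field K] [IsAlgClosed K] (G : Over (Spec (CommRingCat.of K))) [GrpObj G]
  (hG : AgPol.IsAbSch G 1)

include hG in
theorem isIntegral_left : IsIntegral G.left ∧ topologicalKrullDim G.left = 1 := by
  obtain ⟨h1, h2, -⟩ := Genus.ellFib G hG K (𝟙 _) G.left (𝟙 _) G.hom
    (IsPullback.of_horiz_isIso ⟨by rw [Category.id_comp, Category.comp_id]⟩)
  exact ⟨h1, h2⟩

include hG in
theorem isCommMonObj : IsCommMonObj G := by
  have h1 := hG.proper
  have h2 : GeometricallyIntegral G.hom := ⟨fun K _ y Z fst snd h => (Genus.ellFib G hG K y Z fst snd h).1⟩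
  exact isCommMonObj_of_isProper_of_geometricallyIntegral G

/-- Two rational points with the same underlying point are equal. -/
theorem point_ext [LocallyOfFiniteType G.hom] {P Q : 𝟙_ (Over (Spec (CommRingCat.of K))) ⟶ G}
    (h : P.left (IsLocalRing.closedPoint K) = Q.left (IsLocalRing.closedPoint K)) : P = Q := by
  have hP : P.left ≫ G.hom = 𝟙 _ := Over.w P
  have hQ : Q.left ≫ G.hom = 𝟙 _ := Over.w Q
  exact Over.OverMorphism.ext (ext_of_apply_closedPoint_eq G.hom hP hQ h)

variable {U : G.left.Opens} {W : WeierstrassCurve K} (c : Co W G.hom η[G].left U)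

include hG in
/-- The endomorphism `(x, y) ↦ (x, -y - a₁ x - a₃)`. -/
theorem exists_neg_hom : ∃ nu : G ⟶ G, IsMonHom nu ∧
    (∀ (P : 𝟙_ (Over (Spec (CommRingCat.of K))) ⟶ G) (hP : ⊤ ≤ P.left ⁻¹ᵁ U),
      ∃ hP' : ⊤ ≤ (P ≫ nu).left ⁻¹ᵁ U, ev (P ≫ nu).left U hP' c.c.x = ev P.left U hP c.c.x ∧
        ev (P ≫ nu).left U hP' c.c.y =
          - ev P.left U hP c.c.y - W.a₁ * ev P.left U hP c.c.x - W.a₃) := by
  have h1 := hG.proper
  have h2 := hG.smooth
  have h3 := hG.geomConnected
  have hq := Genus.ellFib G hG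
  have h4 := geometricallyReduced_of_ellFib hq
  have he : η[G].left ≫ G.hom = 𝟙 _ := Over.w η[G]
  have i1 := c.isIso_hom hq he
  obtain ⟨c', hx, hy⟩ := exists_neg he c
  let nu : G ⟶ G := Over.homMk (c'.hom ≫ inv c.hom) (by
    have h2 : inv c.hom ≫ G.hom = str W := by rw [IsIso.inv_comp_eq, c.hom_str]
    rw [Category.assoc, h2, c'.hom_str])
  have hn : η[G] ≫ nu = η[G] := by
    ext1
    change η[G].left ≫ c'.hom ≫ inv c.hom = η[G].left
    rw [← Category.assoc, c'.comp_hom he, IsIso.comp_inv_eq, c.comp_hom he]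
  refine ⟨nu, Groth.Agent.S7784.result G G nu hn, ?_⟩
  intro P hP
  have hPq : P.left ≫ G.hom = 𝟙 _ := Over.w P
  have hPq' : (P ≫ nu).left ≫ G.hom = 𝟙 _ := Over.w (P ≫ nu)
  have e1 : (P ≫ nu).left ≫ c.hom = P.left ≫ c'.hom := by
    change (P.left ≫ c'.hom ≫ inv c.hom) ≫ c.hom = _
    rw [Category.assoc, Category.assoc, IsIso.inv_hom_id, Category.comp_id]
  have e2 : P.left ≫ c'.hom = _ := comp_hom_of_le c'.c c'.cover P.left hPq hP
  obtain ⟨hP', g1, g2⟩ := exists_of_comp_hom he c (P ≫ nu).left hPq' (e1.trans e2)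
  refine ⟨hP', g1.trans (by rw [hx]), g2.trans ?_⟩
  rw [hy, map_sub, map_sub, map_neg, map_mul, ev_sc _ _ hPq, ev_sc _ _ hPq]

theorem formallySmooth_iU [Smooth G.hom] [IsIso c.hom] : (iU W).FormallySmooth := by
  have h2 : inv c.hom ≫ G.hom = str W := by rw [IsIso.inv_comp_eq, c.hom_str]
  have h3 : Smooth (str W) := by rw [← h2]; infer_instance
  have h4 : Smooth (Spec.map (CommRingCat.ofHom (iU W))) := by
    rw [← ιU_str]
    infer_instance
  have h5 : (iU W).Smooth := (HasRingHomProperty.Spec_iff (P := @Smooth)).mp h4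
  exact h5.formallySmooth

include hG in
/-- **The inverse of a point in Weierstrass coordinates.** -/
theorem exists_inv (P : 𝟙_ (Over (Spec (CommRingCat.of K))) ⟶ G) (hP : ⊤ ≤ P.left ⁻¹ᵁ U) :
    ∃ hP' : ⊤ ≤ (P⁻¹).left ⁻¹ᵁ U, ev (P⁻¹).left U hP' c.c.x = ev P.left U hP c.c.x ∧
        ev (P⁻¹).left U hP' c.c.y = - ev P.left U hP c.c.y - W.a₁ * ev P.left U hP c.c.x - W.a₃ := by
  have h1 := hG.proper
  have h2 := hG.smooth
  have h3 := hG.geomConnected
  have hq := Genus.ellFib G hG
  have he : η[G].left ≫ G.hom = 𝟙 _ := Over.w η[G]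
  have i1 := c.isIso_hom hq he
  have i2 := isCommMonObj G hG
  obtain ⟨hint, hdim⟩ := isIntegral_left G hG
  obtain ⟨nu, hn, hco⟩ := exists_neg_hom G hG c
  have hη : ∀ P : 𝟙_ (Over (Spec (CommRingCat.of K))) ⟶ G, ¬ ⊤ ≤ P.left ⁻¹ᵁ U → P = 1 := by
    intro P h
    have : P = η[G] := Over.OverMorphism.ext (eq_of_not_le he c P.left (Over.w P) h)
    rw [this]
    exact MonObj.one_eq_one G
  -- `nu` is an involution on points
  have hnn : ∀ P : 𝟙_ (Over (Spec (CommRingCat.of K))) ⟶ G, (P ≫ nu) ≫ nu = P := by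
    intro P
    by_cases h : ⊤ ≤ P.left ⁻¹ᵁ U
    · obtain ⟨h', g1, g2⟩ := hco P h
      obtain ⟨h'', g3, g4⟩ := hco (P ≫ nu) h'
      apply Over.OverMorphism.ext
      refine eq_of_coords c _ _ (Over.w _) (Over.w _) h'' h ?_ ?_
      · rw [g3, g1]
      · rw [g4, g2, g1]; ring
    · rw [hη P h, MonObj.one_comp, MonObj.one_comp]
  let θ : G ⟶ G := 𝟙 G * nu
  have hθ : ∀ P : 𝟙_ (Over (Spec (CommRingCat.of K))) ⟶ G, P ≫ θ = P * (P ≫ nu) := by
    intro P
    simp only [θ]
    rw [MonObj.comp_mul, Category.comp_id]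
  have hfix : ∀ P : 𝟙_ (Over (Spec (CommRingCat.of K))) ⟶ G, (P ≫ θ) ≫ nu = P ≫ θ := by
    intro P
    rw [hθ, MonObj.mul_comp, hnn, mul_comm]
  have hθp : IsProper θ.left := by
    have : IsProper (θ.left ≫ G.hom) := by rw [Over.w]; infer_instance
    exact IsProper.of_comp θ.left G.hom
  have main : ∀ P : 𝟙_ (Over (Spec (CommRingCat.of K))) ⟶ G, P * (P ≫ nu) = 1 := by
    rcases dichotomy G.hom hdim θ.left θ.left.isClosedMap with hcase | hcase
    · intro P
      rw [← hθ]
      have e1 : (η[G] ≫ θ) = 1 := by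
        have : η[G] = 1 := MonObj.one_eq_one G
        rw [hθ, this, MonObj.one_comp, one_mul]
      rw [← e1]
      apply point_ext
      exact (hcase _).trans (hcase _).symm
    · exfalso
      refine exists_ne_neg W (formallySmooth_iU G c) ?_
      intro a b hab
      obtain ⟨R, hR, hU, ha, hb⟩ := exists_point he c hab
      have hRn : R (IsLocalRing.closedPoint K) ≠ genericPoint G.left := by
        rw [← CurvesA.CurveDvr.isClosed_singleton_iff hdim]
        exact ((pointEquivClosedPoint G.hom) ⟨R, hR⟩).2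
      obtain ⟨y, hy, hyR⟩ := hcase _ hRn
      have hy' : IsClosed ({y} : Set G.left) := (CurvesA.CurveDvr.isClosed_singleton_iff hdim _).mpr hy
      let Q : 𝟙_ (Over (Spec (CommRingCat.of K))) ⟶ G :=
        Over.homMk (pointOfClosedPoint G.hom y hy') (pointOfClosedPoint_comp G.hom y hy')
      let R' : 𝟙_ (Over (Spec (CommRingCat.of K))) ⟶ G := Over.homMk R hR
      have e1 : Q ≫ θ = R' := by
        apply point_ext
        exact (congrArg θ.left (pointOfClosedPoint_apply G.hom y hy' _)).trans hyR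
      have e2 := hfix Q
      rw [e1] at e2
      obtain ⟨h', g1, g2⟩ := hco R' hU
      have g3 : ev (R' ≫ nu).left U h' c.c.y = ev R U hU c.c.y := by
        have : ∀ (T : 𝟙_ (Over (Spec (CommRingCat.of K))) ⟶ G) (_ : T = R') (h' : ⊤ ≤ T.left ⁻¹ᵁ U),
            ev T.left U h' c.c.y = ev R U hU c.c.y := by
          rintro _ rfl h'
          rfl
        exact this _ e2 h'
      rw [g3] at g2
      have g4 : ev R'.left U hU c.c.y = b := hb
      have g5 : ev R'.left U hU c.c.x = a := ha
      rw [g4, g5, hb] at g2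
      linear_combination g2
  have hinv : P⁻¹ = P ≫ nu := inv_eq_of_mul_eq_one_right (main P)
  rw [hinv]
  exact hco P hP

end Main

end K820.FieldGrp
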