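import Groth.Agent.EllLift.K820.CoPt
import Mathlib.AlgebraicGeometry.AlgClosed.Basic

/-!
# Points of a curve with Weierstrass coordinates over an algebraically closed field
-/

set_option autoImplicit false
universe u

open CategoryTheory CategoryTheory.Limits AlgebraicGeometry Opposite

namespace K820.EW

open Groth.Agent.VarietyA.Ell (WEq WEqInf sc)
open Groth.Agent LD LD.LeadData

theorem pt_congr {A : Type u} [CommRing A] {W : WeierstrassCurve A} {a b a' b' : A}
    {h : WEq W (RingHom.id A) a b} {h' : WEq W (RingHom.id A) a' b'} (ha : a = a') (hb : b = b') :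
    pt W a b h = pt W a' b' h' := by
  subst ha hb
  rfl

theorem pt_injective {A : Type u} [CommRing A] {W : WeierstrassCurve A} {a b a' b' : A}
    {h : WEq W (RingHom.id A) a b} {h' : WEq W (RingHom.id A) a' b'} (e : pt W a b h = pt W a' b' h') :
    a = a' ∧ b = b' := by
  rw [pt, pt, cancel_mono] at e
  have h1 := congrArg CommRingCat.Hom.hom (Spec.map_injective e)
  constructor
  · have h2 := congrArg (fun t : RU W →+* A => t (xU W)) h1
    change liftU _ _ _ h (xU W) = liftU _ _ _ h' (xU W) at h2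
    rwa [liftU_x, liftU_x] at h2
  · have h2 := congrArg (fun t : RU W →+* A => t (yU W)) h1
    change liftU _ _ _ h (yU W) = liftU _ _ _ h' (yU W) at h2
    rwa [liftU_y, liftU_y] at h2

theorem zero_ne_pt {K : Type u} [Field K] {W : WeierstrassCurve K} {a b : K}
    {h : WEq W (RingHom.id K) a b} : zero W ≠ pt W a b h := by
  intro e
  obtain ⟨p⟩ : Nonempty (Spec (CommRingCat.of K)) := inferInstanceAs (Nonempty (PrimeSpectrum K))
  have h1 : zero W p = pt W a b h p := by rw [e]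
  rw [zero, pt, Scheme.Hom.comp_apply, Scheme.Hom.comp_apply] at h1
  have h2 := (ιC_mem_range_ιU W _).mp (by rw [h1]; exact ⟨_, rfl⟩ : ιC W (Spec.map (CommRingCat.ofHom
    (liftC (W := W) (RingHom.id K) 0 0 (wEqInf_zero W))) p) ∈ (ιU W).opensRange)
  apply h2
  change liftC (RingHom.id K) 0 0 (wEqInf_zero W) (wC W) ∈ p.asIdeal
  rw [liftC_w]
  exact Ideal.zero_mem _

section

variable {K : Type u} [Field K] {X : Scheme.{u}} {q : X ⟶ Spec (CommRingCat.of K)}
  {e : Spec (CommRingCat.of K) ⟶ X} {U : X.Opens} (he : e ≫ q = 𝟙 _) {W : WeierstrassCurve K} (c : Co W q e U)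
  [IsIso c.hom]

include c in
omit [IsIso c.hom] in
theorem not_le_iff (R : Spec (CommRingCat.of K) ⟶ X) :
    ¬ ⊤ ≤ R ⁻¹ᵁ U ↔ ∃ p p', R p = e p' := by
  constructor
  · intro h
    by_contra hcon
    apply h
    intro p _
    change R p ∈ U
    rw [c.hU]
    rintro ⟨p', hp'⟩
    exact hcon ⟨p, p', hp'.symm⟩
  · rintro ⟨p, p', h⟩ hle
    have h1 : R p ∈ U := hle (x := p) trivial
    rw [c.hU] at h1
    exact h1 ⟨p', h.symm⟩

variable [IsAlgClosed K] [LocallyOfFiniteType q]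

include c he in
omit [IsIso c.hom] in
/-- A rational point which is not in the affine part is the origin. -/
theorem eq_of_not_le (R : Spec (CommRingCat.of K) ⟶ X) (hR : R ≫ q = 𝟙 _) (h : ¬ ⊤ ≤ R ⁻¹ᵁ U) : R = e := by
  obtain ⟨p, p', hp⟩ := (not_le_iff c R).mp h
  have h1 : p = IsLocalRing.closedPoint K := Subsingleton.elim (α := PrimeSpectrum K) _ _
  have h2 : p' = IsLocalRing.closedPoint K := Subsingleton.elim (α := PrimeSpectrum K) _ _
  rw [h1, h2] at hp
  exact ext_of_apply_closedPoint_eq q hR he hp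

include he in
omit [IsIso c.hom] in
/-- A rational point mapping to an affine point is in the affine part. -/
theorem exists_of_comp_hom (R : Spec (CommRingCat.of K) ⟶ X) (hR : R ≫ q = 𝟙 _) {a b : K}
    {h : WEq W (RingHom.id K) a b} (hc : R ≫ c.hom = pt W a b h) :
    ∃ hU : ⊤ ≤ R ⁻¹ᵁ U, ev R U hU c.c.x = a ∧ ev R U hU c.c.y = b := by
  have hU : ⊤ ≤ R ⁻¹ᵁ U := by
    by_contra hcon
    have := eq_of_not_le he c R hR hcon
    rw [this, c.comp_hom he] at hc
    exact zero_ne_pt hc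
  refine ⟨hU, ?_⟩
  have h1 : R ≫ c.hom = _ := comp_hom_of_le c.c c.cover R hR hU
  rw [h1] at hc
  exact pt_injective hc

include he in
theorem exists_point {a b : K} (h : WEq W (RingHom.id K) a b) :
    ∃ R : Spec (CommRingCat.of K) ⟶ X, R ≫ q = 𝟙 _ ∧ ∃ hU : ⊤ ≤ R ⁻¹ᵁ U, ev R U hU c.c.x = a ∧ ev R U hU c.c.y = b := by
  have h1 : (pt W a b h ≫ inv c.hom) ≫ q = 𝟙 _ := by
    have h2 : inv c.hom ≫ q = str W := by rw [IsIso.inv_comp_eq, c.hom_str]
    rw [Category.assoc, h2, pt_str]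
  exact ⟨pt W a b h ≫ inv c.hom, h1, exists_of_comp_hom he c _ h1 (h := h) (by
    rw [Category.assoc, IsIso.inv_hom_id, Category.comp_id])⟩

omit [IsAlgClosed K] [LocallyOfFiniteType q] in
theorem eq_of_coords (R R' : Spec (CommRingCat.of K) ⟶ X) (hR : R ≫ q = 𝟙 _) (hR' : R' ≫ q = 𝟙 _)
    (hU : ⊤ ≤ R ⁻¹ᵁ U) (hU' : ⊤ ≤ R' ⁻¹ᵁ U) (hx : ev R U hU c.c.x = ev R' U hU' c.c.x)
    (hy : ev R U hU c.c.y = ev R' U hU' c.c.y) : R = R' := by
  have h1 : R ≫ c.hom = _ := comp_hom_of_le c.c c.cover R hR hU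
  have h2 : R' ≫ c.hom = _ := comp_hom_of_le c.c c.cover R' hR' hU'
  rw [← cancel_mono c.hom, h1, h2]
  exact pt_congr hx hy

end

/-- The coordinates `(x, -y - a₁ x - a₃)`. -/
theorem exists_neg {A : Type u} [CommRing A] {X : Scheme.{u}} {q : X ⟶ Spec (CommRingCat.of A)}
    {e : Spec (CommRingCat.of A) ⟶ X} {U : X.Opens} [IsSeparated q] (he : e ≫ q = 𝟙 _) {W : WeierstrassCurve A}
    (c : Co W q e U) : ∃ c' : Co W q e U, c'.c.x = c.c.x ∧
      c'.c.y = -c.c.y - sc q U W.a₁ * c.c.x - sc q U W.a₃ := by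
  obtain ⟨u, h2, h3⟩ := c.exists_lead (c.toSecData he) rfl
  set S := c.toSecData he with hS
  have h4 := ((h3.neg).sub ((h2.smul W.a₁).up (by norm_num : 2 < 3))).sub
    ((lead_const (D := S.lead) W.a₃).up (by norm_num : 0 < 3))
  have e1 : -c.c.y - S.lead.iP W.a₁ * c.c.x - S.lead.iP W.a₃ =
      -c.c.y - sc q U W.a₁ * c.c.x - sc q U W.a₃ := rfl
  rw [e1] at h4
  have h5 : S.lead.Lead 3 (-c.c.y - sc q U W.a₁ * c.c.x - sc q U W.a₃) ((-(u ^ 3) : Aˣ) : A) := by
    convert h4 using 1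
    simp
  refine S.exists_co_of h2 h5 W ?_
  have h1 := c.c.eqU
  unfold WEq at h1 ⊢
  linear_combination h1

end K820.EW
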