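import Groth.Agent.EllLift.K820.FamGlue

/-!
# Extending isomorphisms from the generic fibre
-/

set_option autoImplicit false
universe u

open CategoryTheory CategoryTheory.Limits MonoidalCategory CartesianMonoidalCategory AlgebraicGeometry Opposite
open scoped MonObj

namespace K820.EW

open Groth.Agent

/-- The spectrum of a local ring of `S`. -/
noncomputable abbrev jx (S : Scheme.{u}) (x : S) : Spec (CommRingCat.of (S.presheaf.stalk x)) ⟶ S := S.fromSpecStalk x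

/-- The germ of global sections. -/
noncomputable abbrev gx {S : Scheme.{u}} (x : S) : Γ(S, ⊤) →+* S.presheaf.stalk x := (S.presheaf.germ ⊤ x trivial).hom

variable {S : Scheme.{u}} {J : Over S} [GrpObj J] {σ₀ σ₁ : 𝟙_ (Over S) ⟶ J}

theorem exists_stalk (hJ : AgPol.IsAbSch J 1) (hgood : LevelGrp.Good J σ₀ σ₁) {W : WeierstrassCurve Γ(S, ⊤)}
    {Ψ : J.left ⟶ E W} (h : ∀ (T : S.Opens) (hT : (nBasis hJ hgood).P T),
        ∃ c : CoJ J (jT ((nBasis hJ hgood).aff hT)) (W.map (rT (le_top : T ≤ ⊤))),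
        Norm c (secJ J (jT ((nBasis hJ hgood).aff hT)) σ₀) (secJ J (jT ((nBasis hJ hgood).aff hT)) σ₁) ∧
        gJ J (jT ((nBasis hJ hgood).aff hT)) ≫ Ψ = c.hom ≫ bc W (rT (le_top : T ≤ ⊤))) (x : S) :
    ∃ c : CoJ J (jx S x) (W.map (gx x)), Norm c (secJ J (jx S x) σ₀) (secJ J (jx S x) σ₁) ∧
      gJ J (jx S x) ≫ Ψ = c.hom ≫ bc W (gx x) := by
  have hJp := hJ.proper
  obtain ⟨T, hT, hx⟩ := (nBasis hJ hgood).ex x
  obtain ⟨c, n, hc⟩ := h T hT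
  have hTa := (nBasis hJ hgood).aff hT
  let φ : Γ(S, T) →+* S.presheaf.stalk x := (S.presheaf.germ T x hx).hom
  have hj : Spec.map (CommRingCat.ofHom φ) ≫ jT hTa = jx S x := hTa.fromSpecStalk_eq_fromSpecStalk hx
  have hφ : φ.Flat := by
    have := hTa.isLocalization_stalk ⟨x, hx⟩
    let _ : Algebra Γ(S, T) (S.presheaf.stalk x) := φ.toAlgebra
    have h1 : IsLocalization.AtPrime (S.presheaf.stalk x) (hTa.primeIdealOf ⟨x, hx⟩).asIdeal := this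
    have h2 : Module.Flat Γ(S, T) (S.presheaf.stalk x) :=
      IsLocalization.flat _ (hTa.primeIdealOf ⟨x, hx⟩).asIdeal.primeCompl
    exact h2
  obtain ⟨c', n', h'⟩ := exists_map J σ₀ σ₁ φ (jT hTa) (jx S x) hj hφ c n
  have hcomp : φ.comp (rT (le_top : T ≤ ⊤)) = gx x := by
    have h3 : S.presheaf.map (homOfLE (le_top : T ≤ ⊤)).op ≫ S.presheaf.germ T x hx =
      S.presheaf.germ ⊤ x trivial := S.presheaf.germ_res _ _ _
    exact congrArg CommRingCat.Hom.hom h3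
  have key : ∀ ρ : Γ(S, ⊤) →+* S.presheaf.stalk x, φ.comp (rT (le_top : T ≤ ⊤)) = ρ →
      ∃ c : CoJ J (jx S x) (W.map ρ), Norm c (secJ J (jx S x) σ₀) (secJ J (jx S x) σ₁) ∧
      gJ J (jx S x) ≫ Ψ = c.hom ≫ bc W ρ := by
    rintro _ rfl
    refine ⟨c', n', ?_⟩
    have h1 := bc_comp W (rT (le_top : T ≤ ⊤)) φ
    have h4 : gJ J (jx S x) = mapJ J φ (jT hTa) (jx S x) hj ≫ gJ J (jT hTa) := (mapJ_g J φ (jT hTa) (jx S x) hj).symm
    have h5 : gJ J (jx S x) ≫ Ψ = c'.hom ≫ bc (W.map (rT (le_top : T ≤ ⊤))) φ ≫ bc W (rT (le_top : T ≤ ⊤)) := by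
      rw [h4, Category.assoc, hc, ← Category.assoc c'.hom, h', Category.assoc]
    rw [h5, ← h1]
    rfl
  exact key _ hcomp

section Ext

variable {E₁ E₂ : Over S} [GrpObj E₁] [GrpObj E₂] {A : Type u} [CommRing A] {j : Spec (CommRingCat.of A) ⟶ S}

/-- Transport of normalised coordinates along an isomorphism. -/
theorem exists_transport (h2 : AgPol.IsAbSch E₂ 1) {τ₀ τ₁ : 𝟙_ (Over S) ⟶ E₁}
    {τ₀' τ₁' : 𝟙_ (Over S) ⟶ E₂} (hsep : IsSeparated E₁.hom)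
    (a : XJ E₁ j ≅ XJ E₂ j) (ha : a.hom ≫ qJ E₂ j = qJ E₁ j)
    (a0 : secJ E₁ j η[E₁] ≫ a.hom = secJ E₂ j η[E₂])
    (a1 : secJ E₁ j τ₀ ≫ a.hom = secJ E₂ j τ₀') (a2 : secJ E₁ j τ₁ ≫ a.hom = secJ E₂ j τ₁')
    {R : Type u} [CommRing R] {W : WeierstrassCurve R} (g : R →+* A) (c : CoJ E₂ j (W.map g))
    (n : Norm c (secJ E₂ j τ₀') (secJ E₂ j τ₁')) :
    ∃ d : CoJ E₁ j (W.map g), Norm d (secJ E₁ j τ₀) (secJ E₁ j τ₁) ∧
      d.hom ≫ bc W g = a.hom ≫ c.hom ≫ bc W g := by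
  have hsep2 := h2.proper
  have hid : Spec.map (CommRingCat.ofHom (RingHom.id A)) = 𝟙 _ := Spec.map_id _
  have hP : IsPullback a.hom (qJ E₁ j) (qJ E₂ j) (Spec.map (CommRingCat.ofHom (RingHom.id A))) := by
    rw [hid]
    exact IsPullback.of_horiz_isIso ⟨by rw [ha, Category.comp_id]⟩
  have e0 : secJ E₁ j η[E₁] ≫ a.hom = Spec.map (CommRingCat.ofHom (RingHom.id A)) ≫ secJ E₂ j η[E₂] := by
    rw [hid, Category.id_comp, a0]
  have e1 : secJ E₁ j τ₀ ≫ a.hom = Spec.map (CommRingCat.ofHom (RingHom.id A)) ≫ secJ E₂ j τ₀' := by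
    rw [hid, Category.id_comp, a1]
  have e2 : secJ E₁ j τ₁ ≫ a.hom = Spec.map (CommRingCat.ofHom (RingHom.id A)) ≫ secJ E₂ j τ₁' := by
    rw [hid, Category.id_comp, a2]
  have hU : cU (secJ E₁ j η[E₁]) = a.hom ⁻¹ᵁ cU (secJ E₂ j η[E₂]) := by
    ext y
    change y ∈ cU (secJ E₁ j η[E₁]) ↔ y ∈ a.hom ⁻¹ᵁ cU (secJ E₂ j η[E₂])
    rw [mem_cU, compl_pull (RingHom.id A) hP (secJ_q E₂ j η[E₂]) (secJ_q E₁ j η[E₁]) e0 (mem_cU _)]
  have hflat : (RingHom.id A).Flat := RingHom.Flat.id A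
  have key : ∀ U' : (XJ E₁ j).Opens, U' = a.hom ⁻¹ᵁ cU (secJ E₂ j η[E₂]) →
      ∀ ρ : R →+* A, (RingHom.id A).comp g = ρ →
      ∃ d : Co (W.map ρ) (qJ E₁ j) (secJ E₁ j η[E₁]) U', Norm d (secJ E₁ j τ₀) (secJ E₁ j τ₁) ∧
      d.hom ≫ bc W ρ = a.hom ≫ c.hom ≫ bc W g := by
    rintro _ rfl _ rfl
    refine ⟨c.pull (RingHom.id A) hP (secJ_q E₂ j η[E₂]) (secJ_q E₁ j η[E₁]) e0 hflat,
      n.pull (RingHom.id A) hP (secJ_q E₂ j η[E₂]) (secJ_q E₁ j η[E₁]) e0 hflat e1 e2, ?_⟩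
    have h3 := Co.pull_hom (RingHom.id A) hP (secJ_q E₂ j η[E₂]) (secJ_q E₁ j η[E₁]) e0 c hflat
    have h4 := bc_comp W g (RingHom.id A)
    have h5 : (c.pull (RingHom.id A) hP (secJ_q E₂ j η[E₂]) (secJ_q E₁ j η[E₁]) e0 hflat).hom ≫
        bc (W.map g) (RingHom.id A) ≫ bc W g = a.hom ≫ c.hom ≫ bc W g := by
      rw [← Category.assoc, h3, Category.assoc]
    rw [← h4] at h5
    exact h5
  exact key _ hU _ (RingHom.id_comp g)

theorem map_injective {R R' : Type u} [CommRing R] [CommRing R'] {g : R →+* R'} (hg : Function.Injective g)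
    {W W' : WeierstrassCurve R} (h : W.map g = W'.map g) : W = W' :=
  W_ext (hg (congrArg WeierstrassCurve.a₁ h)) (hg (congrArg WeierstrassCurve.a₂ h))
    (hg (congrArg WeierstrassCurve.a₃ h)) (hg (congrArg WeierstrassCurve.a₄ h)) (hg (congrArg WeierstrassCurve.a₆ h))

/-- **Extension of isomorphisms compatible with two sections.** -/
theorem exists_ext (h1 : AgPol.IsAbSch E₁ 1) (h2 : AgPol.IsAbSch E₂ 1) {τ₀ τ₁ : 𝟙_ (Over S) ⟶ E₁}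
    {τ₀' τ₁' : 𝟙_ (Over S) ⟶ E₂} (hg : LevelGrp.Good E₁ τ₀ τ₁) (hg' : LevelGrp.Good E₂ τ₀' τ₁') (x : S)
    (hx : Function.Injective (gx x)) (a : XJ E₁ (jx S x) ≅ XJ E₂ (jx S x))
    (ha : a.hom ≫ qJ E₂ (jx S x) = qJ E₁ (jx S x))
    (a0 : secJ E₁ (jx S x) η[E₁] ≫ a.hom = secJ E₂ (jx S x) η[E₂])
    (a1 : secJ E₁ (jx S x) τ₀ ≫ a.hom = secJ E₂ (jx S x) τ₀')
    (a2 : secJ E₁ (jx S x) τ₁ ≫ a.hom = secJ E₂ (jx S x) τ₁') :
    ∃ θ : E₁ ≅ E₂, η[E₁] ≫ θ.hom = η[E₂] ∧ gJ E₁ (jx S x) ≫ θ.hom.left = a.hom ≫ gJ E₂ (jx S x) := by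
  have hp1 := h1.proper
  obtain ⟨W, Ψ, hΨ, hη, hc⟩ := exists_model h1 hg
  obtain ⟨W', Ψ', hΨ', hη', hc'⟩ := exists_model h2 hg'
  obtain ⟨c, n, hcΨ⟩ := exists_stalk h1 hg hc x
  obtain ⟨c', n', hcΨ'⟩ := exists_stalk h2 hg' hc' x
  obtain ⟨d, nd, hd⟩ := exists_transport h2 inferInstance a ha a0 a1 a2 (gx x) c' n'
  have hWW : W = W' := map_injective hx (norm_unique h1 n nd).1
  subst hWW
  have hcd : c.hom = d.hom := eq_of_heq (norm_unique h1 n nd).2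
  have hgg : gJ E₁ (jx S x) ≫ Ψ = a.hom ≫ gJ E₂ (jx S x) ≫ Ψ' := by
    rw [hcΨ, hcΨ', hcd, hd]
  have i1 : (hΨ.isoIsPullback _ _ hΨ').hom ≫ Ψ' = Ψ := IsPullback.isoIsPullback_hom_fst _ _ hΨ hΨ'
  have i2 : (hΨ.isoIsPullback _ _ hΨ').hom ≫ E₂.hom = E₁.hom := IsPullback.isoIsPullback_hom_snd _ _ hΨ hΨ'
  let θ : E₁ ≅ E₂ := Over.isoMk (hΨ.isoIsPullback _ _ hΨ') i2
  refine ⟨θ, ?_, ?_⟩
  · apply Over.OverMorphism.ext
    apply hΨ'.hom_ext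
    · change ((η[E₁] : 𝟙_ (Over S) ⟶ E₁).left ≫ (hΨ.isoIsPullback _ _ hΨ').hom) ≫ Ψ' = _
      rw [Category.assoc, i1]
      exact hη.trans hη'.symm
    · exact (Over.w (η[E₁] ≫ θ.hom)).trans (Over.w η[E₂]).symm
  · apply hΨ'.hom_ext
    · change (gJ E₁ (jx S x) ≫ (hΨ.isoIsPullback _ _ hΨ').hom) ≫ Ψ' = _
      rw [Category.assoc, i1, hgg, Category.assoc]
    · change (gJ E₁ (jx S x) ≫ (hΨ.isoIsPullback _ _ hΨ').hom) ≫ E₂.hom = _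
      have e1 : gJ E₁ (jx S x) ≫ E₁.hom = qJ E₁ (jx S x) ≫ jx S x := pullback.condition
      have e2 : gJ E₂ (jx S x) ≫ E₂.hom = qJ E₂ (jx S x) ≫ jx S x := pullback.condition
      rw [Category.assoc, i2, e1, Category.assoc, e2, ← Category.assoc, ha]

end Ext

end K820.EW
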