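import Groth.Agent.EllLift.K820.Rigid
import Mathlib.RingTheory.IntegralClosure.IsIntegralClosure.Basic
import Mathlib.RingTheory.IntegralClosure.IntegrallyClosed
import Mathlib.RingTheory.LocalRing.ResidueField.Basic
import Mathlib.FieldTheory.IsAlgClosed.Basic

/-!
# Integrality of changes of variables

The coefficients of a change of variables between Weierstrass equations with unit discriminants over `R` are
integral over `R`.
-/

set_option autoImplicit false

namespace K820.IntVC

open WeierstrassCurve K820.Rigid Polynomial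

variable {R S : Type*} [CommRing R] [CommRing S] [Algebra R S]

theorem isIntegral_of_quadratic {x p q : S} (hp : IsIntegral R p) (hq : IsIntegral R q) (h : x ^ 2 + p * x + q = 0) :
    IsIntegral R x := by
  let O := integralClosure R S
  let p' : O := ⟨p, hp⟩
  let q' : O := ⟨q, hq⟩
  have hx : IsIntegral O x := by
    refine ⟨X ^ 2 + C p' * X + C q', by monicity!, ?_⟩
    simp only [eval₂_add, eval₂_mul, eval₂_pow, eval₂_X, eval₂_C]
    exact h
  exact isIntegral_trans x hx

theorem isIntegral_of_quartic {x p q w : S} (hp : IsIntegral R p) (hq : IsIntegral R q) (hw : IsIntegral R w)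
    (h : x ^ 4 + p * x ^ 2 + q * x + w = 0) :
    IsIntegral R x := by
  let O := integralClosure R S
  let p' : O := ⟨p, hp⟩
  let q' : O := ⟨q, hq⟩
  let w' : O := ⟨w, hw⟩
  have hx : IsIntegral O x := by
    refine ⟨X ^ 4 + C p' * X ^ 2 + C q' * X + C w', by monicity!, ?_⟩
    simp only [eval₂_add, eval₂_mul, eval₂_pow, eval₂_X, eval₂_C]
    exact h
  exact isIntegral_trans x hx

theorem pow_twelve_eq (W W' : WeierstrassCurve R) (hW' : IsUnit W'.Δ) (C : VariableChange S)
    (h : C • W.map (algebraMap R S) = W'.map (algebraMap R S)) :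
    (C.u : S) ^ 12 = algebraMap R S (W.Δ * ↑hW'.unit⁻¹) := by
  have h1 := congrArg WeierstrassCurve.Δ h
  rw [variableChange_Δ, units_inv_pow_mul_eq_iff, map_Δ, map_Δ] at h1
  have h2 : algebraMap R S W'.Δ * algebraMap R S ↑hW'.unit⁻¹ = 1 := by
    rw [← map_mul, IsUnit.mul_val_inv, map_one]
  rw [map_mul, h1, mul_assoc, h2, mul_one]

/-- The coefficients of a change of variables between Weierstrass equations with unit discriminants over `R` are
integral over `R`. -/
theorem isIntegral_of_smul_eq (W W' : WeierstrassCurve R) (hW' : IsUnit W'.Δ) (C : VariableChange S)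
    (h : C • W.map (algebraMap R S) = W'.map (algebraMap R S)) :
    IsIntegral R (C.u : S) ∧ IsIntegral R C.r ∧ IsIntegral R C.s ∧ IsIntegral R C.t := by
  have hD := pow_twelve_eq W W' hW' C h
  have hu : IsIntegral R (C.u : S) :=
    IsIntegral.of_pow (n := 12) (by norm_num) (hD ▸ isIntegral_algebraMap)
  have h6 : (algebraMap R S W.b₆) + 2 * C.r * (algebraMap R S W.b₄) + C.r ^ 2 * (algebraMap R S W.b₂)
      + 4 * C.r ^ 3 = (C.u : S) ^ 6 * algebraMap R S W'.b₆ := by
    have h1 := congrArg WeierstrassCurve.b₆ h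
    rwa [variableChange_b₆, units_inv_pow_mul_eq_iff, map_b₆, map_b₆, map_b₄, map_b₂] at h1
  have h8 : (algebraMap R S W.b₈) + 3 * C.r * (algebraMap R S W.b₆) + 3 * C.r ^ 2 * (algebraMap R S W.b₄)
      + C.r ^ 3 * (algebraMap R S W.b₂) + 3 * C.r ^ 4 = (C.u : S) ^ 8 * algebraMap R S W'.b₈ := by
    have h1 := congrArg WeierstrassCurve.b₈ h
    rwa [variableChange_b₈, units_inv_pow_mul_eq_iff, map_b₈, map_b₈, map_b₆, map_b₄, map_b₂] at h1
  have hm : ∀ x : R, algebraMap R S x ∈ integralClosure R S := fun x => isIntegral_algebraMap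
  have hnat : ∀ n : ℕ, (n : S) ∈ integralClosure R S := fun n => natCast_mem _ n
  have hu' : (C.u : S) ∈ integralClosure R S := hu
  have hr : IsIntegral R C.r := by
    refine isIntegral_of_quartic (p := -algebraMap R S W.b₄)
      (q := -((2 : ℕ) * algebraMap R S W.b₆ + (C.u : S) ^ 6 * algebraMap R S W'.b₆))
      (w := -algebraMap R S W.b₈ + (C.u : S) ^ 8 * algebraMap R S W'.b₈) ?_ ?_ ?_ ?_
    · exact neg_mem (hm _)
    · exact neg_mem (add_mem (mul_mem (hnat _) (hm _)) (mul_mem (pow_mem hu' _) (hm _)))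
    · exact add_mem (neg_mem (hm _)) (mul_mem (pow_mem hu' _) (hm _))
    · push_cast; linear_combination C.r * h6 - h8
  have hr' : C.r ∈ integralClosure R S := hr
  obtain ⟨h1, h2, h3, h4, h5⟩ := (smul_eq_iff _ _ _).mp h
  simp only [map_a₁, map_a₂, map_a₃, map_a₄, map_a₆] at h1 h2 h3 h4 h5
  have hs : IsIntegral R C.s := by
    refine isIntegral_of_quadratic (p := algebraMap R S W.a₁)
      (q := -algebraMap R S W.a₂ - (3 : ℕ) * C.r + (C.u : S) ^ 2 * algebraMap R S W'.a₂) (hm _) ?_ ?_
    · exact add_mem (sub_mem (neg_mem (hm _)) (mul_mem (hnat _) hr')) (mul_mem (pow_mem hu' _) (hm _))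
    · push_cast; linear_combination -h2
  have ht : IsIntegral R C.t := by
    refine isIntegral_of_quadratic (p := algebraMap R S W.a₃ + C.r * algebraMap R S W.a₁)
      (q := -(algebraMap R S W.a₆ + C.r * algebraMap R S W.a₄ + C.r ^ 2 * algebraMap R S W.a₂ + C.r ^ 3)
        + (C.u : S) ^ 6 * algebraMap R S W'.a₆) ?_ ?_ ?_
    · exact add_mem (hm _) (mul_mem hr' (hm _))
    · exact add_mem (neg_mem (add_mem (add_mem (add_mem (hm _) (mul_mem hr' (hm _))) (mul_mem (pow_mem hr' _) (hm _)))
        (pow_mem hr' _))) (mul_mem (pow_mem hu' _) (hm _))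
    · linear_combination -h5
  exact ⟨hu, hr, hs, ht⟩

end K820.IntVC
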