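import Groth.Agent.EllLift.K820.Lift
import Mathlib.RingTheory.Etale.Basic
import Mathlib.RingTheory.MvPolynomial.Basic
import Mathlib.Algebra.MvPolynomial.CommRing

/-!
# The algebra of isomorphisms between two Weierstrass equations

`IsomAlg W W'` represents the functor of changes of variables carrying `W` to `W'`.
-/

set_option autoImplicit false
set_option linter.unusedSimpArgs false
set_option linter.dupNamespace false

universe u v w

namespace K820.IsomAlg

open WeierstrassCurve K820.Rigid K820.Lift
open MvPolynomial hiding map_map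

variable {A : Type u} [CommRing A] (W W' : WeierstrassCurve A)

/-- The relations. -/
noncomputable def rel : Fin 6 → MvPolynomial (Fin 5) A :=
  let u : MvPolynomial (Fin 5) A := X 0
  let v : MvPolynomial (Fin 5) A := X 1
  let r : MvPolynomial (Fin 5) A := X 2
  let s : MvPolynomial (Fin 5) A := X 3
  let t : MvPolynomial (Fin 5) A := X 4
  ![u * v - 1,
    C W.a₁ + 2 * s - u * C W'.a₁,
    C W.a₂ - s * C W.a₁ + 3 * r - s ^ 2 - u ^ 2 * C W'.a₂,
    C W.a₃ + r * C W.a₁ + 2 * t - u ^ 3 * C W'.a₃,
    C W.a₄ - s * C W.a₃ + 2 * r * C W.a₂ - (t + r * s) * C W.a₁ + 3 * r ^ 2 - 2 * s * t - u ^ 4 * C W'.a₄,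
    C W.a₆ + r * C W.a₄ + r ^ 2 * C W.a₂ + r ^ 3 - t * C W.a₃ - t ^ 2 - r * t * C W.a₁ - u ^ 6 * C W'.a₆]

/-- The ideal of relations. -/
noncomputable def relIdeal : Ideal (MvPolynomial (Fin 5) A) := Ideal.span (Set.range (rel W W'))

/-- The algebra representing the changes of variables carrying `W` to `W'`. -/
abbrev IsomAlg : Type u := MvPolynomial (Fin 5) A ⧸ relIdeal W W'

theorem mk_rel (i : Fin 6) : (Ideal.Quotient.mk (relIdeal W W')) (rel W W' i) = 0 :=
  Ideal.Quotient.eq_zero_iff_mem.mpr (Ideal.subset_span ⟨i, rfl⟩)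

/-- The class of a variable. -/
noncomputable def var (i : Fin 5) : IsomAlg W W' := Ideal.Quotient.mk _ (X i)

theorem var_mul : var W W' 0 * var W W' 1 = 1 := by
  have h := mk_rel W W' 0
  simp only [rel, Matrix.cons_val_zero, map_sub, map_mul, map_one] at h
  exact sub_eq_zero.mp h

/-- The universal change of variables. -/
noncomputable def univ : VariableChange (IsomAlg W W') :=
  ⟨⟨var W W' 0, var W W' 1, var_mul W W', by rw [mul_comm]; exact var_mul W W'⟩, var W W' 2, var W W' 3, var W W' 4⟩

theorem univ_smul : (univ W W') • (W.map (algebraMap A (IsomAlg W W'))) = W'.map (algebraMap A (IsomAlg W W')) := by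
  refine (smul_eq_iff _ _ _).mpr ⟨?_, ?_, ?_, ?_, ?_⟩
  · have h := mk_rel W W' 1
    simp only [rel, Matrix.cons_val, map_sub, map_add, map_mul, map_pow, sub_eq_zero] at h
    have h2 : (Ideal.Quotient.mk (relIdeal W W')) 2 = 2 := map_ofNat _ 2
    have h3 : (Ideal.Quotient.mk (relIdeal W W')) 3 = 3 := map_ofNat _ 3
    try simp only [h2, h3] at h
    exact h
  · have h := mk_rel W W' 2
    simp only [rel, Matrix.cons_val, map_sub, map_add, map_mul, map_pow, sub_eq_zero] at h
    have h2 : (Ideal.Quotient.mk (relIdeal W W')) 2 = 2 := map_ofNat _ 2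
    have h3 : (Ideal.Quotient.mk (relIdeal W W')) 3 = 3 := map_ofNat _ 3
    try simp only [h2, h3] at h
    exact h
  · have h := mk_rel W W' 3
    simp only [rel, Matrix.cons_val, map_sub, map_add, map_mul, map_pow, sub_eq_zero] at h
    have h2 : (Ideal.Quotient.mk (relIdeal W W')) 2 = 2 := map_ofNat _ 2
    have h3 : (Ideal.Quotient.mk (relIdeal W W')) 3 = 3 := map_ofNat _ 3
    try simp only [h2, h3] at h
    exact h
  · have h := mk_rel W W' 4
    simp only [rel, Matrix.cons_val, map_sub, map_add, map_mul, map_pow, sub_eq_zero] at h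
    have h2 : (Ideal.Quotient.mk (relIdeal W W')) 2 = 2 := map_ofNat _ 2
    have h3 : (Ideal.Quotient.mk (relIdeal W W')) 3 = 3 := map_ofNat _ 3
    try simp only [h2, h3] at h
    exact h
  · have h := mk_rel W W' 5
    simp only [rel, Matrix.cons_val, map_sub, map_add, map_mul, map_pow, sub_eq_zero] at h
    have h2 : (Ideal.Quotient.mk (relIdeal W W')) 2 = 2 := map_ofNat _ 2
    have h3 : (Ideal.Quotient.mk (relIdeal W W')) 3 = 3 := map_ofNat _ 3
    try simp only [h2, h3] at h
    exact h

variable {W W'} {B : Type v} [CommRing B] [Algebra A B]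

/-- The homomorphism defined by a change of variables. -/
noncomputable def desc (D : VariableChange B) (hD : D • (W.map (algebraMap A B)) = W'.map (algebraMap A B)) :
    IsomAlg W W' →ₐ[A] B :=
  Ideal.Quotient.liftₐ _ (aeval ![(D.u : B), (↑D.u⁻¹ : B), D.r, D.s, D.t]) (by
    intro a ha
    have hle : relIdeal W W' ≤ RingHom.ker (aeval ![(D.u : B), (↑D.u⁻¹ : B), D.r, D.s, D.t] :
        MvPolynomial (Fin 5) A →ₐ[A] B).toRingHom := by
      rw [relIdeal, Ideal.span_le]
      rintro _ ⟨i, rfl⟩
      obtain ⟨h1, h2, h3, h4, h5⟩ := (smul_eq_iff _ _ _).mp hD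
      simp only [map_a₁, map_a₂, map_a₃, map_a₄, map_a₆] at h1 h2 h3 h4 h5
      fin_cases i
      · simp [rel]
      · simpa [rel, sub_eq_zero] using h1
      · simpa [rel, sub_eq_zero] using h2
      · simpa [rel, sub_eq_zero] using h3
      · simpa [rel, sub_eq_zero] using h4
      · simpa [rel, sub_eq_zero] using h5
    exact hle ha)

theorem univ_map_desc (D : VariableChange B) (hD : D • (W.map (algebraMap A B)) = W'.map (algebraMap A B)) :
    (univ W W').map (desc D hD).toRingHom = D := by
  have key : ∀ i, desc D hD (var W W' i) = ![(D.u : B), (↑D.u⁻¹ : B), D.r, D.s, D.t] i := fun i => by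
    change (aeval ![(D.u : B), (↑D.u⁻¹ : B), D.r, D.s, D.t]) (X i) = _
    rw [aeval_X]
  refine VariableChange.ext (Units.ext ?_) ?_ ?_ ?_
  · exact key 0
  · exact key 2
  · exact key 3
  · exact key 4

theorem hom_ext {f g : IsomAlg W W' →ₐ[A] B}
    (h : (univ W W').map f.toRingHom = (univ W W').map g.toRingHom) : f = g := by
  apply Ideal.Quotient.algHom_ext
  apply MvPolynomial.algHom_ext
  intro i
  have hu : (Units.map (f.toRingHom : _ →* B) (univ W W').u) = (Units.map (g.toRingHom : _ →* B) (univ W W').u) :=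
    congrArg VariableChange.u h
  fin_cases i
  · exact congrArg Units.val hu
  · exact congrArg (fun x : Bˣ => (↑x⁻¹ : B)) hu
  · exact congrArg VariableChange.r h
  · exact congrArg VariableChange.s h
  · exact congrArg VariableChange.t h

theorem smul_map (f : IsomAlg W W' →ₐ[A] B) :
    ((univ W W').map f.toRingHom) • (W.map (algebraMap A B)) = W'.map (algebraMap A B) := by
  have h := congrArg (fun V => V.map f.toRingHom) (univ_smul W W')
  beta_reduce at h
  rw [← map_variableChange, map_map, map_map] at h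
  have e : f.toRingHom.comp (algebraMap A (IsomAlg W W')) = algebraMap A B := f.comp_algebraMap
  rw [e] at h
  exact h

instance finitePresentation : Algebra.FinitePresentation A (IsomAlg W W') := by
  refine Algebra.FinitePresentation.quotient ?_
  exact Submodule.fg_span (Set.finite_range _)

theorem jΔ (V : WeierstrassCurve B) [V.IsElliptic] : V.j * V.Δ = V.c₄ ^ 3 := by
  rw [j, mul_comm _ (V.c₄ ^ 3), mul_assoc, ← V.coe_Δ', Units.inv_mul, mul_one]

theorem jmulΔ (V : WeierstrassCurve B) [V.IsElliptic] : (V.j - 1728) * V.Δ = V.c₆ ^ 2 := by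
  have h := V.c_relation
  have h2 := jΔ V
  linear_combination h2 - h

/-- The algebra of isomorphisms is formally étale if the `j`-invariants agree and avoid `0` and `1728`. -/
theorem formallyEtale [W.IsElliptic] [W'.IsElliptic] (hj : W.j = W'.j) (h0 : IsUnit W.j)
    (h1728 : IsUnit (W.j - 1728)) : Algebra.FormallyEtale A (IsomAlg W W') := by
  rw [Algebra.FormallyEtale.iff_comp_bijective]
  intro B _ _ I hI
  have hI2 : ∀ x ∈ I, ∀ y ∈ I, x * y = 0 := by
    intro x hx y hy
    have : x * y ∈ I ^ 2 := by rw [pow_two]; exact Ideal.mul_mem_mul hx hy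
    rwa [hI, Ideal.mem_bot] at this
  have hnil : I ≤ Ideal.jacobson ⊥ := by
    intro x hx
    apply Ideal.radical_le_jacobson
    exact ⟨2, by rw [pow_two, hI2 x hx x hx]; exact Ideal.zero_mem _⟩
  constructor
  · intro f g hfg
    apply hom_ext
    refine eq_of_smul_eq _ _ ?_ _ _ (smul_map f) (smul_map g) I hnil ?_ ?_ ?_ ?_
    · rw [map_Δ]; exact W.isUnit_Δ.map _
    all_goals
      rw [← Ideal.Quotient.eq]
      exact congrArg (fun k : IsomAlg W W' →ₐ[A] B ⧸ I => k _) hfg
  · intro g
    set D' : VariableChange (B ⧸ I) := (univ W W').map g.toRingHom with hD'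
    have hD'2 := smul_map g
    rw [← hD'] at hD'2
    obtain ⟨u, hu⟩ := Ideal.Quotient.mk_surjective (I := I) (D'.u : B ⧸ I)
    obtain ⟨v, hv⟩ := Ideal.Quotient.mk_surjective (I := I) (↑D'.u⁻¹ : B ⧸ I)
    obtain ⟨r, hr⟩ := Ideal.Quotient.mk_surjective (I := I) D'.r
    obtain ⟨s, hs⟩ := Ideal.Quotient.mk_surjective (I := I) D'.s
    obtain ⟨t, ht⟩ := Ideal.Quotient.mk_surjective (I := I) D'.t
    have huv : u * v - 1 ∈ I := by
      rw [← Ideal.Quotient.eq_zero_iff_mem, map_sub, map_mul, map_one, hu, hv, Units.mul_inv, sub_self]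
    have huu : IsUnit u := by
      refine IsUnit.of_mul_eq_one (v * (1 - (u * v - 1))) ?_
      linear_combination -(hI2 _ huv _ huv)
    let D : VariableChange B := ⟨huu.unit, r, s, t⟩
    have hDq : D.map (Ideal.Quotient.mk I) = D' := by
      refine VariableChange.ext (Units.ext ?_) hr hs ht
      exact hu
    let W₁ := D • (W.map (algebraMap A B))
    let W₂ := W'.map (algebraMap A B)
    have hq : W₁.map (Ideal.Quotient.mk I) = W₂.map (Ideal.Quotient.mk I) := by
      change (D • (W.map (algebraMap A B))).map (Ideal.Quotient.mk I) = (W'.map (algebraMap A B)).map _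
      rw [← map_variableChange, hDq, map_map, map_map]
      exact hD'2
    have hjj : W₁.j = W₂.j := by
      change (D • (W.map (algebraMap A B))).j = (W'.map (algebraMap A B)).j
      rw [variableChange_j, map_j, map_j, hj]
    have hju : IsUnit W₁.j := by
      change IsUnit (D • (W.map (algebraMap A B))).j
      rw [variableChange_j, map_j]; exact h0.map _
    have hju2 : IsUnit (W₁.j - 1728) := by
      change IsUnit ((D • (W.map (algebraMap A B))).j - 1728)
      rw [variableChange_j, map_j]
      have := h1728.map (algebraMap A B)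
      rwa [map_sub, map_ofNat] at this
    have h4 : IsUnit W₁.c₄ := by
      have : IsUnit (W₁.c₄ ^ 3) := by rw [← jΔ]; exact hju.mul W₁.isUnit_Δ
      exact (isUnit_pow_iff (by norm_num)).mp this
    have h6 : IsUnit W₁.c₆ := by
      have : IsUnit (W₁.c₆ ^ 2) := by rw [← jmulΔ]; exact hju2.mul W₁.isUnit_Δ
      exact (isUnit_pow_iff (by norm_num)).mp this
    have hmem : ∀ (x y : B), Ideal.Quotient.mk I x = Ideal.Quotient.mk I y → y - x ∈ I := fun x y h =>
      Ideal.Quotient.eq.mp h.symm
    obtain ⟨E, hE, eu, er, es, et⟩ := exists_lift W₁ W₂ I hI2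
      (hmem _ _ (congrArg WeierstrassCurve.a₁ hq)) (hmem _ _ (congrArg WeierstrassCurve.a₂ hq))
      (hmem _ _ (congrArg WeierstrassCurve.a₃ hq)) (hmem _ _ (congrArg WeierstrassCurve.a₄ hq))
      (hmem _ _ (congrArg WeierstrassCurve.a₆ hq)) W₁.isUnit_Δ h4 h6 (by
        rw [← jΔ, ← jΔ, hjj]; ring)
    have hED : (E * D) • (W.map (algebraMap A B)) = W'.map (algebraMap A B) := by
      rw [mul_smul]; exact hE
    have hE1 : E.map (Ideal.Quotient.mk I) = 1 := by
      refine VariableChange.ext (Units.ext ?_) ?_ ?_ ?_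
      · have := Ideal.Quotient.eq_zero_iff_mem.mpr eu
        rw [map_sub, map_one, sub_eq_zero] at this
        exact this
      · exact Ideal.Quotient.eq_zero_iff_mem.mpr er
      · exact Ideal.Quotient.eq_zero_iff_mem.mpr es
      · exact Ideal.Quotient.eq_zero_iff_mem.mpr et
    refine ⟨desc (E * D) hED, ?_⟩
    apply hom_ext
    have h5 : (univ W W').map ((Ideal.Quotient.mkₐ A I).comp (desc (E * D) hED)).toRingHom
        = ((univ W W').map (desc (E * D) hED).toRingHom).map (Ideal.Quotient.mk I) := rfl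
    rw [h5, univ_map_desc]
    have h6 := (VariableChange.mapHom (Ideal.Quotient.mk I)).map_mul E D
    change (E * D).map _ = (E.map _) * (D.map _) at h6
    rw [h6, hE1, hDq, one_mul]

/-- The algebra of isomorphisms is étale if the `j`-invariants agree and avoid `0` and `1728`. -/
theorem etale [W.IsElliptic] [W'.IsElliptic] (hj : W.j = W'.j) (h0 : IsUnit W.j)
    (h1728 : IsUnit (W.j - 1728)) : Algebra.Etale A (IsomAlg W W') :=
  ⟨formallyEtale hj h0 h1728, finitePresentation⟩

end K820.IsomAlg
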