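import Groth.Agent.EllLift.K820.Rigid
import Groth.Agent.VarietyA.EllDefs

/-!
# Leading coefficients at a section

`LeadData A P Q L`: `P` = functions off a section, `Q` = functions near the section, `L` = functions near the
section and off it, `z` a local equation of the section, `ε` restriction to the section.
-/

set_option autoImplicit false
universe u

namespace K820.LD

open Groth.Agent.VarietyA.Ell (WEq)

/-- Functions off a section, near it, and on the punctured neighbourhood. -/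
structure LeadData (A P Q L : Type u) [CommRing A] [CommRing P] [CommRing Q] [CommRing L] where
  iP : A →+* P
  iQ : A →+* Q
  p : P →+* L
  q : Q →+* L
  comm : ∀ a, p (iP a) = q (iQ a)
  z : Q
  zi : L
  z_mul : q z * zi = 1
  ε : Q →+* A
  ε_i : ∀ a, ε (iQ a) = a
  q_inj : Function.Injective q
  ε_z : ε z = 0
  ker_ε : ∀ b, ε b = 0 → ∃ c, b = z * c

variable {A P Q L : Type u} [CommRing A] [CommRing P] [CommRing Q] [CommRing L] (D : LeadData A P Q L)

namespace LeadData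

/-- `f` has a pole of order at most `n`, with leading coefficient `c`. -/
def Lead (n : ℕ) (f : P) (c : A) : Prop := ∃ b, D.q D.z ^ n * D.p f = D.q b ∧ D.ε b = c

variable {D}

theorem z_cancel {a b : L} (h : D.q D.z * a = D.q D.z * b) : a = b := by
  have h1 := congrArg (fun t => D.zi * t) h
  simp only [← mul_assoc] at h1
  rw [mul_comm D.zi, D.z_mul, one_mul, one_mul] at h1
  exact h1

theorem Lead.add {n : ℕ} {f g : P} {c d : A} (hf : D.Lead n f c) (hg : D.Lead n g d) :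
    D.Lead n (f + g) (c + d) := by
  obtain ⟨b, h, rfl⟩ := hf
  obtain ⟨b', h', rfl⟩ := hg
  exact ⟨b + b', by rw [map_add, mul_add, h, h', map_add], map_add _ _ _⟩

theorem Lead.neg {n : ℕ} {f : P} {c : A} (hf : D.Lead n f c) : D.Lead n (-f) (-c) := by
  obtain ⟨b, h, rfl⟩ := hf
  exact ⟨-b, by rw [map_neg, mul_neg, h, map_neg], map_neg _ _⟩

theorem Lead.sub {n : ℕ} {f g : P} {c d : A} (hf : D.Lead n f c) (hg : D.Lead n g d) :
    D.Lead n (f - g) (c - d) := by
  rw [sub_eq_add_neg, sub_eq_add_neg]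
  exact hf.add hg.neg

theorem Lead.mul {n m : ℕ} {f g : P} {c d : A} (hf : D.Lead n f c) (hg : D.Lead m g d) :
    D.Lead (n + m) (f * g) (c * d) := by
  obtain ⟨b, h, rfl⟩ := hf
  obtain ⟨b', h', rfl⟩ := hg
  exact ⟨b * b', by rw [map_mul, map_mul, ← h, ← h']; ring, map_mul _ _ _⟩

theorem lead_const (c : A) : D.Lead 0 (D.iP c) c :=
  ⟨D.iQ c, by rw [pow_zero, one_mul, D.comm], D.ε_i c⟩

theorem lead_one : D.Lead 0 1 1 := by
  simpa using lead_const (D := D) (1 : A)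

theorem Lead.smul {n : ℕ} {f : P} {c : A} (a : A) (hf : D.Lead n f c) :
    D.Lead n (D.iP a * f) (a * c) := by
  simpa using (lead_const (D := D) a).mul hf

theorem lead_zero (n : ℕ) : D.Lead n 0 0 := ⟨0, by simp, map_zero _⟩

theorem Lead.pow {n : ℕ} {f : P} {c : A} (hf : D.Lead n f c) (i : ℕ) : D.Lead (n * i) (f ^ i) (c ^ i) := by
  induction i with
  | zero => simpa using lead_one (D := D)
  | succ i ih =>
    rw [pow_succ, pow_succ, mul_add, mul_one]
    exact ih.mul hf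

theorem Lead.up {n : ℕ} {f : P} {c : A} (hf : D.Lead n f c) {m : ℕ} (h : n < m) : D.Lead m f 0 := by
  obtain ⟨b, hb, rfl⟩ := hf
  obtain ⟨k, rfl⟩ := Nat.exists_eq_add_of_lt h
  refine ⟨D.z ^ (k + 1) * b, ?_, ?_⟩
  · rw [map_mul, ← hb, map_pow]; ring
  · rw [map_mul, map_pow, D.ε_z, pow_succ, mul_zero, zero_mul]

theorem Lead.down {n : ℕ} {f : P} (hf : D.Lead (n + 1) f 0) : ∃ c, D.Lead n f c := by
  obtain ⟨b, hb, h0⟩ := hf
  obtain ⟨c, rfl⟩ := D.ker_ε b h0
  refine ⟨D.ε c, c, ?_, rfl⟩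
  apply z_cancel (D := D)
  rw [← map_mul, ← hb]; ring

theorem Lead.unique {n : ℕ} {f : P} {c d : A} (hf : D.Lead n f c) (hg : D.Lead n f d) : c = d := by
  obtain ⟨b, h, rfl⟩ := hf
  obtain ⟨b', h', rfl⟩ := hg
  rw [D.q_inj (h.symm.trans h')]

theorem Lead.sum {ι : Type*} (s : Finset ι) {n : ℕ} {f : ι → P} {c : ι → A}
    (h : ∀ i ∈ s, D.Lead n (f i) (c i)) : D.Lead n (∑ i ∈ s, f i) (∑ i ∈ s, c i) := by
  classical
  induction s using Finset.induction_on with
  | empty => simpa using lead_zero n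
  | insert i s hi ih =>
    rw [Finset.sum_insert hi, Finset.sum_insert hi]
    exact (h i (Finset.mem_insert_self i s)).add (ih fun j hj => h j (Finset.mem_insert_of_mem hj))

/-- `H^0(O(e)) = A`: functions with at most a simple pole are constant. -/
def HZero (D : LeadData A P Q L) : Prop := ∀ f : P, ∀ b : Q, D.q D.z * D.p f = D.q b → ∃ c, f = D.iP c

/-- `H^1(O(e)) = 0`. -/
def HOne (D : LeadData A P Q L) : Prop := ∀ h : L, ∃ (a : P) (b : Q), D.q D.z * h = D.q D.z * D.p a + D.q b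

theorem iP_injective (D : LeadData A P Q L) : Function.Injective D.iP := by
  intro a b h
  have := D.comm a
  rw [h, D.comm b] at this
  have h2 := D.q_inj this
  rw [← D.ε_i a, ← D.ε_i b, h2]

theorem HZero.of_lead_one (h0 : D.HZero) {f : P} {c : A} (h : D.Lead 1 f c) : ∃ c, f = D.iP c := by
  obtain ⟨b, hb, -⟩ := h
  exact h0 f b (by rwa [pow_one] at hb)

theorem HZero.of_lead_zero (h0 : D.HZero) {f : P} {c : A} (h : D.Lead 0 f c) : f = D.iP c := by
  obtain ⟨d, rfl⟩ := h0.of_lead_one (h.up Nat.zero_lt_one)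
  rw [h.unique (lead_const d)]

/-- a function of pole order at least two -/
theorem HOne.exists_lead (h1 : D.HOne) (n : ℕ) : ∃ f, D.Lead (n + 2) f 1 := by
  obtain ⟨a, b, h⟩ := h1 (D.zi ^ (n + 2))
  refine ⟨a, 1 - D.z ^ (n + 1) * b, ?_, ?_⟩
  · have h2 : (D.q D.z * D.zi) ^ (n + 2) = 1 := by rw [D.z_mul, one_pow]
    rw [map_sub, map_one, map_mul, map_pow]
    have h3 : D.q D.z ^ (n + 1) * (D.q D.z * D.zi ^ (n + 2)) = 1 := by
      rw [← h2]; ring
    rw [h] at h3
    linear_combination h3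
  · rw [map_sub, map_one, map_mul, map_pow, D.ε_z, pow_succ, mul_zero, zero_mul, sub_zero]

variable {x y : P}

/-- functions of pole order at most two -/
theorem HZero.lead_two (h0 : D.HZero) {u : Aˣ} (hx : D.Lead 2 x u) {f : P} {c : A} (hf : D.Lead 2 f c) :
    ∃ r, f = D.iP (c * ↑u⁻¹) * x + D.iP r := by
  have h1 : D.Lead 2 (f - D.iP (c * ↑u⁻¹) * x) 0 := by
    have := hf.sub (hx.smul (c * ↑u⁻¹))
    rwa [mul_assoc, u.inv_mul, mul_one, sub_self] at this
  obtain ⟨d, hd⟩ := h1.down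
  obtain ⟨r, hr⟩ := h0.of_lead_one hd
  exact ⟨r, by rw [← hr]; ring⟩

/-- functions of pole order at most three -/
theorem HZero.lead_three (h0 : D.HZero) {u v : Aˣ} (hx : D.Lead 2 x u) (hy : D.Lead 3 y v) {f : P} {c : A}
    (hf : D.Lead 3 f c) : ∃ s t, f = D.iP (c * ↑v⁻¹) * y + D.iP s * x + D.iP t := by
  have h1 : D.Lead 3 (f - D.iP (c * ↑v⁻¹) * y) 0 := by
    have := hf.sub (hy.smul (c * ↑v⁻¹))
    rwa [mul_assoc, v.inv_mul, mul_one, sub_self] at this
  obtain ⟨d, hd⟩ := h1.down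
  obtain ⟨r, hr⟩ := h0.lead_two hx hd
  exact ⟨d * ↑u⁻¹, r, by linear_combination hr⟩

/-- linear independence of the monomials of pole order at most six -/
theorem eq_zero_of_sum {u v : Aˣ} (hx : D.Lead 2 x u) (hy : D.Lead 3 y v) {c0 c2 c3 c4 c5 c6 : A}
    (h : D.iP c0 + D.iP c2 * x + D.iP c3 * y + D.iP c4 * x ^ 2 + D.iP c5 * (x * y) + D.iP c6 * x ^ 3 = 0) :
    c0 = 0 ∧ c2 = 0 ∧ c3 = 0 ∧ c4 = 0 ∧ c5 = 0 ∧ c6 = 0 := by
  have H0 : D.Lead 0 (D.iP c0) c0 := lead_const c0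
  have H2 : D.Lead 2 (D.iP c2 * x) (c2 * u) := hx.smul c2
  have H3 : D.Lead 3 (D.iP c3 * y) (c3 * v) := hy.smul c3
  have H4 : D.Lead 4 (D.iP c4 * x ^ 2) (c4 * u ^ 2) := (hx.pow 2).smul c4
  have H5 : D.Lead 5 (D.iP c5 * (x * y)) (c5 * (u * v)) := (hx.mul hy).smul c5
  have H6 : D.Lead 6 (D.iP c6 * x ^ 3) (c6 * u ^ 3) := (hx.pow 3).smul c6
  have h6 : c6 = 0 := by
    have e := ((((H0.up (by norm_num)).add (H2.up (by norm_num))).add (H3.up (by norm_num))).add
      (H4.up (by norm_num))).add (H5.up (by norm_num : 5 < 6)) |>.add H6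
    rw [h] at e
    have := e.unique (lead_zero 6)
    simp only [zero_add, add_zero] at this
    exact (IsUnit.mul_left_eq_zero ((u.isUnit).pow 3)).mp this
  subst h6
  rw [map_zero, zero_mul, add_zero] at h
  have h5 : c5 = 0 := by
    have e := (((H0.up (by norm_num)).add (H2.up (by norm_num))).add (H3.up (by norm_num))).add
      (H4.up (by norm_num : 4 < 5)) |>.add H5
    rw [h] at e
    have := e.unique (lead_zero 5)
    simp only [zero_add, add_zero] at this
    exact (IsUnit.mul_left_eq_zero ((u.isUnit).mul v.isUnit)).mp this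
  subst h5
  rw [map_zero, zero_mul, add_zero] at h
  have h4 : c4 = 0 := by
    have e := ((H0.up (by norm_num)).add (H2.up (by norm_num))).add (H3.up (by norm_num : 3 < 4)) |>.add H4
    rw [h] at e
    have := e.unique (lead_zero 4)
    simp only [zero_add, add_zero] at this
    exact (IsUnit.mul_left_eq_zero ((u.isUnit).pow 2)).mp this
  subst h4
  rw [map_zero, zero_mul, add_zero] at h
  have h3 : c3 = 0 := by
    have e := (H0.up (by norm_num)).add (H2.up (by norm_num : 2 < 3)) |>.add H3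
    rw [h] at e
    have := e.unique (lead_zero 3)
    simp only [zero_add, add_zero] at this
    exact (IsUnit.mul_left_eq_zero v.isUnit).mp this
  subst h3
  rw [map_zero, zero_mul, add_zero] at h
  have h2 : c2 = 0 := by
    have e := (H0.up (by norm_num : 0 < 2)).add H2
    rw [h] at e
    have := e.unique (lead_zero 2)
    simp only [zero_add, add_zero] at this
    exact (IsUnit.mul_left_eq_zero u.isUnit).mp this
  subst h2
  rw [map_zero, zero_mul, add_zero] at h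
  exact ⟨iP_injective D (by rw [h, map_zero]), rfl, rfl, rfl, rfl, rfl⟩

/-- The Weierstrass relation between functions with poles of order two and three. -/
theorem HZero.exists_relation (h0 : D.HZero) (hx : D.Lead 2 x 1) (hy : D.Lead 3 y 1) :
    ∃ W : WeierstrassCurve A, WEq W D.iP x y := by
  have hx' : D.Lead 2 x ((1 : Aˣ) : A) := by simpa using hx
  have hy' : D.Lead 3 y ((1 : Aˣ) : A) := by simpa using hy
  have e6 : D.Lead 6 (y ^ 2 - x ^ 3) 0 := by
    have := (hy.pow 2).sub (hx.pow 3)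
    simpa using this
  obtain ⟨c5, e5⟩ := e6.down
  have e5' : D.Lead 5 (y ^ 2 - x ^ 3 - D.iP c5 * (x * y)) 0 := by
    have := e5.sub ((hx.mul hy).smul c5)
    simpa using this
  obtain ⟨c4, e4⟩ := e5'.down
  have e4' : D.Lead 4 (y ^ 2 - x ^ 3 - D.iP c5 * (x * y) - D.iP c4 * x ^ 2) 0 := by
    have := e4.sub ((hx.pow 2).smul c4)
    simpa using this
  obtain ⟨c3, e3⟩ := e4'.down
  obtain ⟨s, t, hst⟩ := h0.lead_three hx' hy' e3
  refine ⟨⟨-c5, c4, -c3, s, t⟩, ?_⟩
  unfold WEq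
  simp only [map_neg]
  rw [inv_one, Units.val_one, mul_one] at hst
  linear_combination hst

/-- Two pairs of Weierstrass coordinates differ by a change of variables. -/
theorem HZero.exists_variableChange (h0 : D.HZero) {u v u' v' : Aˣ} (hx : D.Lead 2 x u) (hy : D.Lead 3 y v)
    {x' y' : P} (hx' : D.Lead 2 x' u') (hy' : D.Lead 3 y' v') (W W' : WeierstrassCurve A)
    (hW : WEq W D.iP x y) (hW' : WEq W' D.iP x' y') :
    ∃ C : WeierstrassCurve.VariableChange A, C • W = W' ∧ x = D.iP C.u ^ 2 * x' + D.iP C.r ∧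
      y = D.iP C.u ^ 3 * y' + D.iP C.u ^ 2 * D.iP C.s * x' + D.iP C.t := by
  -- the leading coefficients satisfy `v ^ 2 = u ^ 3`
  have key : ∀ {x y : P} {u v : Aˣ} (_ : D.Lead 2 x u) (_ : D.Lead 3 y v) (W : WeierstrassCurve A)
      (_ : WEq W D.iP x y), v ^ 2 = u ^ 3 := by
    intro x y u v hx hy W hW
    unfold WEq at hW
    have e1 : D.Lead 6 (y ^ 2 + D.iP W.a₁ * x * y + D.iP W.a₃ * y) ((v : A) ^ 2 + 0 + 0) := by
      refine ((hy.pow 2).add ?_).add ?_
      · rw [mul_assoc]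
        exact ((hx.mul hy).smul W.a₁).up (by norm_num)
      · exact (hy.smul W.a₃).up (by norm_num)
    have e2 : D.Lead 6 (x ^ 3 + D.iP W.a₂ * x ^ 2 + D.iP W.a₄ * x + D.iP W.a₆) ((u : A) ^ 3 + 0 + 0 + 0) := by
      refine (((hx.pow 3).add ?_).add ?_).add ?_
      · exact ((hx.pow 2).smul W.a₂).up (by norm_num)
      · exact (hx.smul W.a₄).up (by norm_num)
      · exact (lead_const W.a₆).up (by norm_num)
    rw [hW] at e1
    have := e1.unique e2
    simp only [add_zero] at this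
    exact Units.ext (by simpa using this)
  have k1 := key hx hy W hW
  have k2 := key hx' hy' W' hW'
  obtain ⟨r, hr⟩ := h0.lead_two hx' hx
  obtain ⟨s, t, hst⟩ := h0.lead_three hx' hy' hy
  set w : Aˣ := (v * v'⁻¹) * (u * u'⁻¹)⁻¹ with hw
  have w2 : w ^ 2 = u * u'⁻¹ := by
    rw [hw, mul_pow, mul_pow, inv_pow, k1, k2, inv_pow, mul_pow]
    simp only [inv_pow, mul_inv]
    have : u ^ 3 = u * u ^ 2 := by rw [pow_succ]; exact mul_comm _ _
    rw [this]
    have : u' ^ 3 = u' * u' ^ 2 := by rw [pow_succ]; exact mul_comm _ _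
    rw [this, mul_inv, inv_inv]
    have e : u * u ^ 2 * (u'⁻¹ * (u' ^ 2)⁻¹) * ((u ^ 2)⁻¹ * u' ^ 2) =
        u * u'⁻¹ * (u ^ 2 * (u ^ 2)⁻¹) * ((u' ^ 2)⁻¹ * u' ^ 2) := by
      simp only [mul_assoc, mul_comm, mul_left_comm]
    convert e using 1
    · simp
  have w3 : w ^ 3 = v * v'⁻¹ := by
    rw [pow_succ, w2, hw]
    rw [mul_comm (v * v'⁻¹), ← mul_assoc, mul_inv_cancel, one_mul]
  have w2' : (u : A) * ((u'⁻¹ : Aˣ) : A) = (w : A) ^ 2 := by
    rw [← Units.val_mul, ← w2, Units.val_pow_eq_pow_val]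
  have w3' : (v : A) * ((v'⁻¹ : Aˣ) : A) = (w : A) ^ 3 := by
    rw [← Units.val_mul, ← w3, Units.val_pow_eq_pow_val]
  rw [w2'] at hr
  rw [w3'] at hst
  rw [map_pow] at hr hst
  have hww : (w : A) * ((w⁻¹ : Aˣ) : A) = 1 := w.mul_inv
  have hs' : D.iP s = D.iP w ^ 2 * D.iP (((w⁻¹ : Aˣ) : A) ^ 2 * s) := by
    rw [← map_pow, ← map_mul, ← mul_assoc, ← mul_pow, hww, one_pow, one_mul]
  refine ⟨⟨w, r, ((w⁻¹ : Aˣ) : A) ^ 2 * s, t⟩, ?_, hr, ?_⟩
  · rw [Rigid.smul_eq_iff]
    dsimp only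
    set σ : A := ((w⁻¹ : Aˣ) : A) ^ 2 * s with hσ
    have hy2 : y = D.iP w ^ 3 * y' + D.iP w ^ 2 * D.iP σ * x' + D.iP t := by rw [hst, hs']
    unfold WEq at hW hW'
    rw [hr, hy2] at hW
    have := eq_zero_of_sum (D := D) hx' hy'
      (c0 := W.a₆ + r * W.a₄ + r ^ 2 * W.a₂ + r ^ 3 - t * W.a₃ - t ^ 2 - r * t * W.a₁ - w ^ 6 * W'.a₆)
      (c2 := w ^ 2 * (W.a₄ - σ * W.a₃ + 2 * r * W.a₂ - (t + r * σ) * W.a₁ + 3 * r ^ 2 - 2 * σ * t
        - w ^ 4 * W'.a₄))
      (c3 := - (w ^ 3 * (W.a₃ + r * W.a₁ + 2 * t - w ^ 3 * W'.a₃)))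
      (c4 := w ^ 4 * (W.a₂ - σ * W.a₁ + 3 * r - σ ^ 2 - w ^ 2 * W'.a₂))
      (c5 := - (w ^ 5 * (W.a₁ + 2 * σ - w * W'.a₁)))
      (c6 := 0) (by
        simp only [map_sub, map_add, map_mul, map_pow, map_neg, map_zero, map_ofNat]
        linear_combination -hW + D.iP (w : A) ^ 6 * hW')
    obtain ⟨h1, h2, h3, h4, h5, -⟩ := this
    have cancel : ∀ (n : ℕ) (a : A), (w : A) ^ n * a = 0 → a = 0 := fun n a h =>
      (IsUnit.mul_right_eq_zero (w.isUnit.pow n)).mp h
    refine ⟨sub_eq_zero.mp (cancel 5 _ (neg_eq_zero.mp h5)), sub_eq_zero.mp (cancel 4 _ h4),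
      sub_eq_zero.mp (cancel 3 _ (neg_eq_zero.mp h3)), sub_eq_zero.mp (cancel 2 _ h2), sub_eq_zero.mp h1⟩
  · dsimp only
    rw [hst, hs']

end LeadData

end K820.LD
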