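import Groth.Agent.EllLift.K820.LeadBasic
import Mathlib.Algebra.Polynomial.Eval.Degree

/-!
# Functions with at most a simple pole on a Weierstrass curve over a ring are constant
-/

set_option autoImplicit false
universe u

namespace K820.LD

open Polynomial

variable {A P Q L : Type u} [CommRing A] [CommRing P] [CommRing Q] [CommRing L] {D : LeadData A P Q L}

namespace LeadData

theorem lead_eval₂ {x : P} {u : Aˣ} (hx : D.Lead 2 x u) (p : A[X]) (m : ℕ) (hp : ∀ i, m < 2 * i → p.coeff i = 0) :
    D.Lead m (p.eval₂ D.iP x) (∑ i ∈ Finset.range (p.natDegree + 1), if 2 * i = m then p.coeff i * u ^ i else 0) := by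
  rw [eval₂_eq_sum_range]
  refine Lead.sum _ fun i _ => ?_
  rcases lt_trichotomy (2 * i) m with h | h | h
  · rw [if_neg (by omega)]
    exact ((hx.pow i).smul _).up h
  · rw [if_pos h, ← h]
    exact (hx.pow i).smul _
  · rw [if_neg (by omega), hp i h, map_zero, zero_mul]
    exact lead_zero m

theorem lead_eval₂_mul {x y : P} {u v : Aˣ} (hx : D.Lead 2 x u) (hy : D.Lead 3 y v) (p : A[X]) (m : ℕ)
    (hp : ∀ i, m < 2 * i + 3 → p.coeff i = 0) :
    D.Lead m (p.eval₂ D.iP x * y)
      (∑ i ∈ Finset.range (p.natDegree + 1), if 2 * i + 3 = m then p.coeff i * u ^ i * v else 0) := by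
  rw [eval₂_eq_sum_range, Finset.sum_mul]
  refine Lead.sum _ fun i _ => ?_
  rcases lt_trichotomy (2 * i + 3) m with h | h | h
  · rw [if_neg (by omega)]
    exact (((hx.pow i).smul _).mul hy).up h
  · rw [if_pos h, ← h]
    exact ((hx.pow i).smul _).mul hy
  · rw [if_neg (by omega), hp i h, map_zero, zero_mul, zero_mul]
    exact lead_zero m

theorem coeff_eq_zero_of_sum {p : A[X]} {m : ℕ} {g : ℕ → A} (c : ℕ) (hg : ∀ i, g i = 0 → p.coeff i = 0)
    {φ : ℕ → ℕ} (hφ : ∀ i j, φ i = φ j → i = j)
    (h : ∑ i ∈ Finset.range (p.natDegree + 1), (if φ i = m then g i else 0) = 0) (hc : φ c = m) :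
    p.coeff c = 0 := by
  by_cases hcn : c ∈ Finset.range (p.natDegree + 1)
  · rw [Finset.sum_eq_single_of_mem c hcn (fun i _ hi => if_neg fun e => hi (hφ i c (e.trans hc.symm))),
      if_pos hc] at h
    exact hg c h
  · exact coeff_eq_zero_of_natDegree_lt (by simpa using hcn)

theorem const_of_lead_one {x y : P} {u v : Aˣ} (hx : D.Lead 2 x u) (hy : D.Lead 3 y v) (m : ℕ) :
    ∀ (p q : A[X]) (_ : ∀ i, m < 2 * i → p.coeff i = 0) (_ : ∀ i, m < 2 * i + 3 → q.coeff i = 0)
      (c : A) (_ : D.Lead 1 (p.eval₂ D.iP x + q.eval₂ D.iP x * y) c),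
      ∃ c, p.eval₂ D.iP x + q.eval₂ D.iP x * y = D.iP c := by
  induction m with
  | zero =>
    intro p q hp hq c hc
    have hq0 : q = 0 := by
      ext i
      exact (hq i (by omega)).trans (coeff_zero i).symm
    have hp0 : p = C (p.coeff 0) := by
      ext i
      rw [coeff_C]
      split_ifs with h
      · rw [h]
      · exact hp i (by omega)
    refine ⟨p.coeff 0, ?_⟩
    rw [hq0, eval₂_zero, zero_mul, add_zero, hp0, eval₂_C, coeff_C_zero]
  | succ m ih =>
    intro p q hp hq c hc
    by_cases hm : m = 0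
    · subst hm
      exact ih p q (fun i hi => hp i (by omega)) (fun i hi => hq i (by omega)) c hc
    have h1 := (lead_eval₂ hx p (m + 1) hp).add (lead_eval₂_mul hx hy q (m + 1) hq)
    have h2 := h1.unique (hc.up (by omega : 1 < m + 1))
    rcases Nat.even_or_odd' (m + 1) with ⟨k, hk | hk⟩
    · -- even
      have e2 : ∑ i ∈ Finset.range (q.natDegree + 1), (if 2 * i + 3 = m + 1 then q.coeff i * (u : A) ^ i * v else 0) = 0 :=
        Finset.sum_eq_zero fun i _ => if_neg (by omega)
      rw [e2, add_zero] at h2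
      have h3 := coeff_eq_zero_of_sum (p := p) (m := m + 1) k
        (fun i hi => (IsUnit.mul_left_eq_zero (u.isUnit.pow i)).mp hi)
        (φ := fun i => 2 * i) (fun i j h => by simpa using h) h2 (by simpa using hk.symm)
      refine ih p q (fun i hi => ?_) (fun i hi => hq i (by omega)) c hc
      by_cases hik : i = k
      · rw [hik]; exact h3
      · exact hp i (by omega)
    · have e2 : ∑ i ∈ Finset.range (p.natDegree + 1), (if 2 * i = m + 1 then p.coeff i * (u : A) ^ i else 0) = 0 :=
        Finset.sum_eq_zero fun i _ => if_neg (by omega)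
      rw [e2, zero_add] at h2
      obtain ⟨l, rfl⟩ : ∃ l, k = l + 1 := ⟨k - 1, by omega⟩
      have h3 := coeff_eq_zero_of_sum (p := q) (m := m + 1) l
        (fun i hi => (IsUnit.mul_left_eq_zero (u.isUnit.pow i)).mp ((IsUnit.mul_left_eq_zero v.isUnit).mp hi))
        (φ := fun i => 2 * i + 3) (fun i j h => by simpa using h) h2 (by omega)
      refine ih p q (fun i hi => hp i (by omega)) (fun i hi => ?_) c hc
      by_cases hik : i = l
      · rw [hik]; exact h3
      · exact hq i (by omega)

/-- On a Weierstrass curve, functions with at most a simple pole at infinity are constant. -/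
theorem hZero_of_span {x y : P} {u v : Aˣ} (hx : D.Lead 2 x u) (hy : D.Lead 3 y v)
    (hspan : ∀ f : P, ∃ p q : A[X], f = p.eval₂ D.iP x + q.eval₂ D.iP x * y) : D.HZero := by
  intro f b hb
  obtain ⟨p, q, rfl⟩ := hspan f
  refine const_of_lead_one hx hy (max (2 * p.natDegree) (2 * q.natDegree + 3)) p q (fun i hi => ?_) (fun i hi => ?_)
    (D.ε b) ⟨b, by rwa [pow_one], rfl⟩
  · exact coeff_eq_zero_of_natDegree_lt (by omega)
  · exact coeff_eq_zero_of_natDegree_lt (by omega)

end LeadData

end K820.LD
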