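import Groth.Agent.EllLift.K820.LevelGrp
import Groth.Agent.AbSch.K448.PointedHom

/-!
# Moving points inside a level structure
-/

set_option autoImplicit false
universe u

open CategoryTheory CategoryTheory.Limits MonoidalCategory CartesianMonoidalCategory AlgebraicGeometry Opposite
open scoped MonObj

namespace K820.LevelGrp

open Groth.Agent K820.EW

/-- The pair is as independent as a basis of the torsion of level at least three. -/
def C {A : Type u} [Group A] (p r : A) : Prop := p ≠ 1 ∧ r ≠ 1 ∧ p * p ≠ 1 ∧ r ≠ p ∧ r * p ≠ 1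

theorem C.of_map {A B : Type u} [Group A] [Group B] (f : A →* B) {p r : A} (h : C (f p) (f r)) : C p r := by
  obtain ⟨h1, h2, h3, h4, h5⟩ := h
  refine ⟨?_, ?_, ?_, ?_, ?_⟩
  · rintro rfl
    exact h1 (map_one f)
  · rintro rfl
    exact h2 (map_one f)
  · intro h
    exact h3 (by rw [← map_mul, h, map_one])
  · rintro rfl
    exact h4 rfl
  · intro h
    exact h5 (by rw [← map_mul, h, map_one])

theorem C.map_of_mem {A B : Type u} [Group A] [Group B] (f : A →* B) (H : Subgroup A) (hH : ∀ w ∈ H, f w = 1 → w = 1)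
    {p r : A} (hp : p ∈ H) (hr : r ∈ H) (h : C p r) : C (f p) (f r) := by
  obtain ⟨h1, h2, h3, h4, h5⟩ := h
  refine ⟨?_, ?_, ?_, ?_, ?_⟩
  · intro h
    exact h1 (hH _ hp h)
  · intro h
    exact h2 (hH _ hr h)
  · intro h
    exact h3 (hH _ (H.mul_mem hp hp) (by rw [map_mul, h]))
  · intro h
    apply h4
    have h6 : r * p⁻¹ = 1 := hH _ (H.mul_mem hr (H.inv_mem hp)) (by rw [map_mul, map_inv, h, mul_inv_cancel])
    exact mul_inv_eq_one.mp h6
  · intro h
    exact h5 (hH _ (H.mul_mem hr hp) (by rw [map_mul, h]))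

/-- A homomorphism is injective on the subgroup generated by two elements of order dividing `n` if the images generate a
subgroup of order `n ^ 2`. -/
theorem injOn_closure {G A : Type u} [CommGroup G] [Group A] (f : G →* A) {p r : G} {n : ℕ} (hn : 0 < n)
    (hp : p ^ n = 1) (hr : r ^ n = 1) (hcard : Nat.card (Subgroup.closure {f p, f r}) = n ^ 2) :
    ∀ w ∈ Subgroup.closure {p, r}, f w = 1 → w = 1 := by
  let g : Fin n × Fin n → G := fun z => p ^ (z.1 : ℕ) * r ^ (z.2 : ℕ)
  have h1 : (Subgroup.closure {p, r} : Set G) ⊆ Set.range g := by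
    intro z hz
    obtain ⟨i, j, rfl⟩ := Subgroup.mem_closure_pair.mp hz
    have hi : p ^ i = p ^ (i % n).toNat := by
      conv_lhs => rw [← Int.mul_ediv_add_emod i n]
      rw [zpow_add, zpow_mul, zpow_natCast, hp, one_zpow, one_mul, ← zpow_natCast,
        Int.toNat_of_nonneg (Int.emod_nonneg _ (by omega))]
    have hj : r ^ j = r ^ (j % n).toNat := by
      conv_lhs => rw [← Int.mul_ediv_add_emod j n]
      rw [zpow_add, zpow_mul, zpow_natCast, hr, one_zpow, one_mul, ← zpow_natCast,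
        Int.toNat_of_nonneg (Int.emod_nonneg _ (by omega))]
    have hi2 : (i % n).toNat < n := by
      have := Int.emod_lt_of_pos i (by omega : (0 : ℤ) < n)
      omega
    have hj2 : (j % n).toNat < n := by
      have := Int.emod_lt_of_pos j (by omega : (0 : ℤ) < n)
      omega
    exact ⟨(⟨_, hi2⟩, ⟨_, hj2⟩), by simp only [g]; rw [hi, hj]⟩
  have hfin : (Set.range g).Finite := Set.finite_range g
  have hfin' : (Subgroup.closure {p, r} : Set G).Finite := hfin.subset h1
  have h2 : (Subgroup.closure {p, r} : Set G).ncard ≤ n ^ 2 := by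
    have e1 := Set.ncard_image_le (s := (Set.univ : Set (Fin n × Fin n))) (f := g) Set.finite_univ
    rw [Set.image_univ, Set.ncard_univ, Nat.card_eq_fintype_card] at e1
    have e2 : (Set.range g).ncard ≤ n ^ 2 := by
      refine e1.trans (le_of_eq ?_)
      rw [Fintype.card_prod, Fintype.card_fin, pow_two]
    exact (Set.ncard_le_ncard h1 hfin).trans e2
  have hmap : (Subgroup.closure {p, r}).map f = Subgroup.closure {f p, f r} := by
    rw [MonoidHom.map_closure, Set.image_pair]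
  have : Finite (Subgroup.closure {p, r}) := hfin'
  -- the induced surjection between sets of the same cardinality
  let F : Subgroup.closure {p, r} → Subgroup.closure {f p, f r} := fun w =>
    ⟨f w.1, by rw [← hmap]; exact Subgroup.mem_map_of_mem f w.2⟩
  have hsurj : Function.Surjective F := by
    rintro ⟨z, hz⟩
    rw [← hmap] at hz
    obtain ⟨w, hw, rfl⟩ := hz
    exact ⟨⟨w, hw⟩, rfl⟩
  have hcard2 : Nat.card (Subgroup.closure {p, r}) ≤ Nat.card (Subgroup.closure {f p, f r}) := by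
    rw [hcard]
    exact h2
  have hinj : Function.Injective F := (hsurj.bijective_of_nat_card_le hcard2).1
  intro w hw h
  have h3 : F ⟨w, hw⟩ = F 1 := by
    apply Subtype.ext
    change f w = f 1
    rw [h, map_one]
  exact congrArg Subtype.val (hinj h3)

section Fam

variable {S : Scheme.{u}} (J : Over S) [GrpObj J]

/-- The restriction of sections to `T`-points. -/
noncomputable def rho (T : Over S) : (𝟙_ (Over S) ⟶ J) →* (T ⟶ J) where
  toFun σ := toUnit T ≫ σ
  map_one' := MonObj.comp_one _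
  map_mul' _ _ := MonObj.comp_mul _ _ _

/-- Pulling back `T`-points. -/
noncomputable def pb {T T' : Over S} (h : T' ⟶ T) : (T ⟶ J) →* (T' ⟶ J) where
  toFun σ := h ≫ σ
  map_one' := MonObj.comp_one _
  map_mul' _ _ := MonObj.comp_mul _ _ _

theorem pb_rho {T T' : Over S} (h : T' ⟶ T) (σ : 𝟙_ (Over S) ⟶ J) : pb J h (rho J T σ) = rho J T' σ := by
  change h ≫ toUnit T ≫ σ = toUnit T' ≫ σ
  rw [← Category.assoc, toUnit_unique (h ≫ toUnit T) (toUnit T')]

theorem good_iff {σ₀ σ₁ : 𝟙_ (Over S) ⟶ J} : Good J σ₀ σ₁ ↔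
    ∀ (Ω : Type u) [Field Ω] [IsAlgClosed Ω] (t : Spec (CommRingCat.of Ω) ⟶ S),
      C (rho J (Over.mk t) σ₀) (rho J (Over.mk t) σ₁) := by
  have hE : ∀ (Ω : Type u) [Field Ω] (t : Spec (CommRingCat.of Ω) ⟶ S) (σ : 𝟙_ (Over S) ⟶ J)
      (x : 𝟙_ (Over (Spec (CommRingCat.of Ω))) ⟶ Red.bc t J),
      x.left ≫ pullback.fst J.hom t = t ≫ σ.left ↔ Sga3B.RadOpen.ptMulEquiv t J x = rho J (Over.mk t) σ := by
    intro Ω _ t σ x
    have h1 : (Sga3B.RadOpen.ptMulEquiv t J x).left = x.left ≫ pullback.fst J.hom t :=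
      Sga3B.RadOpen.ptEquiv_left t x
    constructor
    · intro hx
      apply Over.OverMorphism.ext
      rw [h1, hx]
      rfl
    · intro hx
      rw [← h1, hx]
      rfl
  constructor
  · intro h Ω _ _ t
    let E := Sga3B.RadOpen.ptMulEquiv t J
    obtain ⟨p, hp⟩ := E.surjective (rho J (Over.mk t) σ₀)
    obtain ⟨r, hr⟩ := E.surjective (rho J (Over.mk t) σ₁)
    have h2 : C p r := h Ω t p r ((hE Ω t σ₀ p).mpr hp) ((hE Ω t σ₁ r).mpr hr)
    have h3 := C.map_of_mem E.toMonoidHom ⊤ (fun w _ hw => E.injective (hw.trans (map_one E).symm)) (Subgroup.mem_top p)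
      (Subgroup.mem_top r) h2
    have h4 : C (E p) (E r) := h3
    rw [hp, hr] at h4
    exact h4
  · intro h Ω _ _ t p r hp hr
    have h2 := h Ω t
    rw [← (hE Ω t σ₀ p).mp hp, ← (hE Ω t σ₁ r).mp hr] at h2
    exact C.of_map (Sga3B.RadOpen.ptMulEquiv t J).toMonoidHom h2

variable (hJ : AgPol.IsAbSch J 1)

include hJ in
theorem isCommMonObj_of_isAbSch : IsCommMonObj J := by
  have h1 := hJ.smooth
  have h2 := hJ.proper
  have h3 := hJ.geomConnected
  have h4 : GeometricallyReduced J.hom := geometricallyReduced_of_ellFib (Genus.ellFib J hJ)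
  exact K448.PointedHom.isCommMonObj J

include hJ in
/-- Restriction to a geometric point is injective on the group generated by a level structure. -/
theorem rho_inj {n : ℕ} (hn : 0 < n) {σ : Fin (2 * 1) → (𝟙_ (Over S) ⟶ J)} (hσ : AgPol.IsLevelStr J 1 n σ)
    (Ω : Type u) [Field Ω] [IsAlgClosed Ω] (t : Spec (CommRingCat.of Ω) ⟶ S) :
    ∀ w ∈ Subgroup.closure {σ 0, σ 1}, rho J (Over.mk t) w = 1 → w = 1 := by
  have hcomm := isCommMonObj_of_isAbSch J hJ
  obtain ⟨h1, h2⟩ := hσ
  obtain ⟨h3, h4⟩ := h2 Ω t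
  have hr : (Set.range fun i => toUnit (Over.mk t) ≫ σ i) = {rho J (Over.mk t) (σ 0), rho J (Over.mk t) (σ 1)} := by
    ext z
    constructor
    · rintro ⟨i, rfl⟩
      fin_cases i
      · exact Or.inl rfl
      · exact Or.inr rfl
    · rintro (rfl | rfl)
      · exact ⟨0, rfl⟩
      · exact ⟨1, rfl⟩
  refine injOn_closure (rho J (Over.mk t)) hn (h1 0) (h1 1) ?_
  have h5 : (Subgroup.closure {rho J (Over.mk t) (σ 0), rho J (Over.mk t) (σ 1)} : Set (Over.mk t ⟶ J)) =
    AgPol.torsSet J n (Over.mk t) := by rw [← h3, hr]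
  have h6 : Nat.card (Subgroup.closure {rho J (Over.mk t) (σ 0), rho J (Over.mk t) (σ 1)}) =
      Nat.card (AgPol.torsSet J n (Over.mk t)) := by
    rw [← h5]
    rfl
  rw [h6, h4]

include hJ in
/-- **Good pairs inside a level structure.** -/
theorem good_of_mem {n : ℕ} (hn : 0 < n) {σ : Fin (2 * 1) → (𝟙_ (Over S) ⟶ J)} (hσ : AgPol.IsLevelStr J 1 n σ)
    {x y : 𝟙_ (Over S) ⟶ J} (hx : x ∈ Subgroup.closure {σ 0, σ 1}) (hy : y ∈ Subgroup.closure {σ 0, σ 1})
    (h : C x y) : Good J x y := by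
  rw [good_iff]
  intro Ω _ _ t
  exact C.map_of_mem (rho J (Over.mk t)) _ (rho_inj J hJ hn hσ Ω t) hx hy h

omit hJ in
/-- Torsion points over a field come from the level structure. -/
theorem exists_section_of_torsion {n : ℕ} {σ : Fin (2 * 1) → (𝟙_ (Over S) ⟶ J)}
    (hσ : AgPol.IsLevelStr J 1 n σ) {K : Type u} [Field K] (j : Spec (CommRingCat.of K) ⟶ S)
    (y : Over.mk j ⟶ J) (hy : y ^ n = 1) :
    ∃ x ∈ Subgroup.closure {σ 0, σ 1}, rho J (Over.mk j) x = y := by
  let Ω := AlgebraicClosure K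
  let a : Spec (CommRingCat.of Ω) ⟶ Spec (CommRingCat.of K) := Spec.map (CommRingCat.ofHom (algebraMap K Ω))
  let t : Spec (CommRingCat.of Ω) ⟶ S := a ≫ j
  let h : Over.mk t ⟶ Over.mk j := Over.homMk a rfl
  have hepi : Epi a := by
    have h1 : Surjective a := ⟨fun p => ⟨IsLocalRing.closedPoint Ω, Subsingleton.elim (α := PrimeSpectrum K) _ _⟩⟩
    have h2 : Flat a := by
      rw [Flat.SpecMap_iff]
      exact RingHom.flat_algebraMap_iff.mpr inferInstance
    exact Flat.epi_of_flat_of_surjective a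
  have hinj : Function.Injective (pb J h) := by
    intro u v huv
    apply Over.OverMorphism.ext
    have h3 : a ≫ u.left = a ≫ v.left := congrArg (fun z : Over.mk t ⟶ J => z.left) huv
    exact (cancel_epi a).mp h3
  obtain ⟨-, h2⟩ := hσ
  obtain ⟨h3, -⟩ := h2 Ω t
  have h4 : pb J h y ∈ AgPol.torsSet J n (Over.mk t) := by
    change (pb J h y) ^ n = 1
    rw [← map_pow, hy, map_one]
  rw [← h3] at h4
  have hr : (Set.range fun i => toUnit (Over.mk t) ≫ σ i) = (pb J h).comp (rho J (Over.mk j)) '' {σ 0, σ 1} := by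
    ext z
    constructor
    · rintro ⟨i, rfl⟩
      fin_cases i
      · exact ⟨σ 0, by simp, pb_rho J h (σ 0)⟩
      · exact ⟨σ 1, by simp, pb_rho J h (σ 1)⟩
    · rintro ⟨x, (rfl | rfl), rfl⟩
      · exact ⟨0, (pb_rho J h (σ 0)).symm⟩
      · exact ⟨1, (pb_rho J h (σ 1)).symm⟩
  rw [hr] at h4
  have h5 : pb J h y ∈ Subgroup.closure ((pb J h).comp (rho J (Over.mk j)) '' {σ 0, σ 1}) := h4
  rw [← MonoidHom.map_closure] at h5
  obtain ⟨x, hx, hxy⟩ := h5
  exact ⟨x, hx, hinj hxy⟩

end Fam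

end K820.LevelGrp
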