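import Groth.Agent.EllLift.K820.Rigid

/-!
# Infinitesimal lifting of changes of variables

`exists_lift`: two Weierstrass equations which are congruent modulo an ideal of square zero and have the same
`j`-invariant, with `Δ`, `c₄`, `c₆` units, are related by a change of variables congruent to the identity.
-/

set_option autoImplicit false

namespace K820.Lift

open WeierstrassCurve K820.Cert K820.Rigid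

variable {R : Type*} [CommRing R]

/-- The value of the form `theta` on a tangent vector. -/
def theta (W : WeierstrassCurve R) (d1 d2 d3 d4 d6 : R) : R :=
  th1 W * d1 + th2 W * d2 + th3 W * d3 + th4 W * d4 + th6 W * d6

/-- linear part of the variation of `b₂` -/
def B2 (W : WeierstrassCurve R) (d1 d2 : R) : R := 2 * W.a₁ * d1 + 4 * d2
/-- linear part of the variation of `b₄` -/
def B4 (W : WeierstrassCurve R) (d1 d3 d4 : R) : R := 2 * d4 + W.a₁ * d3 + W.a₃ * d1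
/-- linear part of the variation of `b₆` -/
def B6 (W : WeierstrassCurve R) (d3 d6 : R) : R := 2 * W.a₃ * d3 + 4 * d6
/-- linear part of the variation of `b₈` -/
def B8 (W : WeierstrassCurve R) (d1 d2 d3 d4 d6 : R) : R :=
  W.a₁ ^ 2 * d6 + 2 * W.a₁ * W.a₆ * d1 + 4 * W.a₂ * d6 + 4 * W.a₆ * d2 - W.a₁ * W.a₃ * d4 - W.a₁ * W.a₄ * d3
    - W.a₃ * W.a₄ * d1 + W.a₃ ^ 2 * d2 + 2 * W.a₂ * W.a₃ * d3 - 2 * W.a₄ * d4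

theorem theta_identity (W : WeierstrassCurve R) (d1 d2 d3 d4 d6 : R) :
    3 * W.Δ * (2 * W.b₂ * B2 W d1 d2 - 24 * B4 W d1 d3 d4)
      - W.c₄ * (-2 * W.b₂ * W.b₈ * B2 W d1 d2 - W.b₂ ^ 2 * B8 W d1 d2 d3 d4 d6 - 24 * W.b₄ ^ 2 * B4 W d1 d3 d4
        - 54 * W.b₆ * B6 W d3 d6 + 9 * (W.b₄ * W.b₆ * B2 W d1 d2 + W.b₂ * W.b₆ * B4 W d1 d3 d4
        + W.b₂ * W.b₄ * B6 W d3 d6)) = W.c₆ * theta W d1 d2 d3 d4 d6 := by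
  simp only [theta, th1, th2, th3, th4, th6, B2, B4, B6, B8, c₄, c₆, Δ, b₂, b₄, b₆, b₈]
  ring

variable (W W' : WeierstrassCurve R) (I : Ideal R) (hI : ∀ x ∈ I, ∀ y ∈ I, x * y = 0)
  (d1 : W'.a₁ - W.a₁ ∈ I) (d2 : W'.a₂ - W.a₂ ∈ I) (d3 : W'.a₃ - W.a₃ ∈ I) (d4 : W'.a₄ - W.a₄ ∈ I)
  (d6 : W'.a₆ - W.a₆ ∈ I)

include hI d1 d2 d3 d4 d6 in
theorem theta_eq_zero (h4 : IsUnit W.c₄) (h6 : IsUnit W.c₆) (hj : W'.c₄ ^ 3 * W.Δ = W.c₄ ^ 3 * W'.Δ) :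
    theta W (W'.a₁ - W.a₁) (W'.a₂ - W.a₂) (W'.a₃ - W.a₃) (W'.a₄ - W.a₄) (W'.a₆ - W.a₆) = 0 := by
  obtain ⟨e1, he1⟩ : ∃ e, e = W'.a₁ - W.a₁ := ⟨_, rfl⟩
  obtain ⟨e2, he2⟩ : ∃ e, e = W'.a₂ - W.a₂ := ⟨_, rfl⟩
  obtain ⟨e3, he3⟩ : ∃ e, e = W'.a₃ - W.a₃ := ⟨_, rfl⟩
  obtain ⟨e4, he4⟩ : ∃ e, e = W'.a₄ - W.a₄ := ⟨_, rfl⟩
  obtain ⟨e6, he6⟩ : ∃ e, e = W'.a₆ - W.a₆ := ⟨_, rfl⟩
  rw [← he1] at d1 ⊢
  rw [← he2] at d2 ⊢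
  rw [← he3] at d3 ⊢
  rw [← he4] at d4 ⊢
  rw [← he6] at d6 ⊢
  have g1 : W'.a₁ = W.a₁ + e1 := by rw [he1]; ring
  have g2 : W'.a₂ = W.a₂ + e2 := by rw [he2]; ring
  have g3 : W'.a₃ = W.a₃ + e3 := by rw [he3]; ring
  have g4 : W'.a₄ = W.a₄ + e4 := by rw [he4]; ring
  have g6 : W'.a₆ = W.a₆ + e6 := by rw [he6]; ring
  have b2 : W'.b₂ = W.b₂ + B2 W e1 e2 := by
    simp only [b₂, B2, g1, g2]
    linear_combination hI _ d1 _ d1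
  have b4 : W'.b₄ = W.b₄ + B4 W e1 e3 e4 := by
    simp only [b₄, B4, g1, g3, g4]
    linear_combination hI _ d1 _ d3
  have b6 : W'.b₆ = W.b₆ + B6 W e3 e6 := by
    simp only [b₆, B6, g3, g6]
    linear_combination hI _ d3 _ d3
  have b8 : W'.b₈ = W.b₈ + B8 W e1 e2 e3 e4 e6 := by
    simp only [b₈, B8, g1, g2, g3, g4, g6]
    linear_combination (W.a₆ + e6) * hI _ d1 _ d1 + 2 * W.a₁ * hI _ d1 _ d6 + 4 * hI _ d2 _ d6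
      - (W.a₄ + e4) * hI _ d1 _ d3 - W.a₁ * hI _ d3 _ d4 - W.a₃ * hI _ d1 _ d4 + (2 * W.a₃ + e3) * hI _ d2 _ d3
      + W.a₂ * hI _ d3 _ d3 - hI _ d4 _ d4
  have m2 : B2 W e1 e2 ∈ I := add_mem (Ideal.mul_mem_left _ _ d1) (Ideal.mul_mem_left _ _ d2)
  have m4 : B4 W e1 e3 e4 ∈ I := add_mem (add_mem (Ideal.mul_mem_left _ _ d4) (Ideal.mul_mem_left _ _ d3))
    (Ideal.mul_mem_left _ _ d1)
  have m6 : B6 W e3 e6 ∈ I := add_mem (Ideal.mul_mem_left _ _ d3) (Ideal.mul_mem_left _ _ d6)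
  have m8 : B8 W e1 e2 e3 e4 e6 ∈ I := by
    refine sub_mem (add_mem (add_mem (sub_mem (sub_mem (sub_mem (add_mem (add_mem (add_mem ?_ ?_) ?_) ?_) ?_) ?_) ?_) ?_) ?_) ?_
    all_goals exact Ideal.mul_mem_left _ _ (by assumption)
  obtain ⟨β2, hβ2⟩ : ∃ e, e = B2 W e1 e2 := ⟨_, rfl⟩
  obtain ⟨β4, hβ4⟩ : ∃ e, e = B4 W e1 e3 e4 := ⟨_, rfl⟩
  obtain ⟨β6, hβ6⟩ : ∃ e, e = B6 W e3 e6 := ⟨_, rfl⟩
  obtain ⟨β8, hβ8⟩ : ∃ e, e = B8 W e1 e2 e3 e4 e6 := ⟨_, rfl⟩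
  have hid := theta_identity W e1 e2 e3 e4 e6
  rw [← hβ2] at b2 m2 hid
  rw [← hβ4] at b4 m4 hid
  rw [← hβ6] at b6 m6 hid
  rw [← hβ8] at b8 m8 hid
  obtain ⟨γ, hγ⟩ : ∃ e, e = 2 * W.b₂ * β2 - 24 * β4 := ⟨_, rfl⟩
  obtain ⟨ε, hε⟩ : ∃ e, e = -2 * W.b₂ * W.b₈ * β2 - W.b₂ ^ 2 * β8 - 24 * W.b₄ ^ 2 * β4
        - 54 * W.b₆ * β6 + 9 * (W.b₄ * W.b₆ * β2 + W.b₂ * W.b₆ * β4 + W.b₂ * W.b₄ * β6) := ⟨_, rfl⟩
  rw [← hγ, ← hε] at hid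
  have mγ : γ ∈ I := by
    rw [hγ]; exact sub_mem (Ideal.mul_mem_left _ _ m2) (Ideal.mul_mem_left _ _ m4)
  have c4 : W'.c₄ = W.c₄ + γ := by
    simp only [c₄, b2, b4, hγ]
    linear_combination hI _ m2 _ m2
  have cΔ : W'.Δ = W.Δ + ε := by
    simp only [Δ, b2, b4, b6, b8, hε]
    linear_combination -2 * W.b₂ * hI _ m2 _ m8 - (W.b₈ + β8) * hI _ m2 _ m2 - 8 * (3 * W.b₄ + β4) * hI _ m4 _ m4
      - 27 * hI _ m6 _ m6 + 9 * (W.b₆ + β6) * hI _ m2 _ m4 + 9 * W.b₂ * hI _ m4 _ m6 + 9 * W.b₄ * hI _ m2 _ m6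
  rw [c4, cΔ] at hj
  have h1 : W.c₄ ^ 2 * (W.c₆ * theta W e1 e2 e3 e4 e6) = 0 := by
    rw [← hid]
    linear_combination hj - (W.Δ * (3 * W.c₄ + γ)) * hI _ mγ _ mγ
  have h2 := (h4.pow 2).mul_right_eq_zero.mp h1
  exact h6.mul_right_eq_zero.mp h2

include hI d1 d2 d3 d4 d6 in
/-- Infinitesimal lifting. -/
theorem exists_lift (hΔ : IsUnit W.Δ) (h4 : IsUnit W.c₄) (h6 : IsUnit W.c₆)
    (hj : W'.c₄ ^ 3 * W.Δ = W.c₄ ^ 3 * W'.Δ) :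
    ∃ C : VariableChange R, C • W = W' ∧ (C.u : R) - 1 ∈ I ∧ C.r ∈ I ∧ C.s ∈ I ∧ C.t ∈ I := by
  have hθ := theta_eq_zero W W' I hI d1 d2 d3 d4 d6 h4 h6 hj
  obtain ⟨e1, he1⟩ : ∃ e, e = W'.a₁ - W.a₁ := ⟨_, rfl⟩
  obtain ⟨e2, he2⟩ : ∃ e, e = W'.a₂ - W.a₂ := ⟨_, rfl⟩
  obtain ⟨e3, he3⟩ : ∃ e, e = W'.a₃ - W.a₃ := ⟨_, rfl⟩
  obtain ⟨e4, he4⟩ : ∃ e, e = W'.a₄ - W.a₄ := ⟨_, rfl⟩
  obtain ⟨e6, he6⟩ : ∃ e, e = W'.a₆ - W.a₆ := ⟨_, rfl⟩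
  rw [← he1] at d1 hθ
  rw [← he2] at d2 hθ
  rw [← he3] at d3 hθ
  rw [← he4] at d4 hθ
  rw [← he6] at d6 hθ
  have g1 : W'.a₁ = W.a₁ + e1 := by rw [he1]; ring
  have g2 : W'.a₂ = W.a₂ + e2 := by rw [he2]; ring
  have g3 : W'.a₃ = W.a₃ + e3 := by rw [he3]; ring
  have g4 : W'.a₄ = W.a₄ + e4 := by rw [he4]; ring
  have g6 : W'.a₆ = W.a₆ + e6 := by rw [he6]; ring
  obtain ⟨δ, hδ⟩ := hΔ
  have hδi : (↑δ⁻¹ : R) * W.Δ = 1 := by rw [← hδ, Units.inv_mul]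
  have hN : ∀ c1 c2 c3 c4 c6 : R, ↑δ⁻¹ * (c1 * e1 + c2 * e2 + c3 * e3 + c4 * e4 + c6 * e6) ∈ I := by
    intro c1 c2 c3 c4 c6
    exact Ideal.mul_mem_left _ _ (add_mem (add_mem (add_mem (add_mem (Ideal.mul_mem_left _ _ d1)
      (Ideal.mul_mem_left _ _ d2)) (Ideal.mul_mem_left _ _ d3)) (Ideal.mul_mem_left _ _ d4))
      (Ideal.mul_mem_left _ _ d6))
  obtain ⟨v, hv⟩ : ∃ e, e = ↑δ⁻¹ * (Nv1 W * e1 + Nv2 W * e2 + Nv3 W * e3 + Nv4 W * e4 + Nv6 W * e6) := ⟨_, rfl⟩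
  obtain ⟨s, hs⟩ : ∃ e, e = ↑δ⁻¹ * (Ns1 W * e1 + Ns2 W * e2 + Ns3 W * e3 + Ns4 W * e4 + Ns6 W * e6) := ⟨_, rfl⟩
  obtain ⟨r, hr⟩ : ∃ e, e = ↑δ⁻¹ * (Nr1 W * e1 + Nr2 W * e2 + Nr3 W * e3 + Nr4 W * e4 + Nr6 W * e6) := ⟨_, rfl⟩
  obtain ⟨t, ht⟩ : ∃ e, e = ↑δ⁻¹ * (Nt1 W * e1 + Nt2 W * e2 + Nt3 W * e3 + Nt4 W * e4 + Nt6 W * e6) := ⟨_, rfl⟩
  have mv : v ∈ I := hv ▸ hN _ _ _ _ _
  have ms : s ∈ I := hs ▸ hN _ _ _ _ _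
  have mr : r ∈ I := hr ▸ hN _ _ _ _ _
  have mt : t ∈ I := ht ▸ hN _ _ _ _ _
  have hvv := hI _ mv _ mv
  have hss := hI _ ms _ ms
  have hrr := hI _ mr _ mr
  have htt := hI _ mt _ mt
  have hrs := hI _ mr _ ms
  have hst := hI _ ms _ mt
  have hrt := hI _ mr _ mt
  have F1 : E1 W v s = e1 := by
    have h := E1_N W e1 e2 e3 e4 e6
    rw [← theta, hθ, mul_zero, add_zero] at h
    have : E1 W v s = ↑δ⁻¹ * (E1 W (Nv1 W * e1 + Nv2 W * e2 + Nv3 W * e3 + Nv4 W * e4 + Nv6 W * e6)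
      (Ns1 W * e1 + Ns2 W * e2 + Ns3 W * e3 + Ns4 W * e4 + Ns6 W * e6)) := by
      rw [hv, hs]; simp only [E1]; ring
    rw [this, h, ← mul_assoc, hδi, one_mul]
  have F2 : E2 W v s r = e2 := by
    have h := E2_N W e1 e2 e3 e4 e6
    rw [← theta, hθ, mul_zero, add_zero] at h
    have : E2 W v s r = ↑δ⁻¹ * (E2 W (Nv1 W * e1 + Nv2 W * e2 + Nv3 W * e3 + Nv4 W * e4 + Nv6 W * e6)
      (Ns1 W * e1 + Ns2 W * e2 + Ns3 W * e3 + Ns4 W * e4 + Ns6 W * e6)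
      (Nr1 W * e1 + Nr2 W * e2 + Nr3 W * e3 + Nr4 W * e4 + Nr6 W * e6)) := by
      rw [hv, hs, hr]; simp only [E2]; ring
    rw [this, h, ← mul_assoc, hδi, one_mul]
  have F3 : E3 W v r t = e3 := by
    have h := E3_N W e1 e2 e3 e4 e6
    have : E3 W v r t = ↑δ⁻¹ * (E3 W (Nv1 W * e1 + Nv2 W * e2 + Nv3 W * e3 + Nv4 W * e4 + Nv6 W * e6)
      (Nr1 W * e1 + Nr2 W * e2 + Nr3 W * e3 + Nr4 W * e4 + Nr6 W * e6)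
      (Nt1 W * e1 + Nt2 W * e2 + Nt3 W * e3 + Nt4 W * e4 + Nt6 W * e6)) := by
      rw [hv, hr, ht]; simp only [E3]; ring
    rw [this, h, ← mul_assoc, hδi, one_mul]
  have F4 : E4 W v s r t = e4 := by
    have h := E4_N W e1 e2 e3 e4 e6
    rw [← theta, hθ, mul_zero, add_zero] at h
    have : E4 W v s r t = ↑δ⁻¹ * (E4 W (Nv1 W * e1 + Nv2 W * e2 + Nv3 W * e3 + Nv4 W * e4 + Nv6 W * e6)
      (Ns1 W * e1 + Ns2 W * e2 + Ns3 W * e3 + Ns4 W * e4 + Ns6 W * e6)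
      (Nr1 W * e1 + Nr2 W * e2 + Nr3 W * e3 + Nr4 W * e4 + Nr6 W * e6)
      (Nt1 W * e1 + Nt2 W * e2 + Nt3 W * e3 + Nt4 W * e4 + Nt6 W * e6)) := by
      rw [hv, hs, hr, ht]; simp only [E4]; ring
    rw [this, h, ← mul_assoc, hδi, one_mul]
  have F6 : E6 W v r t = e6 := by
    have h := E6_N W e1 e2 e3 e4 e6
    rw [← theta, hθ, mul_zero, add_zero] at h
    have : E6 W v r t = ↑δ⁻¹ * (E6 W (Nv1 W * e1 + Nv2 W * e2 + Nv3 W * e3 + Nv4 W * e4 + Nv6 W * e6)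
      (Nr1 W * e1 + Nr2 W * e2 + Nr3 W * e3 + Nr4 W * e4 + Nr6 W * e6)
      (Nt1 W * e1 + Nt2 W * e2 + Nt3 W * e3 + Nt4 W * e4 + Nt6 W * e6)) := by
      rw [hv, hr, ht]; simp only [E6]; ring
    rw [this, h, ← mul_assoc, hδi, one_mul]
  let u : Rˣ := ⟨1 + v, 1 - v, by linear_combination -hvv, by linear_combination -hvv⟩
  have hu : (u : R) = 1 + v := rfl
  refine ⟨⟨u, r, s, t⟩, ?_, ?_, mr, ms, mt⟩
  · have mm : ∀ x ∈ I, ∀ y ∈ I, x * y = 0 := hI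
    have k1 := hI _ mv _ d1
    have k2 := hI _ mv _ d2
    have k3 := hI _ mv _ d3
    have k4 := hI _ mv _ d4
    have k6 := hI _ mv _ d6
    simp only [E1, E2, E3, E4, E6] at F1 F2 F3 F4 F6
    refine (smul_eq_iff _ _ _).mpr ⟨?_, ?_, ?_, ?_, ?_⟩
    · simp only [hu, g1]
      linear_combination F1 - k1
    · simp only [hu, g2]
      linear_combination F2 - (2 + v) * k2 - W.a₂ * hvv - hss
    · simp only [hu, g3]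
      linear_combination F3 - (3 + 3 * v + v ^ 2) * k3 - (3 + v) * W.a₃ * hvv
    · simp only [hu, g4]
      linear_combination F4 - (4 + 6 * v + 4 * v ^ 2 + v ^ 3) * k4 - (6 + 4 * v + v ^ 2) * W.a₄ * hvv
        - W.a₁ * hrs + 3 * hrr - 2 * hst
    · simp only [hu, g6]
      linear_combination F6 - (6 + 15 * v + 20 * v ^ 2 + 15 * v ^ 3 + 6 * v ^ 4 + v ^ 5) * k6
        - (15 + 20 * v + 15 * v ^ 2 + 6 * v ^ 3 + v ^ 4) * W.a₆ * hvv + (W.a₂ + r) * hrr - htt - W.a₁ * hrt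
  · have : ((⟨u, r, s, t⟩ : VariableChange R).u : R) - 1 = v := by
      change (1 + v) - 1 = v; ring
    rw [this]; exact mv

end K820.Lift
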