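import Groth.Agent.EllLift.K820.ModelBC

/-!
# Pulling back Weierstrass coordinates
-/

set_option autoImplicit false
universe u

open CategoryTheory CategoryTheory.Limits AlgebraicGeometry

namespace K820.EW

open Groth.Agent.VarietyA.Ell (WEq WEqInf sc)

variable {A B : Type u} [CommRing A] [CommRing B] {W : WeierstrassCurve A} {X : Scheme.{u}}
  {q : X ⟶ Spec (CommRingCat.of A)} {U V : X.Opens}

theorem app_sc (φ : A →+* B) {X' : Scheme.{u}} {g : X' ⟶ X} {q' : X' ⟶ Spec (CommRingCat.of B)}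
    (h : g ≫ q = q' ≫ Spec.map (CommRingCat.ofHom φ)) (U : X.Opens) :
    (g.app U).hom.comp (sc q U) = (sc q' (g ⁻¹ᵁ U)).comp φ := by
  rw [Scheme.Hom.app_eq_appLE, appLE_sc q g U (g ⁻¹ᵁ U) le_rfl, h, sc_comp_SpecMap]

namespace WCo

/-- Pullback of Weierstrass coordinates. -/
noncomputable def pull (c : WCo W q U V) (φ : A →+* B) {X' : Scheme.{u}} (g : X' ⟶ X)
    (q' : X' ⟶ Spec (CommRingCat.of B)) (h : g ≫ q = q' ≫ Spec.map (CommRingCat.ofHom φ)) :
    WCo (W.map φ) q' (g ⁻¹ᵁ U) (g ⁻¹ᵁ V) where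
  x := g.app U c.x
  y := g.app U c.y
  z := g.app V c.z
  w := g.app V c.w
  eqU := by
    rw [wEq_map_iff, ← app_sc φ h U]
    exact wEq_map c.eqU (g.app U).hom
  eqV := by
    rw [wEqInf_map_iff, ← app_sc φ h V]
    exact wEqInf_map c.eqV (g.app V).hom
  rel_w := by
    have h1 := congrArg (g.app (U ⊓ V)) c.rel_w
    rw [map_mul, map_one] at h1
    refine Eq.trans ?_ h1
    congr 1
    · exact (congrArg (fun t : Γ(X, V) ⟶ Γ(X', g ⁻¹ᵁ (U ⊓ V)) => t c.w)
        (g.naturality (homOfLE (inf_le_right : U ⊓ V ≤ V)).op)).symm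
    · exact (congrArg (fun t : Γ(X, U) ⟶ Γ(X', g ⁻¹ᵁ (U ⊓ V)) => t c.y)
        (g.naturality (homOfLE (inf_le_left : U ⊓ V ≤ U)).op)).symm
  rel_z := by
    have h1 := congrArg (g.app (U ⊓ V)) c.rel_z
    rw [map_mul] at h1
    refine Eq.trans ?_ (h1.trans ?_)
    · congr 1
      · exact (congrArg (fun t : Γ(X, V) ⟶ Γ(X', g ⁻¹ᵁ (U ⊓ V)) => t c.z)
          (g.naturality (homOfLE (inf_le_right : U ⊓ V ≤ V)).op)).symm
      · exact (congrArg (fun t : Γ(X, U) ⟶ Γ(X', g ⁻¹ᵁ (U ⊓ V)) => t c.y)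
          (g.naturality (homOfLE (inf_le_left : U ⊓ V ≤ U)).op)).symm
    · exact (congrArg (fun t : Γ(X, U) ⟶ Γ(X', g ⁻¹ᵁ (U ⊓ V)) => t c.x)
        (g.naturality (homOfLE (inf_le_left : U ⊓ V ≤ U)).op))

variable (c : WCo W q U V) (φ : A →+* B) {X' : Scheme.{u}} (g : X' ⟶ X)
    (q' : X' ⟶ Spec (CommRingCat.of B)) (h : g ≫ q = q' ≫ Spec.map (CommRingCat.ofHom φ))

@[simp] theorem pull_x : (c.pull φ g q' h).x = g.app U c.x := rfl
@[simp] theorem pull_y : (c.pull φ g q' h).y = g.app U c.y := rfl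
@[simp] theorem pull_z : (c.pull φ g q' h).z = g.app V c.z := rfl
@[simp] theorem pull_w : (c.pull φ g q' h).w = g.app V c.w := rfl

theorem pull_homU : (c.pull φ g q' h).homU ≫ Spec.map (CommRingCat.ofHom (bU W φ)) = g ∣_ U ≫ c.homU := by
  rw [homU, homU, Category.assoc, ← Spec.map_comp, ← Scheme.Opens.toSpecΓ_naturality_assoc, ← Spec.map_comp]
  congr 2
  ext1
  apply hom_ext_U
  · ext a
    change liftU _ _ _ (c.pull φ g q' h).eqU (bU W φ (iU W a)) = g.app U (liftU _ _ _ c.eqU (iU W a))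
    rw [bU_i, liftU_iU, liftU_iU]
    exact congrArg (fun t : A →+* _ => t a) (app_sc φ h U).symm
  · change liftU _ _ _ (c.pull φ g q' h).eqU (bU W φ (xU W)) = g.app U (liftU _ _ _ c.eqU (xU W))
    rw [bU_x, liftU_x, liftU_x]
    rfl
  · change liftU _ _ _ (c.pull φ g q' h).eqU (bU W φ (yU W)) = g.app U (liftU _ _ _ c.eqU (yU W))
    rw [bU_y, liftU_y, liftU_y]
    rfl

theorem pull_homV : (c.pull φ g q' h).homV ≫ Spec.map (CommRingCat.ofHom (bC W φ)) = g ∣_ V ≫ c.homV := by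
  rw [homV, homV, Category.assoc, ← Spec.map_comp, ← Scheme.Opens.toSpecΓ_naturality_assoc, ← Spec.map_comp]
  congr 2
  ext1
  apply hom_ext_C
  · ext a
    change liftC _ _ _ (c.pull φ g q' h).eqV (bC W φ (iC W a)) = g.app V (liftC _ _ _ c.eqV (iC W a))
    rw [bC_i, liftC_iC, liftC_iC]
    exact congrArg (fun t : A →+* _ => t a) (app_sc φ h V).symm
  · change liftC _ _ _ (c.pull φ g q' h).eqV (bC W φ (zC W)) = g.app V (liftC _ _ _ c.eqV (zC W))
    rw [bC_z, liftC_z, liftC_z]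
    rfl
  · change liftC _ _ _ (c.pull φ g q' h).eqV (bC W φ (wC W)) = g.app V (liftC _ _ _ c.eqV (wC W))
    rw [bC_w, liftC_w, liftC_w]
    rfl

theorem pull_hom (hUV : U ⊔ V = ⊤) (hUV' : g ⁻¹ᵁ U ⊔ g ⁻¹ᵁ V = ⊤) :
    (c.pull φ g q' h).hom hUV' ≫ bc W φ = g ≫ c.hom hUV := by
  apply hom_ext_sup hUV'
  · rw [← Category.assoc, ι_homU, Category.assoc, ιU_bc, ← Category.assoc, pull_homU, Category.assoc,
      ← c.ι_homU hUV, ← Category.assoc, morphismRestrict_ι, Category.assoc]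
  · rw [← Category.assoc, ι_homV, Category.assoc, ιC_bc, ← Category.assoc, pull_homV, Category.assoc,
      ← c.ι_homV hUV, ← Category.assoc, morphismRestrict_ι, Category.assoc]

/-- If `X'` is the base change of `X`, it is also the base change of the Weierstrass models. -/
theorem isPullback_pull (hUV : U ⊔ V = ⊤) (hUV' : g ⁻¹ᵁ U ⊔ g ⁻¹ᵁ V = ⊤)
    (hP : IsPullback g q' q (Spec.map (CommRingCat.ofHom φ))) :
    IsPullback g ((c.pull φ g q' hP.w).hom hUV') (c.hom hUV) (bc W φ) := by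
  refine IsPullback.of_bot (h₃₁ := Spec.map (CommRingCat.ofHom φ)) (v₂₁ := str (W.map φ)) (v₂₂ := str W) ?_ ?_ ?_
  · rw [hom_str, hom_str]
    exact hP
  · exact (pull_hom c φ g q' hP.w hUV hUV').symm
  · exact isPullback_bc W φ

end WCo

end K820.EW
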