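import Groth.Agent.EllLift.K820.CoPt

/-!
# Normalised Weierstrass coordinates for a pair of sections
-/

set_option autoImplicit false
universe u

open CategoryTheory CategoryTheory.Limits AlgebraicGeometry Opposite

namespace K820.EW

open Groth.Agent.VarietyA.Ell (WEq WEqInf sc)
open Groth.Agent

section

variable {A : Type u} [CommRing A] {X : Scheme.{u}} {q : X ⟶ Spec (CommRingCat.of A)}
  {e : Spec (CommRingCat.of A) ⟶ X} {U : X.Opens}

/-- Weierstrass coordinates normalised by two sections: `P = (0, 0)`, `a₄ = 0`, `x(Q) = a₃`, `a₃` a unit. -/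
structure Norm {W : WeierstrassCurve A} (c : Co W q e U) (P Q : Spec (CommRingCat.of A) ⟶ X) : Prop where
  hPU : ⊤ ≤ P ⁻¹ᵁ U
  hQU : ⊤ ≤ Q ⁻¹ᵁ U
  a₃ : IsUnit W.a₃
  a₄ : W.a₄ = 0
  xP : ev P U hPU c.c.x = 0
  yP : ev P U hPU c.c.y = 0
  xQ : ev Q U hQU c.c.x = W.a₃

theorem Norm.unique [IsProper q] [Smooth q] (hq : EllFib q) (he : e ≫ q = 𝟙 _) {P Q : Spec (CommRingCat.of A) ⟶ X}
    (hP : P ≫ q = 𝟙 _) (hQ : Q ≫ q = 𝟙 _) {W W' : WeierstrassCurve A} {c : Co W q e U} {c' : Co W' q e U}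
    (n : Norm c P Q) (n' : Norm c' P Q) : W = W' ∧ HEq c.hom c'.hom := by
  obtain ⟨C, hC, hx, hy⟩ := c.exists_variableChange hq he c'
  obtain ⟨g1, g2, g3, g4, g6⟩ := (Rigid.smul_eq_iff C W W').mp hC
  have e1 := congrArg (ev P U n.hPU) hx
  have e2 := congrArg (ev P U n.hPU) hy
  have e3 := congrArg (ev Q U n.hQU) hx
  simp only [map_add, map_mul, map_pow, ev_sc P q hP, ev_sc Q q hQ] at e1 e2 e3
  rw [n.xP, n'.xP] at e1
  rw [n.yP, n'.yP, n'.xP] at e2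
  rw [n.xQ, n'.xQ] at e3
  have hr : C.r = 0 := by linear_combination -e1
  have ht : C.t = 0 := by linear_combination -e2
  rw [hr, ht] at g3
  rw [hr] at e3
  have hu : C.u = 1 := by
    have h1 : ((C.u : A) ^ 2 * W'.a₃) * (C.u : A) = ((C.u : A) ^ 2 * W'.a₃) * 1 := by
      linear_combination e3 - g3
    have h2 : IsUnit ((C.u : A) ^ 2 * W'.a₃) := (C.u.isUnit.pow 2).mul n'.a₃
    exact Units.ext (h2.mul_left_cancel h1)
  have hs : C.s = 0 := by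
    rw [hr, ht, n.a₄, n'.a₄] at g4
    have h1 : W.a₃ * C.s = W.a₃ * 0 := by linear_combination -g4
    exact n.a₃.mul_left_cancel h1
  have hC1 : C = 1 := by
    ext
    · rw [hu]; rfl
    · rw [hr]; rfl
    · rw [hs]; rfl
    · rw [ht]; rfl
  have hW : W = W' := by rw [← hC, hC1, one_smul]
  subst hW
  refine ⟨rfl, heq_of_eq (Co.hom_eq_of_eq c c' he ?_ ?_)⟩
  · rw [hx, hu, hr]; simp
  · rw [hy, hu, hs, ht]; simp

theorem exists_norm [IsSeparated q] (he : e ≫ q = 𝟙 _) {P Q : Spec (CommRingCat.of A) ⟶ X}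
    (hP : P ≫ q = 𝟙 _) (hQ : Q ≫ q = 𝟙 _) {W : WeierstrassCurve A} (c : Co W q e U)
    (hPU : ⊤ ≤ P ⁻¹ᵁ U) (hQU : ⊤ ≤ Q ⁻¹ᵁ U)
    (h1 : IsUnit (2 * ev P U hPU c.c.y + W.a₁ * ev P U hPU c.c.x + W.a₃))
    (h2 : IsUnit (ev Q U hQU c.c.x - ev P U hPU c.c.x)) :
    ∃ (W' : WeierstrassCurve A) (c' : Co W' q e U), Norm c' P Q := by
  set xP := ev P U hPU c.c.x with hxP
  set yP := ev P U hPU c.c.y with hyP
  set xQ := ev Q U hQU c.c.x with hxQ
  obtain ⟨a, ha⟩ := h1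
  obtain ⟨b, hb⟩ := h2
  let s : A := ((a⁻¹ : Aˣ) : A) * (W.a₄ + 2 * xP * W.a₂ - yP * W.a₁ + 3 * xP ^ 2)
  let C : WeierstrassCurve.VariableChange A := ⟨a * b⁻¹, xP, s, yP⟩
  obtain ⟨c', hx, hy⟩ := c.exists_change he C
  obtain ⟨g1, g2, g3, g4, g6⟩ := (Rigid.smul_eq_iff C W (C • W)).mp rfl
  have hab : ((a * b⁻¹ : Aˣ) : A) * (b : A) = a := by
    rw [Units.val_mul, mul_assoc, b.inv_mul, mul_one]
  have haa : (a : A) * ((a⁻¹ : Aˣ) : A) = 1 := a.mul_inv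
  have hCu : (C.u : A) = ((a * b⁻¹ : Aˣ) : A) := rfl
  have hCr : C.r = xP := rfl
  have hCs : C.s = s := rfl
  have hCt : C.t = yP := rfl
  have e1 := congrArg (ev P U hPU) hx
  have e2 := congrArg (ev P U hPU) hy
  have e3 := congrArg (ev Q U hQU) hx
  simp only [map_add, map_mul, map_pow, ev_sc P q hP, ev_sc Q q hQ] at e1 e2 e3
  rw [hCr, ← hxP] at e1
  rw [hCt, ← hyP] at e2
  rw [hCr, ← hxQ] at e3
  have huu : IsUnit (C.u : A) := C.u.isUnit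
  have k1 : ev P U hPU c'.c.x = 0 := by
    apply (huu.pow 2).mul_left_cancel
    linear_combination -e1
  have k2 : ev P U hPU c'.c.y = 0 := by
    apply (huu.pow 3).mul_left_cancel
    rw [k1] at e2
    linear_combination -e2
  have k3 : W.a₃ + xP * W.a₁ + 2 * yP = a := by rw [ha]; ring
  have k4 : (a : A) = (C.u : A) ^ 3 * (C • W).a₃ := by
    rw [hCr, hCt] at g3
    rw [← g3, k3]
  have k5 : (b : A) = (C.u : A) ^ 2 * ev Q U hQU c'.c.x := by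
    rw [hb]; linear_combination e3
  refine ⟨C • W, c', hPU, hQU, ?_, ?_, k1, k2, ?_⟩
  · have h3 : IsUnit ((C.u : A) ^ 3 * (C • W).a₃) := by rw [← k4]; exact a.isUnit
    exact isUnit_of_mul_isUnit_right h3
  · apply (huu.pow 4).mul_left_cancel
    rw [← g4, hCr, hCs, hCt]
    have h4 : s * (a : A) = W.a₄ + 2 * xP * W.a₂ - yP * W.a₁ + 3 * xP ^ 2 := by
      simp only [s]
      linear_combination (W.a₄ + 2 * xP * W.a₂ - yP * W.a₁ + 3 * xP ^ 2) * haa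
    rw [← k3] at h4
    linear_combination -h4
  · apply (huu.pow 3).mul_left_cancel
    rw [← k4, ← hab, hCu.symm, k5]
    ring

end

section Pull

variable {A B : Type u} [CommRing A] [CommRing B] (φ : A →+* B) {X X' : Scheme.{u}} {g : X' ⟶ X}
  {q' : X' ⟶ Spec (CommRingCat.of B)} {q : X ⟶ Spec (CommRingCat.of A)}
  (hP : IsPullback g q' q (Spec.map (CommRingCat.ofHom φ)))
  {e : Spec (CommRingCat.of A) ⟶ X} {U : X.Opens} (he : e ≫ q = 𝟙 _)
  {e' : Spec (CommRingCat.of B) ⟶ X'} (he' : e' ≫ q' = 𝟙 _)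
  (hc : e' ≫ g = Spec.map (CommRingCat.ofHom φ) ≫ e)

theorem Norm.pull {W : WeierstrassCurve A} {c : Co W q e U} {P Q : Spec (CommRingCat.of A) ⟶ X} (n : Norm c P Q)
    (hφ : φ.Flat) {P' Q' : Spec (CommRingCat.of B) ⟶ X'} (hP' : P' ≫ g = Spec.map (CommRingCat.ofHom φ) ≫ P)
    (hQ' : Q' ≫ g = Spec.map (CommRingCat.ofHom φ) ≫ Q) :
    Norm (c.pull φ hP he he' hc hφ) P' Q' where
  hPU := top_le_pull φ hP' n.hPU
  hQU := top_le_pull φ hQ' n.hQU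
  a₃ := n.a₃.map φ
  a₄ := by
    change φ W.a₄ = 0
    rw [n.a₄, map_zero]
  xP := by
    change ev P' (g ⁻¹ᵁ U) _ (g.app U c.c.x) = 0
    rw [ev_app P hP' U n.hPU, n.xP, map_zero]
  yP := by
    change ev P' (g ⁻¹ᵁ U) _ (g.app U c.c.y) = 0
    rw [ev_app P hP' U n.hPU, n.yP, map_zero]
  xQ := by
    change ev Q' (g ⁻¹ᵁ U) _ (g.app U c.c.x) = φ W.a₃
    rw [ev_app Q hQ' U n.hQU, n.xQ]

end Pull

end K820.EW
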