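import Groth.Agent.EllLift.K820.Rigid
import Mathlib.AlgebraicGeometry.EllipticCurve.Affine.Point

/-!
# The group isomorphism on points defined by a change of variables

`ptMap C W : W.Point →+ (C • W).Point` sends `(x, y)` to `(u⁻² (x - r), u⁻³ (y - s (x - r) - t))`.
-/

set_option autoImplicit false

universe u

namespace K820.PtVC

open WeierstrassCurve K820.Rigid

variable {F : Type u} [Field F] (C : VariableChange F) (W : WeierstrassCurve F)

/-- new `x`-coordinate -/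
def nx (x : F) : F := (↑C.u⁻¹ : F) ^ 2 * (x - C.r)

/-- new `y`-coordinate -/
def ny (x y : F) : F := (↑C.u⁻¹ : F) ^ 3 * (y - C.s * (x - C.r) - C.t)

theorem uu : (C.u : F) * (↑C.u⁻¹ : F) = 1 := C.u.mul_inv

theorem u_ne : (↑C.u⁻¹ : F) ≠ 0 := C.u⁻¹.ne_zero

theorem nx_inj {x₁ x₂ : F} : nx C x₁ = nx C x₂ ↔ x₁ = x₂ := by
  constructor
  · intro h
    have := mul_left_cancel₀ (pow_ne_zero 2 (u_ne C)) h
    linear_combination this
  · rintro rfl; rfl

theorem equation_iff' (x y : F) : (C • W).toAffine.Equation (nx C x) (ny C x y) ↔ W.toAffine.Equation x y := by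
  rw [Affine.equation_iff', Affine.equation_iff']
  have h : (↑C.u⁻¹ : F) ^ 6 * (y ^ 2 + W.a₁ * x * y + W.a₃ * y - (x ^ 3 + W.a₂ * x ^ 2 + W.a₄ * x + W.a₆))
      = (ny C x y) ^ 2 + (C • W).a₁ * (nx C x) * (ny C x y) + (C • W).a₃ * (ny C x y)
        - ((nx C x) ^ 3 + (C • W).a₂ * (nx C x) ^ 2 + (C • W).a₄ * (nx C x) + (C • W).a₆) := by
    simp only [nx, ny, variableChange_a₁, variableChange_a₂, variableChange_a₃, variableChange_a₄, variableChange_a₆]
    ring
  rw [← h]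
  exact mul_eq_zero_iff_left (pow_ne_zero 6 (u_ne C))

theorem negY_eq (x y : F) : (C • W).toAffine.negY (nx C x) (ny C x y) = ny C x (W.toAffine.negY x y) := by
  simp only [nx, ny, Affine.negY, variableChange_a₁, variableChange_a₃]
  ring

theorem nonsingular_iff' (x y : F) :
    (C • W).toAffine.Nonsingular (nx C x) (ny C x y) ↔ W.toAffine.Nonsingular x y := by
  rw [Affine.nonsingular_iff', Affine.nonsingular_iff', equation_iff']
  refine and_congr_right fun _ => ?_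
  have h1 : (C • W).a₁ * (ny C x y) - (3 * (nx C x) ^ 2 + 2 * (C • W).a₂ * (nx C x) + (C • W).a₄) =
      (↑C.u⁻¹ : F) ^ 4 * ((W.a₁ * y - (3 * x ^ 2 + 2 * W.a₂ * x + W.a₄)) + C.s * (2 * y + W.a₁ * x + W.a₃)) := by
    simp only [nx, ny, variableChange_a₁, variableChange_a₂, variableChange_a₄]
    ring
  have h2 : 2 * (ny C x y) + (C • W).a₁ * (nx C x) + (C • W).a₃ = (↑C.u⁻¹ : F) ^ 3 * (2 * y + W.a₁ * x + W.a₃) := by
    simp only [nx, ny, variableChange_a₁, variableChange_a₃]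
    ring
  have hu := u_ne C
  rw [h1, h2]
  constructor
  · rintro (h | h)
    · by_contra hcon
      push Not at hcon
      exact h (by rw [hcon.1, hcon.2]; ring)
    · exact Or.inr (fun h3 => h (by rw [h3, mul_zero]))
  · rintro (h | h)
    · by_cases h3 : 2 * y + W.a₁ * x + W.a₃ = 0
      · left
        rw [h3, mul_zero, add_zero]
        exact mul_ne_zero (pow_ne_zero 4 hu) h
      · exact Or.inr (mul_ne_zero (pow_ne_zero 3 hu) h3)
    · exact Or.inr (mul_ne_zero (pow_ne_zero 3 hu) h)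

variable [DecidableEq F]

theorem slope_eq {x₁ x₂ y₁ y₂ : F} (h₁ : W.toAffine.Equation x₁ y₁) (h₂ : W.toAffine.Equation x₂ y₂)
    (hxy : ¬(x₁ = x₂ ∧ y₁ = W.toAffine.negY x₂ y₂)) :
    (C • W).toAffine.slope (nx C x₁) (nx C x₂) (ny C x₁ y₁) (ny C x₂ y₂) =
      (↑C.u⁻¹ : F) * (W.toAffine.slope x₁ x₂ y₁ y₂ - C.s) := by
  have hu := u_ne C
  by_cases hx : x₁ = x₂
  · have hy : y₁ ≠ W.toAffine.negY x₂ y₂ := fun h => hxy ⟨hx, h⟩
    obtain rfl := hx
    obtain rfl := Affine.Y_eq_of_Y_ne h₁ h₂ rfl hy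
    have hy' : ny C x₁ y₁ ≠ (C • W).toAffine.negY (nx C x₁) (ny C x₁ y₁) := by
      rw [negY_eq]
      intro h
      have := mul_left_cancel₀ (pow_ne_zero 3 hu) h
      exact hy (by linear_combination this)
    rw [Affine.slope_of_Y_ne rfl hy, Affine.slope_of_Y_ne rfl hy']
    have hd : y₁ - W.toAffine.negY x₁ y₁ ≠ 0 := sub_ne_zero.mpr hy
    have hd' : ny C x₁ y₁ - (C • W).toAffine.negY (nx C x₁) (ny C x₁ y₁)
        = (↑C.u⁻¹ : F) ^ 3 * (y₁ - W.toAffine.negY x₁ y₁) := by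
      rw [negY_eq]; simp only [ny]; ring
    rw [hd', div_eq_iff (mul_ne_zero (pow_ne_zero 3 hu) hd)]
    have key : W.toAffine.slope x₁ x₁ y₁ y₁ * (y₁ - W.toAffine.negY x₁ y₁)
        = 3 * x₁ ^ 2 + 2 * W.a₂ * x₁ + W.a₄ - W.a₁ * y₁ := by
      rw [Affine.slope_of_Y_ne rfl hy, div_mul_cancel₀ _ hd]
    rw [← Affine.slope_of_Y_ne rfl hy]
    have h3 : (↑C.u⁻¹ : F) * (W.toAffine.slope x₁ x₁ y₁ y₁ - C.s) * ((↑C.u⁻¹ : F) ^ 3 * (y₁ - W.toAffine.negY x₁ y₁))
      = (↑C.u⁻¹ : F) ^ 4 * (W.toAffine.slope x₁ x₁ y₁ y₁ * (y₁ - W.toAffine.negY x₁ y₁)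
          - C.s * (y₁ - W.toAffine.negY x₁ y₁)) := by ring
    rw [h3, key]
    simp only [nx, ny, Affine.negY, variableChange_a₁, variableChange_a₂, variableChange_a₄]
    ring
  · have hx' : nx C x₁ ≠ nx C x₂ := fun h => hx ((nx_inj C).mp h)
    rw [Affine.slope_of_X_ne hx, Affine.slope_of_X_ne hx']
    have hd : x₁ - x₂ ≠ 0 := sub_ne_zero.mpr hx
    have hd' : nx C x₁ - nx C x₂ = (↑C.u⁻¹ : F) ^ 2 * (x₁ - x₂) := by simp only [nx]; ring
    rw [hd', div_eq_iff (mul_ne_zero (pow_ne_zero 2 hu) hd)]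
    have h3 : (↑C.u⁻¹ : F) * ((y₁ - y₂) / (x₁ - x₂) - C.s) * ((↑C.u⁻¹ : F) ^ 2 * (x₁ - x₂))
      = (↑C.u⁻¹ : F) ^ 3 * ((y₁ - y₂) / (x₁ - x₂) * (x₁ - x₂) - C.s * (x₁ - x₂)) := by ring
    rw [h3, div_mul_cancel₀ _ hd]
    simp only [ny]
    ring

/-- The map on points. -/
def ptFun : W.toAffine.Point → (C • W).toAffine.Point
  | .zero => .zero
  | .some x y h => .some (nx C x) (ny C x y) ((nonsingular_iff' C W x y).mpr h)

theorem ptFun_add (P Q : W.toAffine.Point) : ptFun C W (P + Q) = ptFun C W P + ptFun C W Q := by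
  rcases P with _ | ⟨x₁, y₁, h₁⟩
  · have : (Affine.Point.zero : W.toAffine.Point) = 0 := rfl
    rw [this, zero_add]
    have h2 : ptFun C W 0 = 0 := rfl
    rw [h2, zero_add]
  rcases Q with _ | ⟨x₂, y₂, h₂⟩
  · have : (Affine.Point.zero : W.toAffine.Point) = 0 := rfl
    rw [this, add_zero]
    have h2 : ptFun C W 0 = 0 := rfl
    rw [h2, add_zero]
  by_cases hxy : x₁ = x₂ ∧ y₁ = W.toAffine.negY x₂ y₂
  · rw [Affine.Point.add_of_Y_eq hxy.1 hxy.2]
    have h2 : ptFun C W 0 = 0 := rfl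
    rw [h2]
    refine (Affine.Point.add_of_Y_eq ?_ ?_).symm
    · rw [hxy.1]
    · rw [negY_eq, hxy.2, hxy.1]
  · have hxy' : ¬(nx C x₁ = nx C x₂ ∧ ny C x₁ y₁ = (C • W).toAffine.negY (nx C x₂) (ny C x₂ y₂)) := by
      rintro ⟨h3, h4⟩
      have h5 := (nx_inj C).mp h3
      refine hxy ⟨h5, ?_⟩
      rw [negY_eq] at h4
      have := mul_left_cancel₀ (pow_ne_zero 3 (u_ne C)) h4
      rw [h5] at this
      linear_combination this
    have hs := slope_eq C W h₁.1 h₂.1 hxy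
    rw [Affine.Point.add_some hxy]
    change Affine.Point.some _ _ _ = Affine.Point.some _ _ _ + Affine.Point.some _ _ _
    rw [Affine.Point.add_some hxy']
    have hX : (C • W).toAffine.addX (nx C x₁) (nx C x₂)
        ((C • W).toAffine.slope (nx C x₁) (nx C x₂) (ny C x₁ y₁) (ny C x₂ y₂))
        = nx C (W.toAffine.addX x₁ x₂ (W.toAffine.slope x₁ x₂ y₁ y₂)) := by
      rw [hs]
      simp only [Affine.addX, nx, variableChange_a₁, variableChange_a₂]
      ring
    have hY : (C • W).toAffine.addY (nx C x₁) (nx C x₂) (ny C x₁ y₁)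
        ((C • W).toAffine.slope (nx C x₁) (nx C x₂) (ny C x₁ y₁) (ny C x₂ y₂))
        = ny C (W.toAffine.addX x₁ x₂ (W.toAffine.slope x₁ x₂ y₁ y₂))
          (W.toAffine.addY x₁ x₂ y₁ (W.toAffine.slope x₁ x₂ y₁ y₂)) := by
      rw [hs]
      simp only [Affine.addX, Affine.addY, Affine.negAddY, Affine.negY, nx, ny, variableChange_a₁, variableChange_a₂,
        variableChange_a₃]
      ring
    rw [Affine.Point.some.injEq]
    exact ⟨hX.symm, hY.symm⟩

/-- The homomorphism on points defined by a change of variables. -/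
def ptMap : W.toAffine.Point →+ (C • W).toAffine.Point where
  toFun := ptFun C W
  map_zero' := rfl
  map_add' := ptFun_add C W

theorem ptMap_some {x y : F} (h : W.toAffine.Nonsingular x y) : ptMap C W (.some x y h) =
    .some (nx C x) (ny C x y) ((nonsingular_iff' C W x y).mpr h) := rfl

theorem ptMap_injective : Function.Injective (ptMap C W) := by
  rw [injective_iff_map_eq_zero]
  rintro (_ | ⟨x, y, h⟩) hP
  · rfl
  · exact absurd hP (by rw [ptMap_some]; exact Affine.Point.some_ne_zero _)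

end K820.PtVC
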