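import Groth.Agent.EllLift.K820.Cert
import Mathlib.RingTheory.Nakayama

/-!
# Rigidity of automorphisms of Weierstrass equations

* `smul_eq_iff`: `C • W = W'` as five polynomial equations without inverses.
* `eq_one_of_smul_eq`: if the discriminant of `W` is a unit and `C • W = W` with `C` congruent to `1` modulo an ideal
  contained in the Jacobson radical, then `C = 1`.
* `eq_of_smul_eq`: same for two changes of variables congruent modulo such an ideal.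
-/

set_option autoImplicit false

namespace K820.Rigid

open WeierstrassCurve K820.Cert

variable {R : Type*} [CommRing R]

theorem units_inv_pow_mul_eq_iff (u : Rˣ) (n : ℕ) (x y : R) : (↑u⁻¹ : R) ^ n * x = y ↔ x = (u : R) ^ n * y := by
  constructor
  · rintro rfl
    rw [← mul_assoc, ← mul_pow, u.mul_inv, one_pow, one_mul]
  · rintro rfl
    rw [← mul_assoc, ← mul_pow, u.inv_mul, one_pow, one_mul]

theorem smul_eq_iff (C : VariableChange R) (W W' : WeierstrassCurve R) : C • W = W' ↔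
    (W.a₁ + 2 * C.s = C.u * W'.a₁) ∧
    (W.a₂ - C.s * W.a₁ + 3 * C.r - C.s ^ 2 = C.u ^ 2 * W'.a₂) ∧
    (W.a₃ + C.r * W.a₁ + 2 * C.t = C.u ^ 3 * W'.a₃) ∧
    (W.a₄ - C.s * W.a₃ + 2 * C.r * W.a₂ - (C.t + C.r * C.s) * W.a₁ + 3 * C.r ^ 2 - 2 * C.s * C.t
      = C.u ^ 4 * W'.a₄) ∧
    (W.a₆ + C.r * W.a₄ + C.r ^ 2 * W.a₂ + C.r ^ 3 - C.t * W.a₃ - C.t ^ 2 - C.r * C.t * W.a₁
      = C.u ^ 6 * W'.a₆) := by
  rw [WeierstrassCurve.ext_iff, variableChange_a₁, variableChange_a₂, variableChange_a₃, variableChange_a₄,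
    variableChange_a₆, units_inv_pow_mul_eq_iff, units_inv_pow_mul_eq_iff, units_inv_pow_mul_eq_iff,
    units_inv_pow_mul_eq_iff]
  have h := units_inv_pow_mul_eq_iff C.u 1 (W.a₁ + 2 * C.s) W'.a₁
  rw [pow_one, pow_one] at h
  rw [h]

/-- The linearised equations. -/
theorem E_mem_sq (W : WeierstrassCurve R) (C : VariableChange R) (h : C • W = W) (J : Ideal R)
    (hu : (C.u : R) - 1 ∈ J) (hr : C.r ∈ J) (hs : C.s ∈ J) (ht : C.t ∈ J) :
    E1 W (C.u - 1) C.s ∈ J ^ 2 ∧ E2 W (C.u - 1) C.s C.r ∈ J ^ 2 ∧ E3 W (C.u - 1) C.r C.t ∈ J ^ 2 ∧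
    E4 W (C.u - 1) C.s C.r C.t ∈ J ^ 2 ∧ E6 W (C.u - 1) C.r C.t ∈ J ^ 2 := by
  obtain ⟨h1, h2, h3, h4, h6⟩ := (smul_eq_iff C W W).mp h
  have mm : ∀ {x y : R}, x ∈ J → y ∈ J → x * y ∈ J ^ 2 := fun hx hy => by
    rw [pow_two]; exact Ideal.mul_mem_mul hx hy
  set v : R := (C.u : R) - 1 with hv
  have hCu : (C.u : R) = 1 + v := by rw [hv]; ring
  rw [hCu] at h1 h2 h3 h4 h6
  refine ⟨?_, ?_, ?_, ?_, ?_⟩
  · have : E1 W v C.s = 0 := by simp only [E1]; linear_combination h1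
    rw [this]; exact Submodule.zero_mem _
  · have : E2 W v C.s C.r = W.a₂ * (v * v) + C.s * C.s := by simp only [E2]; linear_combination h2
    rw [this]
    exact Submodule.add_mem _ (Ideal.mul_mem_left _ _ (mm hu hu)) (mm hs hs)
  · have : E3 W v C.r C.t = (W.a₃ * (3 + v)) * (v * v) := by simp only [E3]; linear_combination h3
    rw [this]
    exact Ideal.mul_mem_left _ _ (mm hu hu)
  · have : E4 W v C.s C.r C.t = (W.a₄ * (6 + 4 * v + v ^ 2)) * (v * v) + W.a₁ * (C.r * C.s) + (-3) * (C.r * C.r)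
        + 2 * (C.s * C.t) := by simp only [E4]; linear_combination h4
    rw [this]
    exact Submodule.add_mem _ (Submodule.add_mem _ (Submodule.add_mem _ (Ideal.mul_mem_left _ _ (mm hu hu))
      (Ideal.mul_mem_left _ _ (mm hr hs))) (Ideal.mul_mem_left _ _ (mm hr hr))) (Ideal.mul_mem_left _ _ (mm hs ht))
  · have : E6 W v C.r C.t = (W.a₆ * (15 + 20 * v + 15 * v ^ 2 + 6 * v ^ 3 + v ^ 4)) * (v * v)
        + (-(W.a₂ + C.r)) * (C.r * C.r) + 1 * (C.t * C.t) + W.a₁ * (C.r * C.t) := by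
      simp only [E6]; linear_combination h6
    rw [this]
    exact Submodule.add_mem _ (Submodule.add_mem _ (Submodule.add_mem _ (Ideal.mul_mem_left _ _ (mm hu hu))
      (Ideal.mul_mem_left _ _ (mm hr hr))) (Ideal.mul_mem_left _ _ (mm ht ht))) (Ideal.mul_mem_left _ _ (mm hr ht))

/-- If `C • W = W` and `C ≡ 1` modulo `J` then `C ≡ 1` modulo `J ^ 2`, provided that the discriminant is a unit. -/
theorem mem_sq_of_smul_eq (W : WeierstrassCurve R) (hW : IsUnit W.Δ) (C : VariableChange R) (h : C • W = W)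
    (J : Ideal R) (hu : (C.u : R) - 1 ∈ J) (hr : C.r ∈ J) (hs : C.s ∈ J) (ht : C.t ∈ J) :
    (C.u : R) - 1 ∈ J ^ 2 ∧ C.r ∈ J ^ 2 ∧ C.s ∈ J ^ 2 ∧ C.t ∈ J ^ 2 := by
  obtain ⟨h1, h2, h3, h4, h6⟩ := E_mem_sq W C h J hu hr hs ht
  have key : ∀ {x : R} (c1 c2 c3 c4 c6 : R), c1 * E1 W (C.u - 1) C.s + c2 * E2 W (C.u - 1) C.s C.r
      + c3 * E3 W (C.u - 1) C.r C.t + c4 * E4 W (C.u - 1) C.s C.r C.t + c6 * E6 W (C.u - 1) C.r C.t = W.Δ * x →
      x ∈ J ^ 2 := by
    intro x c1 c2 c3 c4 c6 hx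
    rw [← Ideal.unit_mul_mem_iff_mem _ hW, ← hx]
    exact Submodule.add_mem _ (Submodule.add_mem _ (Submodule.add_mem _ (Submodule.add_mem _
      (Ideal.mul_mem_left _ _ h1) (Ideal.mul_mem_left _ _ h2)) (Ideal.mul_mem_left _ _ h3))
      (Ideal.mul_mem_left _ _ h4)) (Ideal.mul_mem_left _ _ h6)
  exact ⟨key _ _ _ _ _ (N_E_v W _ _ _ _), key _ _ _ _ _ (N_E_r W _ _ _ _), key _ _ _ _ _ (N_E_s W _ _ _ _),
    key _ _ _ _ _ (N_E_t W _ _ _ _)⟩

/-- Rigidity: an automorphism of a Weierstrass equation with unit discriminant which is congruent to the identity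
modulo an ideal in the Jacobson radical is the identity. -/
theorem eq_one_of_smul_eq (W : WeierstrassCurve R) (hW : IsUnit W.Δ) (C : VariableChange R) (h : C • W = W)
    (J : Ideal R) (hJ : J ≤ Ideal.jacobson ⊥)
    (hu : (C.u : R) - 1 ∈ J) (hr : C.r ∈ J) (hs : C.s ∈ J) (ht : C.t ∈ J) : C = 1 := by
  let J₀ : Ideal R := Ideal.span {(C.u : R) - 1, C.r, C.s, C.t}
  have h0 : J₀ ≤ J := by
    rw [Ideal.span_le]
    rintro x (rfl | rfl | rfl | rfl)
    exacts [hu, hr, hs, ht]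
  have m1 : (C.u : R) - 1 ∈ J₀ := Ideal.subset_span (by simp)
  have m2 : C.r ∈ J₀ := Ideal.subset_span (by simp)
  have m3 : C.s ∈ J₀ := Ideal.subset_span (by simp)
  have m4 : C.t ∈ J₀ := Ideal.subset_span (by simp)
  obtain ⟨k1, k2, k3, k4⟩ := mem_sq_of_smul_eq W hW C h J₀ m1 m2 m3 m4
  have hle : J₀ ≤ J₀ ^ 2 := by
    rw [Ideal.span_le]
    rintro x (rfl | rfl | rfl | rfl)
    exacts [k1, k2, k3, k4]
  have hfg : Submodule.FG J₀ := Submodule.fg_span (Set.toFinite _)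
  have hbot : J₀ = ⊥ := by
    refine Submodule.eq_bot_of_le_smul_of_le_jacobson_bot J₀ J₀ hfg ?_ (h0.trans hJ)
    rw [smul_eq_mul, ← pow_two]
    exact hle
  have hz : ∀ x ∈ J₀, x = 0 := fun x hx => by rwa [hbot, Ideal.mem_bot] at hx
  rw [VariableChange.one_def]
  refine VariableChange.ext (Units.ext ?_) (hz _ m2) (hz _ m3) (hz _ m4)
  rw [Units.val_one]
  exact sub_eq_zero.mp (hz _ m1)

/-- Two changes of variables between two Weierstrass equations with unit discriminant which are congruent modulo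
an ideal in the Jacobson radical are equal. -/
theorem eq_of_smul_eq (W W' : WeierstrassCurve R) (hW : IsUnit W.Δ) (C C' : VariableChange R) (h : C • W = W')
    (h' : C' • W = W') (J : Ideal R) (hJ : J ≤ Ideal.jacobson ⊥)
    (hu : (C.u : R) - C'.u ∈ J) (hr : C.r - C'.r ∈ J) (hs : C.s - C'.s ∈ J) (ht : C.t - C'.t ∈ J) : C = C' := by
  have h1 : (C'⁻¹ * C) • W = W := by
    rw [mul_smul, h, ← h', inv_smul_smul]
  suffices hh : C'⁻¹ * C = 1 by
    rwa [inv_mul_eq_one, eq_comm] at hh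
  have hui : (↑C'.u⁻¹ : R) * C'.u = 1 := C'.u.inv_mul
  refine eq_one_of_smul_eq W hW _ h1 J hJ ?_ ?_ ?_ ?_
  · have : ((C'⁻¹ * C).u : R) - 1 = (↑C'.u⁻¹ : R) * (C.u - C'.u) := by
      simp only [VariableChange.mul_def, VariableChange.inv_def, Units.val_mul]
      linear_combination hui
    rw [this]; exact Ideal.mul_mem_left _ _ hu
  · have : (C'⁻¹ * C).r = (C.r - C'.r) + (-C'.r * (↑C'.u⁻¹ : R) ^ 2 * (C.u + C'.u)) * (C.u - C'.u) := by
      simp only [VariableChange.mul_def, VariableChange.inv_def]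
      linear_combination (-C'.r * ((↑C'.u⁻¹ : R) * C'.u + 1)) * hui
    rw [this]; exact Submodule.add_mem _ hr (Ideal.mul_mem_left _ _ hu)
  · have : (C'⁻¹ * C).s = (C.s - C'.s) + (-C'.s * (↑C'.u⁻¹ : R)) * (C.u - C'.u) := by
      simp only [VariableChange.mul_def, VariableChange.inv_def]
      linear_combination (-C'.s) * hui
    rw [this]; exact Submodule.add_mem _ hs (Ideal.mul_mem_left _ _ hu)
  · have : (C'⁻¹ * C).t = (C.t - C'.t) + (-C'.r * (↑C'.u⁻¹ : R) ^ 2 * C.u ^ 2) * (C.s - C'.s)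
        + ((C'.r * C'.s - C'.t) * (↑C'.u⁻¹ : R) ^ 3 * (C.u ^ 2 + C.u * C'.u + C'.u ^ 2)
          - C'.r * C'.s * (↑C'.u⁻¹ : R) ^ 2 * (C.u + C'.u)) * (C.u - C'.u) := by
      simp only [VariableChange.mul_def, VariableChange.inv_def]
      linear_combination ((C'.r * C'.s - C'.t) * (((↑C'.u⁻¹ : R) * C'.u) ^ 2 + (↑C'.u⁻¹ : R) * C'.u + 1)
        - C'.r * C'.s * ((↑C'.u⁻¹ : R) * C'.u + 1)) * hui
    rw [this]
    exact Submodule.add_mem _ (Submodule.add_mem _ ht (Ideal.mul_mem_left _ _ hs)) (Ideal.mul_mem_left _ _ hu)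

end K820.Rigid
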