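import Groth.Agent.EllLift.K820.SecData
import Groth.Agent.EllLift.K820.TheoremM

/-!
# Weierstrass coordinates near a section from the vanishing of cohomology
-/

set_option autoImplicit false
universe u

open CategoryTheory CategoryTheory.Limits AlgebraicGeometry

namespace K820.EW

open Groth.Agent.VarietyA.Ell (WEq WEqInf sc)

section Ev

variable {A : Type u} [CommRing A] {X : Scheme.{u}} (e : Spec (CommRingCat.of A) ⟶ X)

theorem top_le_preimage_basicOpen {V : X.Opens} (h : ⊤ ≤ e ⁻¹ᵁ V) (f : Γ(X, V)) (hf : IsUnit (ev e V h f)) :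
    ⊤ ≤ e ⁻¹ᵁ X.basicOpen f := by
  intro s _
  rw [Scheme.preimage_basicOpen]
  have h1 : IsUnit (e.appLE V ⊤ h f) := by
    have h5 : (Scheme.ΓSpecIso (CommRingCat.of A)).inv (ev e V h f) = e.appLE V ⊤ h f :=
      congrArg (fun g : Γ(Spec (CommRingCat.of A), ⊤) ⟶ _ => g (e.appLE V ⊤ h f))
        (Scheme.ΓSpecIso (CommRingCat.of A)).hom_inv_id
    rw [← h5]
    exact hf.map (Scheme.ΓSpecIso (CommRingCat.of A)).inv.hom
  have h4 : ⊤ = e ⁻¹ᵁ V := le_antisymm h le_top
  have h5 : ∀ (W : (Spec (CommRingCat.of A)).Opens) (hW : W = e ⁻¹ᵁ V) (h : W ≤ e ⁻¹ᵁ V),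
      IsUnit (e.appLE V W h f) → IsUnit (e.app V f) := by
    rintro W rfl h h0
    rwa [Scheme.Hom.appLE_eq_app] at h0
  rw [Scheme.basicOpen_of_isUnit _ (h5 ⊤ h4 h h1), ← h4]
  trivial

end Ev

namespace SecData

variable {A : Type u} [CommRing A] {X : Scheme.{u}} {q : X ⟶ Spec (CommRingCat.of A)}
  {e : Spec (CommRingCat.of A) ⟶ X} {U : X.Opens} (S : SecData q e U)

/-- Shrink the neighbourhood of the section. -/
noncomputable def shrink (f : Γ(X, S.V)) (hf : IsUnit (ev e S.V S.heV f)) : SecData q e U where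
  he := S.he
  V := X.basicOpen f
  hV := S.hV.basicOpen f
  heV := top_le_preimage_basicOpen e S.heV f hf
  t := X.presheaf.map (homOfLE (X.basicOpen_le f)).op S.t
  ht0 := by rw [ev_res e (X.basicOpen_le f) _ S.heV, S.ht0]
  ht b hb := by
    have h1 : IsLocalization.Away f Γ(X, X.basicOpen f) := S.hV.isLocalization_basicOpen f
    obtain ⟨⟨a, d⟩, had⟩ := IsLocalization.surj (Submonoid.powers f) b
    have had' : b * X.presheaf.map (homOfLE (X.basicOpen_le f)).op d.1 =
      X.presheaf.map (homOfLE (X.basicOpen_le f)).op a := had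
    have hd : IsUnit (X.presheaf.map (homOfLE (X.basicOpen_le f)).op d.1) :=
      IsLocalization.map_units (M := Submonoid.powers f) Γ(X, X.basicOpen f) d
    have ha : ev e S.V S.heV a = 0 := by
      rw [← ev_res e (X.basicOpen_le f) (top_le_preimage_basicOpen e S.heV f hf) S.heV, ← had', map_mul, hb,
        zero_mul]
    obtain ⟨c, rfl⟩ := S.ht a ha
    rw [map_mul] at had'
    obtain ⟨d', hd'⟩ := hd.exists_right_inv
    refine ⟨X.presheaf.map (homOfLE (X.basicOpen_le f)).op c * d', ?_⟩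
    calc b = b * (X.presheaf.map (homOfLE (X.basicOpen_le f)).op d.1 * d') := by rw [hd', mul_one]
      _ = (b * X.presheaf.map (homOfLE (X.basicOpen_le f)).op d.1) * d' := by ring
      _ = _ := by rw [had']; ring
  reg := by
    have h1 : IsLocalization.Away f Γ(X, X.basicOpen f) := S.hV.isLocalization_basicOpen f
    exact IsLocalization.nonZeroDivisors_le_comap (Submonoid.powers f) Γ(X, X.basicOpen f) S.reg
  hU := S.hU

end SecData

/-- Weierstrass coordinates near a section, in the sense of Theorem M; `U` is the complement of the section. -/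
structure Co {A : Type u} [CommRing A] (W : WeierstrassCurve A) {X : Scheme.{u}}
    (q : X ⟶ Spec (CommRingCat.of A)) (e : Spec (CommRingCat.of A) ⟶ X) (U : X.Opens) where
  /-- a neighbourhood of the section -/
  V : X.Opens
  hV : IsAffineOpen V
  heV : ⊤ ≤ e ⁻¹ᵁ V
  hU : ∀ y : X, y ∈ U ↔ y ∉ Set.range e
  /-- the coordinates -/
  c : WCo W q U V
  hz : ∀ b, ev e V heV b = 0 → c.z ∣ b
  hz0 : ev e V heV c.z = 0
  hw0 : ev e V heV c.w = 0
  reg : c.z ∈ nonZeroDivisors Γ(X, V)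

namespace Co

variable {A : Type u} [CommRing A] {W : WeierstrassCurve A} {X : Scheme.{u}}
  {q : X ⟶ Spec (CommRingCat.of A)} {e : Spec (CommRingCat.of A) ⟶ X} {U : X.Opens} (c : Co W q e U)

/-- The underlying local equation. -/
noncomputable def toSecData (he : e ≫ q = 𝟙 _) : SecData q e U where
  he := he
  V := c.V
  hV := c.hV
  heV := c.heV
  t := c.c.z
  ht0 := c.hz0
  ht := c.hz
  reg := c.reg
  hU := c.hU

include c in
theorem cover : U ⊔ c.V = ⊤ := by
  rw [eq_top_iff]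
  intro y _
  by_cases h : y ∈ U
  · exact Or.inl h
  · rw [c.hU, not_not] at h
    obtain ⟨s, rfl⟩ := h
    exact Or.inr (c.heV (x := s) trivial)

/-- The morphism to the Weierstrass model. -/
noncomputable def hom : X ⟶ E W := c.c.hom c.cover

@[reassoc]
theorem hom_str : c.hom ≫ str W = q := c.c.hom_str _

theorem isIso_hom [Smooth q] [IsProper q] (hq : EllFib q) (he : e ≫ q = 𝟙 _) : IsIso c.hom :=
  EW.isIso_hom hq e he c.hV c.heV c.hU c.cover c.c c.hz c.hz0 c.hw0

end Co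

theorem wEqInf_zero {A : Type u} [CommRing A] (W : WeierstrassCurve A) : WEqInf W (RingHom.id A) 0 0 := by
  unfold WEqInf
  simp

/-- The section at infinity of the Weierstrass model. -/
noncomputable def zero {A : Type u} [CommRing A] (W : WeierstrassCurve A) : Spec (CommRingCat.of A) ⟶ E W :=
  Spec.map (CommRingCat.ofHom (liftC (W := W) (RingHom.id A) 0 0 (wEqInf_zero W))) ≫ ιC W

theorem zero_str {A : Type u} [CommRing A] (W : WeierstrassCurve A) : zero W ≫ str W = 𝟙 _ := by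
  rw [zero, Category.assoc, ιC_str, ← Spec.map_comp, ← CommRingCat.ofHom_comp, liftC_comp]
  exact Spec.map_id _

theorem Co.comp_hom {A : Type u} [CommRing A] {W : WeierstrassCurve A} {X : Scheme.{u}}
    {q : X ⟶ Spec (CommRingCat.of A)} {e : Spec (CommRingCat.of A) ⟶ X} {U : X.Opens} (c : Co W q e U)
    (he : e ≫ q = 𝟙 _) : e ≫ c.hom = zero W := by
  have h1 : e = Spec.map (CommRingCat.ofHom (ev e c.V c.heV)) ≫ c.hV.isoSpec.inv ≫ c.V.ι := by
    rw [IsAffineOpen.isoSpec_inv_ι, specMap_ev_fromSpec]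
  have h2 : e ≫ c.hom = Spec.map (CommRingCat.ofHom (ev e c.V c.heV)) ≫ c.hV.isoSpec.inv ≫ c.c.homV ≫ ιC W := by
    have h3 : ∀ f : Spec (CommRingCat.of A) ⟶ X,
        f = Spec.map (CommRingCat.ofHom (ev e c.V c.heV)) ≫ c.hV.isoSpec.inv ≫ c.V.ι →
        f ≫ c.hom = Spec.map (CommRingCat.ofHom (ev e c.V c.heV)) ≫ c.hV.isoSpec.inv ≫ c.c.homV ≫ ιC W := by
      rintro f rfl
      rw [Category.assoc, Category.assoc, Co.hom, WCo.ι_homV]
    exact h3 e h1
  rw [h2, WCo.homV, zero]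
  simp only [Category.assoc]
  rw [IsAffineOpen.isoSpec_inv_toSpecΓ_assoc, ← Spec.map_comp_assoc]
  congr 3
  rw [← CommRingCat.ofHom_comp]
  congr 1
  apply hom_ext_C
  · ext a
    change ev e c.V c.heV (liftC _ _ _ _ (iC W a)) = liftC _ _ _ (wEqInf_zero W) (iC W a)
    rw [liftC_iC, liftC_iC, ev_sc e q he]
    rfl
  · change ev e c.V c.heV (liftC _ _ _ _ (zC W)) = liftC _ _ _ (wEqInf_zero W) (zC W)
    rw [liftC_z, liftC_z, c.hz0]
  · change ev e c.V c.heV (liftC _ _ _ _ (wC W)) = liftC _ _ _ (wEqInf_zero W) (wC W)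
    rw [liftC_w, liftC_w, c.hw0]

namespace SecData

variable {A : Type u} [CommRing A] {X : Scheme.{u}} {q : X ⟶ Spec (CommRingCat.of A)}
  {e : Spec (CommRingCat.of A) ⟶ X} {U : X.Opens} (S : SecData q e U)

open LD LD.LeadData

/-- Functions with poles of order two and three satisfying a Weierstrass equation are coordinates. -/
theorem exists_co_of {x y : Γ(X, U)} {u v : Aˣ} (hx : S.lead.Lead 2 x u) (hy : S.lead.Lead 3 y v)
    (W : WeierstrassCurve A) (hW : WEq W (sc q U) x y) : ∃ c : Co W q e U, c.c.x = x ∧ c.c.y = y := by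
  obtain ⟨b₂, hb₂, hε₂⟩ := hx
  obtain ⟨b₃, hb₃, hε₃⟩ := hy
  have hb₂' : X.presheaf.map (homOfLE (inf_le_right : U ⊓ S.V ≤ S.V)).op S.t ^ 2 *
    X.presheaf.map (homOfLE (inf_le_left : U ⊓ S.V ≤ U)).op x =
    X.presheaf.map (homOfLE (inf_le_right : U ⊓ S.V ≤ S.V)).op b₂ := hb₂
  have hb₃' : X.presheaf.map (homOfLE (inf_le_right : U ⊓ S.V ≤ S.V)).op S.t ^ 3 *
    X.presheaf.map (homOfLE (inf_le_left : U ⊓ S.V ≤ U)).op y =
    X.presheaf.map (homOfLE (inf_le_right : U ⊓ S.V ≤ S.V)).op b₃ := hb₃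
  have hε₂' : ev e S.V S.heV b₂ = u := hε₂
  have hε₃' : ev e S.V S.heV b₃ = v := hε₃
  have hf : IsUnit (ev e S.V S.heV (b₂ * b₃)) := by rw [map_mul, hε₂', hε₃']; exact u.isUnit.mul v.isUnit
  let S' := S.shrink (b₂ * b₃) hf
  have hle : S'.V ≤ S.V := X.basicOpen_le _
  have hle' : U ⊓ S'.V ≤ U ⊓ S.V := inf_le_inf le_rfl hle
  -- restrictions
  have hu : IsUnit (X.presheaf.map (homOfLE hle).op (b₂ * b₃)) := X.toRingedSpace.isUnit_res_basicOpen _
  rw [map_mul] at hu
  obtain ⟨β, hβ⟩ := (isUnit_of_mul_isUnit_right hu).exists_left_inv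
  set r₂ := X.presheaf.map (homOfLE hle).op b₂ with hr₂
  set r₃ := X.presheaf.map (homOfLE hle).op b₃ with hr₃
  have ht' : S'.t = X.presheaf.map (homOfLE hle).op S.t := rfl
  let i := X.presheaf.map (homOfLE (inf_le_right : U ⊓ S'.V ≤ S'.V)).op
  let j := X.presheaf.map (homOfLE (inf_le_left : U ⊓ S'.V ≤ U)).op
  have rr : ∀ a : Γ(X, S.V), i (X.presheaf.map (homOfLE hle).op a) =
      X.presheaf.map (homOfLE hle').op (X.presheaf.map (homOfLE (inf_le_right : U ⊓ S.V ≤ S.V)).op a) := by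
    intro a
    have h2 : X.presheaf.map (homOfLE hle).op ≫ i =
        X.presheaf.map (homOfLE (inf_le_right : U ⊓ S.V ≤ S.V)).op ≫ X.presheaf.map (homOfLE hle').op := by
      rw [← Functor.map_comp, ← Functor.map_comp]
      rfl
    exact congrArg (fun g : Γ(X, S.V) ⟶ _ => g a) h2
  have jj : ∀ a : Γ(X, U), j a =
      X.presheaf.map (homOfLE hle').op (X.presheaf.map (homOfLE (inf_le_left : U ⊓ S.V ≤ U)).op a) := by
    intro a
    have h2 : j =
        X.presheaf.map (homOfLE (inf_le_left : U ⊓ S.V ≤ U)).op ≫ X.presheaf.map (homOfLE hle').op := by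
      rw [← Functor.map_comp]
      rfl
    exact congrArg (fun g : Γ(X, U) ⟶ _ => g a) h2
  have e₂ : i S'.t ^ 2 * j x = i r₂ := by
    rw [ht', rr, jj, hr₂, rr, ← hb₂', map_mul, map_pow]
  have e₃ : i S'.t ^ 3 * j y = i r₃ := by
    rw [ht', rr, jj, hr₃, rr, ← hb₃', map_mul, map_pow]
  have hβ' : i β * i r₃ = 1 := by rw [← map_mul, hβ, map_one]
  have hut : IsUnit (i S'.t) := S'.isUnit_res_t
  have hrw : i (S'.t ^ 3 * β) * j y = 1 := by
    rw [map_mul, map_pow]
    linear_combination i β * e₃ + hβ'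
  have hrz : i (S'.t * r₂ * β) * j y = j x := by
    apply (hut.pow 2).mul_left_cancel
    rw [map_mul, map_mul]
    linear_combination i r₂ * i β * e₃ + i r₂ * hβ' - e₂
  have h2u : IsUnit (r₂ * β) := (isUnit_of_mul_isUnit_left hu).mul (IsUnit.of_mul_eq_one _ hβ)
  have hzt : S'.t * r₂ * β = (r₂ * β) * S'.t := by ring
  refine ⟨⟨S'.V, S'.hV, S'.heV, S'.hU, ⟨x, y, S'.t * r₂ * β, S'.t ^ 3 * β, hW, ?_, hrw, hrz⟩, ?_, ?_, ?_, ?_⟩,
    rfl, rfl⟩
  · have h2 : WEqInf W (sc q (U ⊓ S'.V)) (i (S'.t * r₂ * β)) (i (S'.t ^ 3 * β)) := by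
      refine wEqInf_of_wEq (x := j x) (y := j y) ?_ hrw hrz
      have h5 : j.hom.comp (sc q U) = sc q (U ⊓ S'.V) := sc_res q _
      rw [← h5]
      exact wEq_map hW j.hom
    have h3 : ∀ {s : A →+* Γ(X, S'.V)} {z w : Γ(X, S'.V)} (_ : WEqInf W (i.hom.comp s) (i z) (i w)),
        WEqInf W s z w := by
      intro s z w h
      apply S'.res_injective
      have : ∀ a, (i.hom.comp s) a = i (s a) := fun _ => rfl
      unfold WEqInf at h
      simp only [this] at h
      change i _ = i _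
      simpa only [map_add, map_mul, map_pow] using h
    apply h3
    have h5 : i.hom.comp (sc q S'.V) = sc q (U ⊓ S'.V) := sc_res q _
    rw [h5]
    exact h2
  · intro b hb
    obtain ⟨c, rfl⟩ := S'.ht b hb
    obtain ⟨v, hv⟩ := h2u.exists_right_inv
    refine ⟨v * c, ?_⟩
    linear_combination -(S'.t * c) * hv
  · have h4 : ev e S'.V S'.heV S'.t = 0 := S'.ht0
    change ev e S'.V S'.heV (S'.t * r₂ * β) = 0
    rw [map_mul, map_mul, h4, zero_mul, zero_mul]
  · have h4 : ev e S'.V S'.heV S'.t = 0 := S'.ht0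
    change ev e S'.V S'.heV (S'.t ^ 3 * β) = 0
    rw [map_mul, map_pow, h4]
    ring
  · change S'.t * r₂ * β ∈ nonZeroDivisors _
    rw [hzt]
    exact mul_mem (IsUnit.mem_nonZeroDivisors h2u) S'.reg

theorem exists_co (h0 : S.lead.HZero) (h1 : S.lead.HOne) :
    ∃ W : WeierstrassCurve A, Nonempty (Co W q e U) := by
  obtain ⟨x, hx⟩ := h1.exists_lead 0
  obtain ⟨y, hy⟩ := h1.exists_lead 1
  obtain ⟨W, hW⟩ := h0.exists_relation hx hy
  have hx' : S.lead.Lead 2 x ((1 : Aˣ) : A) := by simpa using hx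
  have hy' : S.lead.Lead 3 y ((1 : Aˣ) : A) := by simpa using hy
  obtain ⟨c, -⟩ := S.exists_co_of hx' hy' W hW
  exact ⟨W, ⟨c⟩⟩

end SecData

end K820.EW
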