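import Groth.Agent.EllLift.K820.FibrePull
import Groth.Agent.EllLift.K820.LeadBasic

/-!
# A section with a local equation on an affine neighbourhood; Weierstrass coordinates from it
-/

set_option autoImplicit false
universe u

open CategoryTheory CategoryTheory.Limits AlgebraicGeometry

namespace K820.EW

open Groth.Agent.VarietyA.Ell (WEq WEqInf sc)

/-- A morphism from `Spec A` into an affine open is evaluation. -/
theorem specMap_ev_fromSpec {A : Type u} [CommRing A] {X : Scheme.{u}} (e : Spec (CommRingCat.of A) ⟶ X)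
    {V : X.Opens} (hV : IsAffineOpen V) (h : ⊤ ≤ e ⁻¹ᵁ V) :
    Spec.map (CommRingCat.ofHom (ev e V h)) ≫ hV.fromSpec = e := by
  have h1 : Spec.map (e.appLE V ⊤ h) ≫ hV.fromSpec =
      (isAffineOpen_top (Spec (CommRingCat.of A))).fromSpec ≫ e :=
    hV.SpecMap_appLE_fromSpec e (isAffineOpen_top _) h
  have h2 : CommRingCat.ofHom (ev e V h) = e.appLE V ⊤ h ≫ (Scheme.ΓSpecIso (CommRingCat.of A)).hom := rfl
  rw [h2, Spec.map_comp, Category.assoc, h1, ← Category.assoc]
  have h3 : Spec.map (Scheme.ΓSpecIso (CommRingCat.of A)).hom ≫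
      (isAffineOpen_top (Spec (CommRingCat.of A))).fromSpec = 𝟙 _ := by
    rw [IsAffineOpen.fromSpec_top, Scheme.isoSpec_Spec_inv, ← Spec.map_comp, Iso.inv_hom_id, Spec.map_id]
  rw [h3, Category.id_comp]

/-- A section `e` of a family with a local equation on an affine open neighbourhood; `U` is the complement of the
section. -/
structure SecData {A : Type u} [CommRing A] {X : Scheme.{u}} (q : X ⟶ Spec (CommRingCat.of A))
    (e : Spec (CommRingCat.of A) ⟶ X) (U : X.Opens) where
  he : e ≫ q = 𝟙 _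
  /-- the neighbourhood -/
  V : X.Opens
  hV : IsAffineOpen V
  heV : ⊤ ≤ e ⁻¹ᵁ V
  /-- the equation -/
  t : Γ(X, V)
  ht0 : ev e V heV t = 0
  ht : ∀ b, ev e V heV b = 0 → t ∣ b
  reg : t ∈ nonZeroDivisors Γ(X, V)
  hU : ∀ y : X, y ∈ U ↔ y ∉ Set.range e

namespace SecData

variable {A : Type u} [CommRing A] {X : Scheme.{u}} {q : X ⟶ Spec (CommRingCat.of A)}
  {e : Spec (CommRingCat.of A) ⟶ X} {U : X.Opens} (S : SecData q e U)

include S

theorem cover : U ⊔ S.V = ⊤ := by
  rw [eq_top_iff]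
  intro y _
  by_cases h : y ∈ U
  · exact Or.inl h
  · rw [S.hU, not_not] at h
    obtain ⟨s, rfl⟩ := h
    exact Or.inr (S.heV (x := s) trivial)

theorem basicOpen_t : X.basicOpen S.t = U ⊓ S.V := by
  ext y
  constructor
  · intro hy
    have hyV : y ∈ S.V := X.basicOpen_le _ hy
    refine ⟨(S.hU y).mpr ?_, hyV⟩
    rintro ⟨s, rfl⟩
    have h1 : s ∈ e ⁻¹ᵁ X.basicOpen S.t := hy
    rw [Scheme.preimage_basicOpen] at h1
    have h2 : e.app S.V S.t = 0 := by
      have h3 : e.appLE S.V ⊤ S.heV S.t = 0 := by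
        have h4 := S.ht0
        have h5 : (Scheme.ΓSpecIso (CommRingCat.of A)).inv (ev e S.V S.heV S.t) = e.appLE S.V ⊤ S.heV S.t :=
          congrArg (fun f : Γ(Spec (CommRingCat.of A), ⊤) ⟶ _ => f (e.appLE S.V ⊤ S.heV S.t))
            (Scheme.ΓSpecIso (CommRingCat.of A)).hom_inv_id
        rw [← h5, h4, map_zero]
      have h4 : ⊤ = e ⁻¹ᵁ S.V := le_antisymm S.heV le_top
      have h5 : ∀ (W : (Spec (CommRingCat.of A)).Opens) (hW : W = e ⁻¹ᵁ S.V) (h : W ≤ e ⁻¹ᵁ S.V),
          e.appLE S.V W h S.t = 0 → e.app S.V S.t = 0 := by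
        rintro W rfl h h0
        rwa [Scheme.Hom.appLE_eq_app] at h0
      exact h5 ⊤ h4 S.heV h3
    rw [h2, Scheme.basicOpen_zero] at h1
    exact h1
  · rintro ⟨hyU, hyV⟩
    by_contra hy
    apply (S.hU y).mp hyU
    obtain ⟨p, hp⟩ : ∃ p, S.hV.fromSpec p = y := by
      have : y ∈ Set.range S.hV.fromSpec := by rw [S.hV.range_fromSpec]; exact hyV
      exact this
    have hp' : S.t ∈ p.asIdeal := by
      by_contra h
      apply hy
      have h1 : p ∈ S.hV.fromSpec ⁻¹ᵁ X.basicOpen S.t := by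
        rw [S.hV.fromSpec_preimage_basicOpen]
        exact h
      rw [← hp]
      exact h1
    have hsurj : Function.Surjective (ev e S.V S.heV) := fun a =>
      ⟨sc q S.V a, ev_sc e q S.he S.V S.heV a⟩
    have hker : RingHom.ker (ev e S.V S.heV) ≤ p.asIdeal := by
      intro b hb
      obtain ⟨c, rfl⟩ := S.ht b hb
      exact Ideal.mul_mem_right _ _ hp'
    obtain ⟨s, hs⟩ : ∃ s : PrimeSpectrum A, PrimeSpectrum.comap (ev e S.V S.heV) s = p := by
      have h1 := range_comap_of_surjective _ (ev e S.V S.heV) hsurj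
      have h2 : p ∈ Set.range (PrimeSpectrum.comap (ev e S.V S.heV)) := by
        rw [h1]
        exact hker
      exact h2
    refine ⟨s, ?_⟩
    rw [← hp, ← hs]
    have h1 := specMap_ev_fromSpec e S.hV S.heV
    exact (congrArg (fun f : Spec (CommRingCat.of A) ⟶ X => f s) h1).symm

/-- restriction of the equation to the punctured neighbourhood -/
theorem isUnit_res_t : IsUnit (X.presheaf.map (homOfLE (inf_le_right : U ⊓ S.V ≤ S.V)).op S.t) := by
  have h1 := X.toRingedSpace.isUnit_res_basicOpen S.t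
  have h2 : ∀ (W : X.Opens) (_ : W = X.basicOpen S.t) (h : W ≤ S.V), IsUnit (X.presheaf.map (homOfLE h).op S.t) := by
    rintro W rfl h
    exact h1
  exact h2 _ S.basicOpen_t.symm _

theorem res_injective :
    Function.Injective (X.presheaf.map (homOfLE (inf_le_right : U ⊓ S.V ≤ S.V)).op) := by
  have h2 : ∀ (W : X.Opens) (_ : W = X.basicOpen S.t) (h : W ≤ S.V),
      Function.Injective (X.presheaf.map (homOfLE h).op) := by
    rintro W rfl h
    have h1 : IsLocalization.Away S.t Γ(X, X.basicOpen S.t) := S.hV.isLocalization_basicOpen S.t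
    exact IsLocalization.injective (M := Submonoid.powers S.t) Γ(X, X.basicOpen S.t)
      (Submonoid.powers_le.mpr S.reg)
  exact h2 _ S.basicOpen_t.symm _

/-- The functions off the section, near it, and on the punctured neighbourhood. -/
noncomputable def lead : LD.LeadData A Γ(X, U) Γ(X, S.V) Γ(X, U ⊓ S.V) where
  iP := sc q U
  iQ := sc q S.V
  p := (X.presheaf.map (homOfLE (inf_le_left : U ⊓ S.V ≤ U)).op).hom
  q := (X.presheaf.map (homOfLE (inf_le_right : U ⊓ S.V ≤ S.V)).op).hom
  comm a := by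
    change X.presheaf.map _ (sc q U a) = X.presheaf.map _ (sc q S.V a)
    rw [sc_res_apply, sc_res_apply]
  z := S.t
  zi := S.isUnit_res_t.exists_right_inv.choose
  z_mul := S.isUnit_res_t.exists_right_inv.choose_spec
  ε := ev e S.V S.heV
  ε_i := ev_sc e q S.he S.V S.heV
  q_inj := S.res_injective
  ε_z := S.ht0
  ker_ε b hb := S.ht b hb

end SecData

end K820.EW
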