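import Groth.Agent.EllLift.K820.FamFib

/-!
# Gluing along a basis of affine opens
-/

set_option autoImplicit false
universe u

open CategoryTheory CategoryTheory.Limits MonoidalCategory CartesianMonoidalCategory AlgebraicGeometry Opposite

namespace K820

/-- A collection of affine opens of `S`, stable by passing to smaller affine opens and covering `S`. -/
structure ABasis (S : Scheme.{u}) where
  /-- The predicate. -/
  P : S.Opens → Prop
  aff : ∀ {T : S.Opens}, P T → IsAffineOpen T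
  mono : ∀ {T T' : S.Opens}, P T → IsAffineOpen T' → T' ≤ T → P T'
  ex : ∀ s : S, ∃ T, P T ∧ s ∈ T

namespace ABasis

variable {S : Scheme.{u}} (b : ABasis S)

/-- The associated open cover. -/
noncomputable def cover : S.OpenCover where
  I₀ := {T : S.Opens // b.P T}
  X T := Spec Γ(S, T.1)
  f T := (b.aff T.2).fromSpec
  mem₀ := by
    rw [Scheme.presieve₀_mem_precoverage_iff]
    refine ⟨fun x => ?_, fun T => ?_⟩
    · obtain ⟨T, hT, hx⟩ := b.ex x
      refine ⟨⟨T, hT⟩, ?_⟩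
      change x ∈ Set.range (b.aff hT).fromSpec
      rw [IsAffineOpen.range_fromSpec]
      exact hx
    · change IsOpenImmersion (b.aff T.2).fromSpec
      infer_instance

instance : Preorder b.cover.I₀ := inferInstanceAs <| Preorder {T : S.Opens // b.P T}

theorem exists_le {U : S.Opens} {s : S} (hs : s ∈ U) : ∃ T, b.P T ∧ s ∈ T ∧ T ≤ U := by
  obtain ⟨T, hT, hx⟩ := b.ex s
  obtain ⟨T', h0, h1, h2⟩ := TopologicalSpace.Opens.isBasis_iff_nbhd.mp S.isBasis_affineOpens
    (show s ∈ T ⊓ U from ⟨hx, hs⟩)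
  exact ⟨T', b.mono hT h0 (h2.trans inf_le_left), h1, h2.trans inf_le_right⟩

theorem opensRange_f (i : b.cover.I₀) : (b.cover.f i).opensRange = i.1 :=
  IsAffineOpen.opensRange_fromSpec _

noncomputable instance : b.cover.LocallyDirected :=
  .ofIsBasisOpensRange (by
    intro i j
    rw [opensRange_f, opensRange_f]
    exact Iff.rfl) (by
    rw [TopologicalSpace.Opens.isBasis_iff_nbhd]
    intro U x hx
    obtain ⟨T, h1, h2, h3⟩ := b.exists_le hx
    refine ⟨T, ⟨⟨T, h1⟩, ?_⟩, h2, h3⟩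
    exact IsAffineOpen.opensRange_fromSpec _)

/-- Gluing morphisms. -/
theorem exists_hom {X Y : Scheme.{u}} (p : X ⟶ S)
    (ψ : ∀ (T : S.Opens) (hT : b.P T), (pullback p (b.aff hT).fromSpec ⟶ Y))
    (hψ : ∀ (T T' : S.Opens) (hT : b.P T) (hT' : b.P T') (_ : T' ≤ T)
      (m : pullback p (b.aff hT').fromSpec ⟶ pullback p (b.aff hT).fromSpec)
      (_ : m ≫ pullback.fst _ _ = pullback.fst _ _), m ≫ ψ T hT = ψ T' hT') :
    ∃ Ψ : X ⟶ Y, ∀ (T : S.Opens) (hT : b.P T), pullback.fst p (b.aff hT).fromSpec ≫ Ψ = ψ T hT := by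
  let g : ∀ i : (b.cover.pullback₁ p).I₀, (b.cover.pullback₁ p).X i ⟶ Y := fun i => ψ i.1 i.2
  have hg : ∀ {i j : (b.cover.pullback₁ p).I₀} (hij : i ⟶ j),
      Scheme.Cover.trans (b.cover.pullback₁ p) hij ≫ g j = g i := by
    intro i j hij
    refine hψ j.1 i.1 j.2 i.2 (leOfHom (X := b.cover.I₀) (x := i) (y := j) hij) _ ?_
    exact Scheme.Cover.trans_map (b.cover.pullback₁ p) hij
  refine ⟨Scheme.OpenCover.glueMorphismsOfLocallyDirected (b.cover.pullback₁ p) g hg, fun T hT => ?_⟩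
  exact Scheme.OpenCover.map_glueMorphismsOfLocallyDirected (b.cover.pullback₁ p) g hg ⟨T, hT⟩

/-- Gluing sections. -/
theorem exists_section (a : ∀ T : S.Opens, b.P T → Γ(S, T))
    (ha : ∀ (T T' : S.Opens) (hT : b.P T) (hT' : b.P T') (h : T' ≤ T),
      S.presheaf.map (homOfLE h).op (a T hT) = a T' hT') :
    ∃ c : Γ(S, ⊤), ∀ (T : S.Opens) (hT : b.P T), S.presheaf.map (homOfLE le_top).op c = a T hT := by
  obtain ⟨c, hc, -⟩ := S.sheaf.existsUnique_gluing' (fun i : b.cover.I₀ => i.1) ⊤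
    (fun i => homOfLE le_top) (by
      intro s _
      obtain ⟨T, hT, hs⟩ := b.ex s
      exact TopologicalSpace.Opens.mem_iSup.mpr ⟨⟨T, hT⟩, hs⟩) (fun i => a i.1 i.2) (by
      intro i j
      refine S.sheaf.eq_of_locally_eq' (fun k : {k : b.cover.I₀ // k.1 ≤ i.1 ⊓ j.1} => k.1.1) _
        (fun k => homOfLE k.2) ?_ _ _ ?_
      · intro s hs
        obtain ⟨T, h1, h2, h3⟩ := b.exists_le hs
        exact TopologicalSpace.Opens.mem_iSup.mpr ⟨⟨⟨T, h1⟩, h3⟩, h2⟩
      · rintro ⟨k, hk⟩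
        have h1 := ha i.1 k.1 i.2 k.2 (hk.trans inf_le_left)
        have h2 := ha j.1 k.1 j.2 k.2 (hk.trans inf_le_right)
        refine Eq.trans (Eq.trans ?_ (h1.trans h2.symm)) ?_
        · change (S.presheaf.map _ ≫ S.presheaf.map _) _ = _
          rw [← S.presheaf.map_comp]
          rfl
        · change _ = (S.presheaf.map _ ≫ S.presheaf.map _) _
          rw [← S.presheaf.map_comp]
          rfl)
  exact ⟨c, fun T hT => hc ⟨T, hT⟩⟩

end ABasis

end K820
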